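import Cfsg.Agent.HNIndex.Cover

/-!
The order of the stabiliser of a double coset from a certificate: generators from equations give the lower bound, and
traces in the representation of degree 133 give the upper bound.
-/

set_option autoImplicit false
set_option Elab.async false

namespace Cfsg.Lib.HNIndex

open Cfsg.Lib Cfsg.Lib.HNPres Cfsg.Lib.HNRep Cfsg.Lib.CosetCert

/-- The packed matrix of a letter. -/
def letN : ℕ → ℕ
  | 0 => packRows matX
  | 1 => packRows matXi
  | 2 => packRows matY
  | 3 => packRows matYi
  | 4 => packRows matZ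
  | _ => packRows matT

/-- The packed matrix of a word with a flag, and the identity at the start. -/
def matW : List ℕ → ℕ × Bool
  | [] => (packRows (idMat 133), true)
  | l :: w =>
    let r := matW w
    let m := mul1 (letN l) r.1
    (m.1, r.2 && m.2 && Nat.blt l 6)

theorem packs_ok : packOK matX = true ∧ packOK matXi = true ∧ packOK matY = true ∧ packOK matYi = true ∧
    packOK matZ = true ∧ packOK matT = true ∧ packOK (idMat 133) = true := by decide +kernel

theorem ok1_let (l : ℕ) (h : l < 6) : Ok1 (psi (im6 l)) (letN l) := by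
  obtain ⟨e0, e1, e2, e3, e4⟩ := phi_im0
  obtain ⟨p0, p1, p2, p3, p4, p5, -⟩ := packs_ok
  interval_cases l
  · refine ok1_pack p0 ?_
    rw [show im6 0 = xg from e0, xg, hnGen, psi_of]
    exact ok_x.2.trans (by simp [rho])
  · refine ok1_pack p1 ?_
    rw [show im6 1 = xg⁻¹ from e1, map_inv, xg, hnGen, psi_of]
    exact ok_xi.2.trans (by rw [map_inv]; simp [rho])
  · refine ok1_pack p2 ?_
    rw [show im6 2 = yg from e2, yg, hnGen, psi_of]
    exact ok_y.2.trans (by simp [rho])
  · refine ok1_pack p3 ?_
    rw [show im6 3 = yg⁻¹ from e3, map_inv, yg, hnGen, psi_of]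
    exact ok_yi.2.trans (by rw [map_inv]; simp [rho])
  · refine ok1_pack p4 ?_
    rw [show im6 4 = zg from e4, zg, hnGen, psi_of]
    exact ok_z.2.trans (by simp [rho])
  · refine ok1_pack p5 ?_
    rw [show im6 5 = tg from rfl, tg, hnGen, psi_of]
    exact ok_t.2.trans (by simp [rho])

theorem matW_nil : matW [] = (packRows (idMat 133), true) := matW.eq_1

theorem ok1_word (w : List ℕ) : (matW w).2 = true → Ok1 (psi (CosetCert.wval im6 w)) (matW w).1 := by
  induction w with
  | nil =>
    intro _
    rw [matW_nil, show CosetCert.wval im6 [] = (1 : HNG) from List.prod_nil, map_one]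
    refine ok1_pack packs_ok.2.2.2.2.2.2 ?_
    rw [Units.val_one, toMat_idMat]
  | cons l w ih =>
    intro h
    simp only [matW, Bool.and_eq_true] at h
    have e : CosetCert.wval im6 (l :: w) = im6 l * CosetCert.wval im6 w := by simp [CosetCert.wval]
    rw [e, map_mul]
    exact (ok1_let l (Nat.le_of_ble_eq_true h.2)).mul (ih h.1.1) h.1.2

/-- The word of a symbol. -/
def symW (gw : List ℕ) (i : ℕ) (wA w : List ℕ) : ℕ → List ℕ
  | 0 => [0, 0]
  | 1 => expand (dec (gw.getD i 0)) ++ [0, 0] ++ dec (gw.getD i 0)
  | 2 => w ++ [5] ++ ivW w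
  | _ => wA ++ [5] ++ ivW wA

/-- The computed value of an invariant, when the words are right. -/
def invVal (gw : List ℕ) (i : ℕ) (wA : List ℕ) (form w : List ℕ) (v : ℕ) : Bool :=
  let m := matW (form.flatMap (symW gw i wA w))
  okW w && okW wA && (dec (gw.getD i 0)).all (fun l => Nat.blt l 6) && form.all (fun l => Nat.blt l 4) && m.2 &&
    (tr1 m.1 == v)

theorem invVal_spec {gw : List ℕ} {i : ℕ} {wA form w : List ℕ} {v : ℕ} (h : invVal gw i wA form w v = true) :
    inv1 gw i (val0 wA) form (val0 w) = (v : ZMod 11) ∧ ∀ l ∈ form, l < 4 := by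
  simp only [invVal, Bool.and_eq_true, beq_iff_eq] at h
  obtain ⟨⟨⟨⟨⟨hw, hA⟩, hg⟩, hform⟩, hm⟩, hv⟩ := h
  have h4 : ∀ l ∈ form, l < 4 := fun l hl => Nat.le_of_ble_eq_true (List.all_eq_true.1 hform l hl)
  refine ⟨?_, h4⟩
  have hsym : ∀ l < 4, CosetCert.wval im6 (symW gw i wA w l) = sym gw i (val0 wA) (val0 w) l := by
    intro l hl
    interval_cases l
    · exact im6_phi [0, 0] rfl
    · have h7 : ∀ a ∈ dec (gw.getD i 0), a < 7 := fun a ha => by
        have := Nat.le_of_ble_eq_true (List.all_eq_true.1 hg a ha)
        omega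
      have h6 : ∀ a ∈ dec (gw.getD i 0), a ≠ 6 := fun a ha => by
        have := Nat.le_of_ble_eq_true (List.all_eq_true.1 hg a ha)
        omega
      simp only [symW, sym, wval_append, expand_val _ h7, wval_im7 _ h6, im6_phi [0, 0] rfl]
      rfl
    · simp only [symW, sym, wval_append, im6_phi _ hw, im6_phi _ (okW_ivW.2 hw), val0_ivW _ hw, map_inv,
        show CosetCert.wval im6 [5] = tg from mul_one _]
    · simp only [symW, sym, wval_append, im6_phi _ hA, im6_phi _ (okW_ivW.2 hA), val0_ivW _ hA, map_inv,
        show CosetCert.wval im6 [5] = tg from mul_one _]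
  have hprod : CosetCert.wval im6 (form.flatMap (symW gw i wA w)) =
      (form.map (sym gw i (val0 wA) (val0 w))).prod := by
    clear hm hv hform
    induction form with
    | nil => rfl
    | cons a r ih =>
      rw [List.flatMap_cons, wval_append, List.map_cons, List.prod_cons, hsym a (h4 a List.mem_cons_self),
        ih fun l hl => h4 l (List.mem_cons_of_mem a hl)]
  rw [inv1, ← hprod, Ok1.trace (ok1_word _ hm), hv]

/-- A certificate for one double coset. -/
structure Cert where
  i : ℕ
  tree : ℕ
  cls : ℕ
  reps : List ℕ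
  forms : List (List ℕ)
  vals : List (List ℕ)
  wA : ℕ
  pA : ℕ
  eform : List ℕ
  extra : List (ℕ × ℕ × ℕ)
  eBase : ℕ
  eVal : ℕ
  bWords : List (ℕ × ℕ)
  levels : List (Lev × ℕ)
  sGens : List ℕ
  factors : List (List ℕ × List ℕ)
  lower : List Lev
  size : ℕ

/-- The test of a point against a base point. -/
def Cert.test (c : Cert) (kind b q : ℕ) : Bool :=
  (kind == 0) ||
    (((List.range c.forms.length).all fun k =>
        (c.vals.getD k []).getD (tCls c.cls q) 0 == (c.vals.getD k []).getD (tCls c.cls b) 0) &&
      ((kind == 1) ||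
        match c.extra.find? (fun e => e.1 == q) with
        | some e => e.2.2 == c.eVal
        | none => true))

/-- The levels with their tests. -/
def Cert.cands (c : Cert) : List (Lev × (ℕ → Bool)) := c.levels.map fun M => (M.1, c.test M.2 M.1.b)

/-- The levels are fit for their tests. -/
def Cert.levOK (c : Cert) : List ℕ → List (Lev × ℕ) → Bool
  | _, [] => true
  | prev, M :: r => Nat.blt M.2 3 && Nat.blt M.1.b 1408 &&
      (M.2 == 0 || c.bWords.any fun bw => bw.1 == M.1.b && okW (dec bw.2) && ev (dec bw.2) M.1.b == 0) &&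
      (!(M.2 == 2) || (prev.contains c.pA && M.1.b == c.eBase)) && c.levOK (M.1.b :: prev) r

/-- The shape of the data for the invariants. -/
def Cert.shapeOK (gw : List ℕ) (c : Cert) : Bool :=
  ((List.range c.forms.length).all fun k => !(c.forms.getD k []).contains 3) &&
  c.extra.all (fun e => okW (dec e.2.1) && ev (dec e.2.1) e.1 == 0 && Nat.blt e.2.2 11) &&
  (c.extra.isEmpty || (okW (dec c.wA) && ev (dec c.wA) c.pA == 0 && Nat.blt c.pA 1408 && Nat.blt c.eVal 11 &&
    c.bWords.all fun bw => !(bw.1 == c.eBase) || invVal gw c.i (dec c.wA) c.eform (dec bw.2) c.eVal)) &&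
  ((c.vals.all fun l => l.all fun v => Nat.blt v 11) && (List.range 1408).all fun p => Nat.blt (tCls c.cls p) c.reps.length)

/-- A few values of the invariants are right. -/
def Cert.rootsOK (gw : List ℕ) (c : Cert) (k lo : ℕ) : Bool :=
  (List.range 4).all fun j => Nat.ble c.reps.length (lo + j) ||
    invVal gw c.i [] (c.forms.getD k []) (dec (c.reps.getD (lo + j) 0)) ((c.vals.getD k []).getD (lo + j) 0)

/-- A few values of the further invariant are right. -/
def Cert.extraOK (gw : List ℕ) (c : Cert) (lo : ℕ) : Bool :=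
  (List.range 4).all fun j => match c.extra[lo + j]? with
    | some e => invVal gw c.i (dec c.wA) c.eform (dec e.2.1) e.2.2
    | none => true

/-- The parts about orders. -/
def Cert.sizesOK (F : List Fact) (c : Cert) : Bool :=
  chainOK tabs 1408 tabs.length (c.levels.map Prod.fst) &&
    (chainSize (c.levels.map Prod.fst) == 177408000) && c.levOK [] c.levels && (candSize c.cands == c.size) &&
    c.sGens.all (stabFactOK F c.i) &&
    c.factors.all (fun f => f.2.all (fun k => Nat.blt k c.sGens.length) &&
      sameW f.1 (f.2.flatMap fun k => sCode F (c.sGens.getD k 0))) &&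
    c.lower.all (fun M => M.gens.all fun w => (c.factors.map Prod.fst).contains w) &&
    chainOK tabs 1408 tabs.length c.lower && (chainSize c.lower == c.size)

variable {gw : List ℕ} {F : List Fact}

theorem cast_val_inj {a b : ℕ} (ha : a < 11) (hb : b < 11) (h : (a : ZMod 11) = (b : ZMod 11)) : a = b := by
  have := congrArg ZMod.val h
  rwa [ZMod.val_natCast_of_lt ha, ZMod.val_natCast_of_lt hb] at this

theorem card_SG (hF : ∀ (j : ℕ) (f : Fact), F[j]? = some f → f.Holds gw) {c : Cert}
    (hT : treeOK gw F c.i c.tree c.cls c.reps = true) (hV : c.shapeOK gw = true)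
    (hR : ∀ k < c.forms.length, ∀ r < c.reps.length, c.rootsOK gw k (r / 4 * 4) = true)
    (hX : ∀ r < c.extra.length, c.extraOK gw (r / 4 * 4) = true) (hS : c.sizesOK F = true) :
    Nat.card (SG gw c.i) = c.size := by
  haveI := card_N0.1
  simp only [Cert.shapeOK, Bool.and_eq_true] at hV
  obtain ⟨⟨⟨hV1, hV2⟩, hV3⟩, hV4, hV5⟩ := hV
  have hroots : ∀ k < c.forms.length, ∀ r < c.reps.length,
      invVal gw c.i [] (c.forms.getD k []) (dec (c.reps.getD r 0)) ((c.vals.getD k []).getD r 0) = true := by
    intro k hk r hr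
    have h := List.all_eq_true.1 (hR k hk r hr) (r % 4) (List.mem_range.2 (Nat.mod_lt _ (by norm_num)))
    rw [show r / 4 * 4 + r % 4 = r by omega, Bool.or_eq_true] at h
    rcases h with h | h
    · have := Nat.le_of_ble_eq_true h
      omega
    · exact h
  have hextra : ∀ e ∈ c.extra, invVal gw c.i (dec c.wA) c.eform (dec e.2.1) e.2.2 = true := by
    intro e he
    obtain ⟨r, hr, rfl⟩ := List.getElem_of_mem he
    have h := List.all_eq_true.1 (hX r hr) (r % 4) (List.mem_range.2 (Nat.mod_lt _ (by norm_num)))
    rw [show r / 4 * 4 + r % 4 = r by omega, List.getElem?_eq_getElem hr] at h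
    exact h
  simp only [Cert.sizesOK, Bool.and_eq_true, beq_iff_eq] at hS
  obtain ⟨⟨⟨⟨⟨⟨⟨⟨hS1, hS2⟩, hS3⟩, hS4⟩, hS5⟩, hS6⟩, hS7⟩, hS8⟩, hS9⟩ := hS
  have hval : ∀ k < c.forms.length, ∀ (p : Fin 1408) (h : N0), act h (0 : Fin 1408) = p →
      inv1 gw c.i (val0 []) (c.forms.getD k []) h = (((c.vals.getD k []).getD (tCls c.cls p) 0 : ℕ) : ZMod 11) := by
    intro k hk
    have hk' := List.all_eq_true.1 hV1 k (List.mem_range.2 hk)
    rw [Bool.not_eq_true'] at hk'
    have h3 := hk'
    have hall := hroots k hk
    have hno : 3 ∉ c.forms.getD k [] := fun hc => by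
      rw [List.contains_iff_mem.2 hc] at h3
      exact Bool.noConfusion h3
    refine tree_induction gw F hF hT (fun p h => inv1 gw c.i (val0 []) (c.forms.getD k []) h =
      (((c.vals.getD k []).getD (tCls c.cls p) 0 : ℕ) : ZMod 11)) ?_ ?_
    · intro p h hp h0 ht
      simp only [treeAt, beq_iff_eq, h0, if_true, Bool.and_eq_true] at ht
      obtain ⟨⟨hok, hev⟩, -⟩ := ht
      have hr : tCls c.cls p < c.reps.length :=
        Nat.le_of_ble_eq_true (List.all_eq_true.1 hV5 p.val (List.mem_range.2 p.isLt))
      rw [inv1_coset gw c.i _ _ (hp.trans (act_ev hok hev).symm)]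
      exact (invVal_spec (hall _ hr)).1
    · intro p q h s _ hs hcls ih
      have hr : tCls c.cls p < c.reps.length :=
        Nat.le_of_ble_eq_true (List.all_eq_true.1 hV5 p.val (List.mem_range.2 p.isLt))
      rw [← hcls, ← ih, show h = s * (s⁻¹ * h) by group]
      rw [inv1_stab gw c.i _ _ hs _ (fun hc => absurd hc hno)
        (invVal_spec (hall _ hr)).2]
      rw [show s * (s⁻¹ * h) = h by group]
  have hlt : ∀ k r, (c.vals.getD k []).getD r 0 < 11 := by
    intro k r
    by_cases hk : k < c.vals.length
    · rw [List.getD_eq_getElem _ _ hk]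
      by_cases hr : r < c.vals[k].length
      · rw [List.getD_eq_getElem _ _ hr]
        exact Nat.le_of_ble_eq_true
          (List.all_eq_true.1 (List.all_eq_true.1 hV4 _ (List.getElem_mem hk)) _ (List.getElem_mem hr))
      · rw [List.getD_eq_default _ _ (by omega)]; norm_num
    · rw [List.getD_eq_default (l := c.vals) _ (by omega), List.getD_nil]; norm_num
  have hcand : ∀ (l : List (Lev × ℕ)) (prev : List ℕ) (S : Subgroup N0), S ≤ SG gw c.i →
      (∀ p : Fin 1408, (p : ℕ) ∈ prev → ∀ s ∈ S, act s p = p) → c.levOK prev l = true →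
      CandOK act S (l.map fun M => (M.1, c.test M.2 M.1.b)) := by
    intro l
    induction l with
    | nil => intros; trivial
    | cons M r ih =>
      intro prev S hle hfix hlev
      simp only [Cert.levOK, Bool.and_eq_true, Bool.or_eq_true, beq_iff_eq] at hlev
      obtain ⟨⟨⟨⟨hkind, hb⟩, hbw⟩, hex⟩, hrest⟩ := hlev
      refine ⟨fun p hp s hs => ?_, fun S' hS' hfix' => ih (M.1.b :: prev) S' (hS'.trans hle) ?_ hrest⟩
      · show c.test M.2 M.1.b _ = true
        rw [Cert.test]
        by_cases hk0 : M.2 = 0
        · simp [hk0]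
        simp only [hk0, false_or, List.any_eq_true, Bool.and_eq_true, beq_iff_eq] at hbw
        obtain ⟨bw, hbwm, ⟨hb1, hb2⟩, hb3⟩ := hbw
        set q : Fin 1408 := (act s)⁻¹ p
        set wb := val0 (dec bw.2)
        have hpb : act wb (0 : Fin 1408) = p := by
          rw [← hp] at hb3
          exact act_ev hb2 hb3
        have hq : act (s⁻¹ * wb) (0 : Fin 1408) = q := by rw [map_mul, map_inv, Equiv.Perm.mul_apply, hpb]
        simp only [Bool.or_eq_true, Bool.and_eq_true, List.all_eq_true, List.mem_range, beq_iff_eq]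
        refine Or.inr ⟨fun k hk => ?_, ?_⟩
        · refine cast_val_inj (hlt _ _) (hlt _ _) ?_
          rw [← hval k hk q _ hq, ← hp, ← hval k hk p _ hpb]
          have hk' := List.all_eq_true.1 hV1 k (List.mem_range.2 hk)
          rw [Bool.not_eq_true'] at hk'
          refine inv1_stab gw c.i _ _ (inv_mem (hle hs)) _ (fun hc => absurd (List.contains_iff_mem.2 hc) (by
            rw [hk']; exact Bool.false_ne_true)) ?_
          have hr : tCls c.cls p < c.reps.length :=
            Nat.le_of_ble_eq_true (List.all_eq_true.1 hV5 p.val (List.mem_range.2 p.isLt))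
          exact (invVal_spec (hroots k hk _ hr)).2
        · by_cases hk1 : M.2 = 1
          · exact Or.inl hk1
          refine Or.inr ?_
          have hk2 : M.2 = 2 := by
            have := Nat.le_of_ble_eq_true hkind
            omega
          simp only [hk2, beq_self_eq_true, Bool.not_true, Bool.false_eq_true, false_or, List.contains_iff_mem,
            Bool.and_eq_true, beq_iff_eq] at hex
          obtain ⟨hA, hbase⟩ := hex
          split
          swap
          · rfl
          rename_i e hfind
          have hmem := List.mem_of_find?_eq_some hfind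
          have heq : e.1 = (q : ℕ) := by simpa using List.find?_some hfind
          have he := List.all_eq_true.1 hV2 e hmem
          simp only [Bool.and_eq_true, beq_iff_eq] at he
          obtain ⟨⟨he1, he2⟩, he4⟩ := he
          have he5 := hextra e hmem
          have hne : c.extra.isEmpty = false := by
            cases hext : c.extra with
            | nil => rw [hext] at hmem; simp at hmem
            | cons a l => rfl
          simp only [hne, Bool.false_eq_true, Bool.or_eq_true, false_or, Bool.and_eq_true, beq_iff_eq,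
            List.all_eq_true] at hV3
          obtain ⟨⟨⟨⟨hA1, hA2⟩, hA3⟩, hA4⟩, hA5⟩ := hV3
          have hv5 : invVal gw c.i (dec c.wA) c.eform (dec bw.2) c.eVal = true := by
            rcases hA5 bw hbwm with h | h
            · rw [hb1, hbase] at h
              simp at h
            · exact h
          show (e.2.2 == c.eVal) = true
          rw [beq_iff_eq]
          refine cast_val_inj (Nat.le_of_ble_eq_true he4) (Nat.le_of_ble_eq_true hA4) ?_
          rw [← (invVal_spec he5).1, ← (invVal_spec hv5).1]
          rw [heq] at he2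
          rw [inv1_coset gw c.i _ _ ((act_ev he1 he2).trans hq.symm)]
          refine inv1_stab gw c.i _ _ (inv_mem (hle hs)) _ (fun _ => ?_) (invVal_spec he5).2
          rw [act_ev (p := ⟨c.pA, Nat.le_of_ble_eq_true hA3⟩) hA1 hA2, map_inv, Equiv.Perm.inv_eq_iff_eq]
          exact (hfix _ hA s hs).symm
      · intro p hp s hs
        rcases List.mem_cons.1 hp with h | h
        · exact hfix' p h s hs
        · exact hfix p h s (hS' hs)
  refine le_antisymm ?_ ?_
  · have e : c.cands.map Prod.fst = c.levels.map Prod.fst := by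
      simp [Cert.cands, List.map_map, Function.comp_def]
    have h := bound_of_cand c.cands (SG gw c.i) (by rw [e]; exact hS1) (by rw [e]; exact hS2)
      (hcand c.levels [] (SG gw c.i) le_rfl (fun p hp => absurd hp List.not_mem_nil) hS3)
    rwa [hS4] at h
  · rw [← hS9]
    refine chain_bound im0 act tabs act_tab c.lower (SG gw c.i) hS8 inferInstance fun M hM w hw => ?_
    have hc := List.all_eq_true.1 (List.all_eq_true.1 hS7 M hM) w hw
    rw [List.contains_iff_mem, List.mem_map] at hc
    obtain ⟨f, hf, rfl⟩ := hc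
    have h := List.all_eq_true.1 hS6 f hf
    rw [Bool.and_eq_true] at h
    show val0 f.1 ∈ _
    rw [eq_of_same h.2, val0_flatMap]
    refine list_prod_mem fun q hq => ?_
    obtain ⟨k, hk, rfl⟩ := List.mem_map.1 hq
    have hk' : k < c.sGens.length := Nat.le_of_ble_eq_true (List.all_eq_true.1 h.1 k hk)
    rw [List.getD_eq_getElem _ _ hk']
    exact sCode_mem gw F hF (List.all_eq_true.1 hS5 _ (List.getElem_mem hk'))

end Cfsg.Lib.HNIndex
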