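import Cfsg.Agent.HNIndex.AltData
import Cfsg.Agent.HNIndex.Exact

/-!
A straight line program evaluated on packed matrices, and the relations of its ten outputs.
-/

set_option autoImplicit false
set_option Elab.async false

namespace Cfsg.Lib.HNIndex

open Cfsg.Lib Cfsg.Lib.HNPres Cfsg.Lib.HNRep Cfsg.Lib.CosetCert

/-- Evaluate a number before going on. -/
noncomputable def forceN (n : ℕ) (k : ℕ → Bool) : Bool :=
  Nat.rec (motive := fun _ => Bool) (k 0) (fun m _ => k (Nat.succ m)) n

theorem forceN_eq (n : ℕ) (k : ℕ → Bool) : forceN n k = k n := by cases n <;> rfl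

/-- A product with its flag, going on with the value. -/
noncomputable def mulK (A B : ℕ) (k : ℕ → Bool) : Bool :=
  forceN (rawSum A B 133) fun X => forceN (redC X).1 fun m => (redC X).2 && k m

theorem mulK_spec {A B : ℕ} {k : ℕ → Bool} (h : mulK A B k = true) : (mul1 A B).2 = true ∧ k (mul1 A B).1 = true := by
  simp only [mulK, forceN_eq, Bool.and_eq_true] at h
  exact h

/-- Run the program. -/
noncomputable def slpM : List (ℕ × ℕ) → List ℕ → (List ℕ → Bool) → Bool
  | [], E, k => k E
  | (a, b) :: r, E, k =>
    Nat.blt a E.length && Nat.blt b E.length && mulK (E.getD a 0) (E.getD b 0) fun m => slpM r (E ++ [m]) k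

/-- Run the program in the group. -/
def slpG : List (ℕ × ℕ) → List HNG → List HNG
  | [], L => L
  | (a, b) :: r, L => slpG r (L ++ [L.getD a 1 * L.getD b 1])

/-- Packed matrices belong to group elements. -/
def RelE (L : List HNG) (E : List ℕ) : Prop :=
  L.length = E.length ∧ ∀ i < E.length, Ok1 (psi (L.getD i 1)) (E.getD i 0)

theorem slpM_spec : ∀ (r : List (ℕ × ℕ)) (L : List HNG) (E : List ℕ) (k : List ℕ → Bool), RelE L E →
    slpM r E k = true → ∃ E', RelE (slpG r L) E' ∧ k E' = true
  | [], L, E, k, hR, h => ⟨E, hR, h⟩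
  | (a, b) :: r, L, E, k, hR, h => by
    simp only [slpM, Bool.and_eq_true] at h
    obtain ⟨⟨ha, hb⟩, hm⟩ := h
    obtain ⟨hf, hk⟩ := mulK_spec hm
    refine slpM_spec r _ _ k ⟨by simp [hR.1], fun i hi => ?_⟩ hk
    rcases Nat.lt_or_ge i E.length with hlt | hge
    · rw [List.getD_append _ _ _ _ (hR.1 ▸ hlt), List.getD_append _ _ _ _ hlt]
      exact hR.2 i hlt
    · have e : i = E.length := by rw [List.length_append, List.length_singleton] at hi; omega
      rw [e, List.getD_append_right _ _ _ _ le_rfl, List.getD_append_right _ _ _ _ (le_of_eq hR.1), hR.1]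
      simp only [Nat.sub_self, List.getD_cons_zero]
      rw [map_mul]
      exact (hR.2 a (Nat.le_of_ble_eq_true ha)).mul (hR.2 b (Nat.le_of_ble_eq_true hb)) hf

/-- A word in the values is the identity. -/
noncomputable def idW (E : List ℕ) : List ℕ → ℕ → Bool
  | [], A => A == packRows (idMat 133)
  | i :: w, A => Nat.blt i E.length && mulK A (E.getD i 0) fun m => idW E w m

theorem idW_spec {L : List HNG} {E : List ℕ} (hR : RelE L E) : ∀ (w : List ℕ) (g : HNG) (A : ℕ), Ok1 (psi g) A →
    idW E w A = true → Ok1 (psi (g * (w.map fun i => L.getD i 1).prod)) (packRows (idMat 133))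
  | [], g, A, hA, h => by
    rw [idW, beq_iff_eq] at h
    rw [List.map_nil, List.prod_nil, mul_one, ← h]
    exact hA
  | i :: w, g, A, hA, h => by
    simp only [idW, Bool.and_eq_true] at h
    obtain ⟨hf, hk⟩ := mulK_spec h.2
    rw [List.map_cons, List.prod_cons, ← mul_assoc]
    refine idW_spec hR w _ _ ?_ hk
    rw [map_mul]
    exact hA.mul (hR.2 i (Nat.le_of_ble_eq_true h.1)) hf

/-- The letters. -/
def altInit : List ℕ := [letN 0, letN 1, letN 2, letN 3, letN 4, letN 5]

/-- The relations: a cube, squares, cubes of neighbours and squares of the others. -/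
def altRels (o : List ℕ) : List (List ℕ) :=
  [[o.getD 0 0, o.getD 0 0, o.getD 0 0]] ++ ((List.range 9).map fun i => [o.getD (i + 1) 0, o.getD (i + 1) 0]) ++
    ((List.range 9).map fun i => (List.replicate 3 [o.getD i 0, o.getD (i + 1) 0]).flatten) ++
    ((List.range 10).flatMap fun i => ((List.range 10).filter fun j => Nat.blt (i + 1) j).map fun j =>
      [o.getD i 0, o.getD j 0, o.getD i 0, o.getD j 0])

theorem alt_ok : slpM altProg altInit (fun E =>
    ((altRels altOut).all fun w => idW E w (packRows (idMat 133))) &&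
      (Nat.blt (altOut.getD 0 0) E.length && tr1 (E.getD (altOut.getD 0 0) 0) != tr1 (packRows (idMat 133)))) = true := by
  decide +kernel

end Cfsg.Lib.HNIndex
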