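import Cfsg.Agent.HNIndex.Tabs

/-!
Generated: a straight line program for ten generators of an alternating group of degree twelve.
-/

set_option autoImplicit false
set_option maxRecDepth 20000

namespace Cfsg.Lib.HNIndex

/-- The program: each line multiplies two earlier values, the first six being the letters. -/
def altProg : List (ℕ × ℕ) := [(4,0),(2,6),(4,1),(2,8),(2,9),(0,10),(3,11),(3,12),(1,13),(5,5),(15,15),(3,0),(0,0),(1,6),(3,19),(16,20),(14,21),(5,22),(7,23),(1,2),(19,2),(26,5),(8,3),(28,3),(29,1),(30,2),(31,2),(32,0),(27,33),(34,16),(6,3),(36,3),(35,36),(18,38),(24,39),(2,0),(0,41),(2,42),(3,3),(37,37),(45,37),(1,3),(47,1),(48,3),(2,2),(49,46),(46,51),(43,52),(53,43),(4,36),(3,55),(3,56),(1,57),(2,58),(7,4),(60,2),(61,2),(62,0),(63,3),(64,46),(46,65),(59,66),(67,59),(54,68),(46,43),(70,46),(71,49),(49,72),(68,73),(28,74),(69,75),(9,76),(3,17),(0,78),(25,2),(80,1),(81,46),(46,82),(79,83),(84,79),(4,2),(0,86),(50,87),(3,4),(89,1),(90,44),(85,91),(88,92),(85,93),(28,44),(50,95),(9,96),(94,97),(69,9),(99,74),(100,28),(93,85),(97,102),(101,103),(98,104),(7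7,105),(28,29),(10,107),(9,108),(68,9),(110,36),(85,111),(112,97),(97,112),(109,114),(113,115),(109,116),(44,28),(109,77),(101,109),(102,120),(119,121),(94,122),(9,9),(124,118),(87,125),(126,120),(119,127),(126,128),(129,129),(123,130),(129,131),(123,132),(117,133),(106,134),(40,135),(136,136),(137,24),(3,1),(4,139),(3,140),(1,141),(3,142),(1,143),(3,144),(1,145),(4,146),(98,77),(119,94),(149,120),(150,102),(106,151),(116,109),(152,153),(128,126),(154,155),(156,106),(157,153),(158,153),(159,151),(147,160),(0,2),(162,4),(163,2),(164,0),(165,2),(166,0),(167,2),(168,0),(169,4),(161,170),(138,171),(135,40),(173,173),(38,174),(172,175),(123,106),(117,177),(129,178),(106,179),(117,180),(117,181),(123,182),(183,170),(147,184),(185,175),(138,186),(187,18),(18,188),(176,189),(190,176),(18,176),(192,18),(187,46),(46,194),(193,195),(196,193),(46,176),(198,46),(46,18),(187,200),(200,201),(199,202),(203,199),(200,176),(205,200),(206,183),(207,206),(123,123),(106,209),(117,210),(123,211),(123,212),(106,213),(117,214),(129,215),(160,216),(217,160),(151,151),(219,106),(220,153),(221,151),(222,151),(223,106),(224,153),(225,155),(123,117),(123,227),(129,228),(129,229),(106,230),(129,231),(117,232),(106,233),(226,234),(235,226),(153,151),(237,151),(238,155),(239,155),(240,106),(241,155),(242,153),(243,106),(106,129),(129,245),(123,246),(123,247),(106,248),(129,249),(117,250),(244,251),(252,244),(246,151),(254,151),(255,106),(256,155),(257,153),(148,258),(246,106),(129,210),(117,261),(106,262),(260,263),(264,260)]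

/-- The positions of the ten generators. -/
def altOut : List ℕ := [176,191,197,204,208,218,236,253,259,265]

end Cfsg.Lib.HNIndex
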