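import Cfsg.Agent.HNIndex.Count

/-!
The group is perfect and simple, given its index and the maximality of the subgroup on x, y, z.
-/

set_option autoImplicit false
set_option Elab.async false

namespace Cfsg.Lib.HNIndex

open Cfsg.Lib Cfsg.Lib.HNPres Cfsg.Lib.CosetCert
open scoped commutatorElement

variable {gw : List ℕ}

theorem gens_trivial {A : Type*} [CommGroup A] (f : HNG →* A) : f = 1 := by
  have hm : ∀ r ∈ Cfsg.Spor.HN.extra, (PresentedGroup.mk hnRels) r = 1 := fun r hr =>
    PresentedGroup.one_of_mem (Or.inr hr)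
  simp only [Cfsg.Spor.HN.extra, List.forall_mem_cons, map_mul, map_pow, map_inv] at hm
  obtain ⟨h0, h1, -, h3, h4, -, h6, h7, h8, h9, h10, h11, -, h13, -⟩ := hm
  set a := f (hnGen .x) with ha
  set b := f (hnGen .y) with hb
  set c := f (hnGen .z) with hc
  set d := f (hnGen .t) with hd
  have ma : f ((PresentedGroup.mk hnRels) Cfsg.Spor.HN.x) = a := rfl
  have mb : f ((PresentedGroup.mk hnRels) Cfsg.Spor.HN.y) = b := rfl
  have mc : f ((PresentedGroup.mk hnRels) Cfsg.Spor.HN.z) = c := rfl
  have md : f ((PresentedGroup.mk hnRels) Cfsg.Spor.HN.t) = d := rfl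
  have g0 := congrArg f h0
  have g1 := congrArg f h1
  have g3 := congrArg f h3
  have g4 := congrArg f h4
  have g6 := congrArg f h6
  have g7 := congrArg f h7
  have g8 := congrArg f h8
  have g9 := congrArg f h9
  have g10 := congrArg f h10
  have g11 := congrArg f h11
  have g13 := congrArg f h13
  simp only [map_mul, map_pow, map_inv, map_one, ma, mb, mc, md] at g0 g1 g3 g4 g6 g7 g8 g9 g10 g11 g13
  have d3 : d ^ 3 = 1 := by rwa [mul_comm a⁻¹ d, inv_mul_cancel_right, ← pow_succ'] at g11
  have d1 : d = 1 := by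
    have h : d ^ (3 * 2) = 1 := by rw [pow_mul, d3, one_pow]
    rwa [show 3 * 2 = 5 + 1 from rfl, pow_succ, g10, one_mul] at h
  have c1 : c = 1 := by
    rw [d1, mul_one] at g13
    rwa [pow_succ, g6, one_mul] at g13
  have a2 : a ^ 2 = 1 := by
    rw [c1] at g8
    simpa only [inv_one, one_mul, mul_one, inv_mul_cancel, inv_eq_one] using g8
  have a1 : a = 1 := by
    rw [c1] at g9
    simp only [one_mul, mul_one, inv_mul_cancel] at g9
    rwa [pow_succ, a2, one_mul] at g9
  have b1 : b = 1 := by
    rw [a1] at g3 g4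
    simp only [inv_one, one_mul, mul_one, ← pow_add, ← pow_mul] at g3 g4
    have h3 : b ^ 3 = 1 := by
      have e : b ^ ((2 + 3) * 3) = b ^ 3 := by
        rw [show (2 + 3) * 3 = 6 * 2 + 3 from rfl, pow_add, pow_mul, g0, one_pow, one_mul]
      rwa [e] at g3
    rw [show 8 = 3 * 2 + 2 from rfl, pow_add, pow_mul, h3, one_pow, one_mul] at g4
    rwa [pow_succ, g4, one_mul] at h3
  refine PresentedGroup.ext fun q => ?_
  cases q
  · exact a1
  · exact b1
  · exact c1
  · exact d1

theorem perfect : commutator HNG = ⊤ := by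
  rw [← Abelianization.ker_of, gens_trivial (Abelianization.of (G := HNG)), MonoidHom.ker_one]

theorem card_stab0 : Nat.card stab0 = 126000 := by
  haveI := card_N0.1
  obtain ⟨h1, h2, h3⟩ := cTests_spec
  refine le_antisymm ?_ ?_
  · have hup := bound_of_cand cTests stab0 (by rw [h1]; exact chainB_ok.1) (by rw [h1]; exact chainB_ok.2)
      (candOK_c chainB stab0 le_rfl)
    rwa [h2] at hup
  · rw [← cGrp_eq, ← h3]
    exact chain_bound im0 act tabs act_tab _ cGrp (by decide +kernel) inferInstance tail_gens

theorem transitive (p : Fin 1408) : ∃ h : N0, act h (0 : Fin 1408) = p := by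
  haveI := card_N0.1
  letI := MulAction.compHom (Fin 1408) act
  have hs : MulAction.stabilizer N0 (0 : Fin 1408) = stab0 := rfl
  have h := Nat.card_congr (MulAction.orbitProdStabilizerEquivGroup N0 (0 : Fin 1408))
  rw [Nat.card_prod, hs, card_stab0, card_N0_eq, Nat.card_coe_set_eq] at h
  have hu : MulAction.orbit N0 (0 : Fin 1408) = Set.univ := by
    refine Set.eq_of_subset_of_ncard_le (Set.subset_univ _) ?_ (Set.toFinite _)
    rw [Set.ncard_univ, Nat.card_eq_fintype_card, Fintype.card_fin]
    omega
  obtain ⟨n, hn⟩ : p ∈ MulAction.orbit N0 (0 : Fin 1408) := hu ▸ Set.mem_univ p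
  exact ⟨n, hn⟩

theorem SG_one (D : NineData gw) : SG gw 1 = stab0 := by
  haveI := card_N0.1
  have hle : stab0 ≤ SG gw 1 := fun s hs => by
    rw [mem_SG, D.one]
    exact ⟨s, (commute_t_of_fix hs).eq.symm⟩
  refine (Subgroup.eq_of_le_of_card_ge hle ?_).symm
  have h := D.size 1 (by norm_num) (by norm_num)
  rw [show sizes.getD 1 0 = 1408 from rfl] at h
  rw [card_stab0]
  omega

theorem simple (D : NineData gw) : IsSimpleGroup HNG := by
  haveI := card_N0.1
  haveI : Nontrivial HNG := by
    have h := card_HNG D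
    haveI : Finite HNG := Nat.finite_of_card_ne_zero (by rw [h]; norm_num)
    exact Finite.one_lt_card_iff_nontrivial.1 (by rw [h]; norm_num)
  refine ⟨fun N hN => ?_⟩
  haveI := hN
  rcases maximal D (N ⊔ phi.range) le_sup_right with hM | hM
  · left
    have hle : N ≤ phi.range := hM ▸ le_sup_left
    rw [eq_bot_iff]
    intro g hg
    obtain ⟨s, rfl⟩ := hle hg
    have hfix : ∀ h : N0, act (h⁻¹ * s * h) (0 : Fin 1408) = 0 := fun h => by
      have hc : phi (h⁻¹ * s * h) ∈ N := by
        rw [map_mul, map_mul, map_inv]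
        exact hN.conj_mem' _ hg _
      have hs : h⁻¹ * s * h ∈ SG gw 1 := by
        obtain ⟨v, hv⟩ := hle (hN.conj_mem _ hc tg)
        rw [mem_SG, D.one]
        exact ⟨v, by rw [hv]; group⟩
      rwa [SG_one D] at hs
    have hs1 : s = 1 := eq_one_of_fix fun p _ => by
      obtain ⟨h, rfl⟩ := transitive p
      have := hfix h
      rw [map_mul, map_mul, map_inv, Equiv.Perm.mul_apply, Equiv.Perm.mul_apply, Equiv.Perm.inv_eq_iff_eq] at this
      exact this
    rw [hs1, map_one]
    exact Subgroup.mem_bot.2 rfl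
  · right
    set R : Subgroup N0 := N.comap phi
    haveI hRn : R.Normal := hN.comap phi
    haveI : K0.Normal := MonoidHom.normal_ker _
    let q : N0 →* HNG ⧸ N := (QuotientGroup.mk' N).comp phi
    have hq : Function.Surjective q := by
      rw [← MonoidHom.range_eq_top, MonoidHom.range_comp]
      have : (N ⊔ phi.range).map (QuotientGroup.mk' N) = ⊤ := by
        rw [hM, Subgroup.map_top_of_surjective _ (QuotientGroup.mk'_surjective N)]
      rwa [Subgroup.map_sup, QuotientGroup.map_mk'_self, bot_sup_eq] at this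
    have hsup : commutator N0 ⊔ R = ⊤ := by
      rw [eq_top_iff]
      intro n _
      have hmem : q n ∈ (commutator N0).map q := by
        rw [commutator_def, Subgroup.map_commutator, Subgroup.map_top_of_surjective _ hq,
          ← Subgroup.map_top_of_surjective _ (QuotientGroup.mk'_surjective N), ← Subgroup.map_commutator,
          ← commutator_def, perfect, Subgroup.map_top_of_surjective _ (QuotientGroup.mk'_surjective N)]
        exact Subgroup.mem_top _
      obtain ⟨c, hc, hcn⟩ := hmem
      have hr : c⁻¹ * n ∈ R := by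
        show phi (c⁻¹ * n) ∈ N
        rw [map_mul, map_inv]
        exact QuotientGroup.eq.1 hcn
      have := mul_mem (le_sup_left (b := R) hc) (le_sup_right (a := commutator N0) hr)
      rwa [mul_inv_cancel_left] at this
    have hcK : commutator N0 ≤ K0 := Abelianization.commutator_subset_ker par0
    have hne : ∃ r ∈ R, r ∉ K0 := by
      by_contra h
      push Not at h
      have : (⊤ : Subgroup N0) ≤ K0 := hsup ▸ sup_le hcK h
      exact gens_K0.2.2 (this (Subgroup.mem_top _))
    obtain ⟨r, hr, hrK⟩ := hne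
    set J : Subgroup K0 := R.subgroupOf K0
    haveI : J.Normal := Subgroup.Normal.subgroupOf hRn _
    haveI := Cfsg.Lib.HSModel.Cov.grp_simple
    haveI : (J.map act1).Normal := Subgroup.Normal.map inferInstance _ act1_surj
    rcases IsSimpleGroup.eq_bot_or_eq_top_of_normal (J.map act1) inferInstance with h | h
    · exfalso
      refine hrK ?_
      have hc : act0 r = 1 := by
        refine Cfsg.Lib.HSModel.cent_trivial fun p hp => ?_
        obtain ⟨k, hk⟩ := act1_surj ⟨p, hp⟩
        have hm : r * k * r⁻¹ * (k : N0)⁻¹ ∈ R := by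
          rw [mul_assoc r, mul_assoc r]
          exact mul_mem hr (hRn.conj_mem _ (inv_mem hr) _)
        have hmK : r * k * r⁻¹ * (k : N0)⁻¹ ∈ K0 :=
          mul_mem (Subgroup.Normal.conj_mem ‹K0.Normal› _ k.2 r) (inv_mem k.2)
        have e : act1 ⟨_, hmK⟩ = 1 := MonoidHom.mem_ker.1 ((Subgroup.map_eq_bot_iff _).1 h
          (show (⟨_, hmK⟩ : K0) ∈ J from hm))
        have e' : act0 (r * k * r⁻¹ * (k : N0)⁻¹) = 1 := congrArg Subtype.val e
        rw [map_mul, map_mul, map_mul, map_inv, map_inv, mul_inv_eq_one, mul_inv_eq_iff_eq_mul] at e'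
        have hk' : act0 k = p := congrArg Subtype.val hk
        rwa [hk'] at e'
      show par0 r = 1
      simp [par0, hc]
    · have hcent : ∀ a : K0, ∃ j ∈ J, j⁻¹ * a ∈ act1.ker := fun a => by
        obtain ⟨j, hj, hja⟩ : act1 a ∈ J.map act1 := h ▸ Subgroup.mem_top _
        exact ⟨j, hj, by simp [hja]⟩
      have hker : act1.ker ≤ Subgroup.center K0 := by
        obtain ⟨h1, h2, h3⟩ := x_sq_K0
        exact ker_central act1 act1_surj card_ker1 h1 h2 h3
      have hJ : J = ⊤ := by
        rw [eq_top_iff, ← perfect_K0', commutator_def, Subgroup.commutator_le]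
        rintro a - b -
        obtain ⟨a', ha', hca⟩ := hcent a
        have hJn : J.Normal := inferInstance
        rw [← QuotientGroup.eq_one_iff]
        show (QuotientGroup.mk' J) ⁅a, b⁆ = 1
        have ea : (QuotientGroup.mk' J) a = (QuotientGroup.mk' J) (a'⁻¹ * a) := by
          rw [map_mul, map_inv, show (QuotientGroup.mk' J) a' = 1 from (QuotientGroup.eq_one_iff a').2 ha',
            inv_one, one_mul]
        rw [map_commutatorElement, commutatorElement_eq_one_iff_mul_comm, ea, ← map_mul, ← map_mul,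
          Subgroup.mem_center_iff.1 (hker hca) b]
      have hK : K0 ≤ R := fun k hk => (hJ ▸ Subgroup.mem_top (⟨k, hk⟩ : K0) : (⟨k, hk⟩ : K0) ∈ J)
      have hR : R = ⊤ := by
        rw [eq_top_iff]
        exact hsup ▸ sup_le (hcK.trans hK) le_rfl
      have hH : phi.range ≤ N := by
        rintro _ ⟨n, rfl⟩
        have : n ∈ R := hR ▸ Subgroup.mem_top n
        exact this
      rwa [sup_eq_left.2 hH] at hM

end Cfsg.Lib.HNIndex
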