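import Cfsg.Agent.HNIndex.OutCheck
import Cfsg.Agent.HNIndex.Simple

/-!
An element of order eleven and its commuting involutions, and the centraliser of the point stabiliser.
-/

set_option autoImplicit false
set_option Elab.async false

namespace Cfsg.Lib.HNIndex

open Cfsg.Lib Cfsg.Lib.HNPres Cfsg.Lib.CosetCert Cfsg.Lib.HSModel

/-- The element of order eleven. -/
def eN : N0 := val0 eW

/-- The central involution of the subgroup. -/
abbrev cz : N0 := n0 0 ^ 2

theorem cz_commute (n : N0) : Commute cz n := by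
  have hg : n ∈ Subgroup.centralizer {cz} := by
    refine ((Subgroup.closure_le _).2 ?_) (top_n0 ▸ Subgroup.mem_top n)
    rintro t (rfl | rfl | rfl) <;> rw [SetLike.mem_coe, Subgroup.mem_centralizer_singleton_iff]
    · exact ((Commute.refl (n0 0)).pow_left 2).eq.symm
    · exact ((show n0 0 ^ 2 * n0 1 = n0 1 * n0 0 ^ 2 from setup0.sq_y)).symm
    · exact ((show n0 0 ^ 2 * n0 2 = n0 2 * n0 0 ^ 2 from setup0.sq_z)).symm
  exact (Subgroup.mem_centralizer_singleton_iff.1 hg).symm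

theorem cz_sq : cz * cz = 1 := by
  rw [← pow_add]
  exact setup0.x_four

theorem cz_ne : cz ≠ 1 := fun e => x_sq_K0.2.2 (Subtype.ext e)

theorem act0_cz : act0 cz = 1 := congrArg Subtype.val x_sq_K0.2.1

theorem ker_act0 {n : N0} (h : act0 n = 1) : n = 1 ∨ n = cz := by
  haveI := card_N0.1
  have hc : Nat.card act0.ker = 2 := by
    have h : Nat.card act0.ker * 88704000 = Nat.card N0 := by
      rw [← Cfsg.Lib.HSModel.card_range, ← act0_range, ← Subgroup.index_ker, Subgroup.card_mul_index]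
    rw [card_N0_eq] at h
    exact Nat.eq_of_mul_eq_mul_right (show 0 < 88704000 by norm_num) (h.trans (by norm_num))
  obtain ⟨y, -, hy⟩ := (Nat.card_eq_two_iff' (1 : act0.ker)).1 hc
  by_cases h1 : n = 1
  · exact Or.inl h1
  refine Or.inr ?_
  have a := hy ⟨n, h⟩ fun e => h1 (congrArg Subtype.val e)
  have b := hy ⟨cz, act0_cz⟩ fun e => cz_ne (congrArg Subtype.val e)
  exact congrArg Subtype.val (a.trans b.symm)

theorem act0_tab : ∀ l < pTabs.length, PermCert.valid 100 (pTabs.getD l (0, 0)) = true ∧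
    act0 (im0 l) = PermCert.perm 100 (pTabs.getD l (0, 0)) := fun l hl => by
  refine ⟨(pTabs_act l hl).1, ?_⟩
  obtain ⟨e0, e1, e2⟩ := homN0_of HNPres.perm_rels
  rw [im0, map_letters, show act0 = homN0 HNPres.perm_rels from rfl, e0, e1, e2]
  exact (pTabs_act l hl).2

theorem ev0_eq {w : List ℕ} (h : okW w = true) (a : Fin 100) : ((act0 (val0 w))⁻¹ a : ℕ) = evalW pTabs w a :=
  evalW_apply im0 act0 pTabs act0_tab w
    (fun l hl => Nat.le_of_ble_eq_true (List.all_eq_true.1 h l hl)) a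

theorem okW_rep : ∀ j, okW (List.replicate j eW).flatten = true
  | 0 => rfl
  | j + 1 => by
    have := okW_rep j
    rw [okW] at this ⊢
    rw [List.replicate_succ, List.flatten_cons, List.all_append, this, Bool.and_true]
    exact eW_ok.1

theorem val0_rep : ∀ j, val0 (List.replicate j eW).flatten = eN ^ j
  | 0 => by simp [val0, CosetCert.wval]
  | j + 1 => by rw [List.replicate_succ, List.flatten_cons, val0_append, val0_rep j, pow_succ', eN]

theorem pw_eq {j : ℕ} (hj : j < 11) (a : Fin 100) : ((act0 eN ^ j)⁻¹ a : ℕ) = pw j a := by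
  rw [← map_pow, ← val0_rep, ev0_eq (okW_rep j)]
  exact beq_iff_eq.1 (List.all_eq_true.1 (List.all_eq_true.1 pw_ok j (List.mem_range.2 hj)) a.val
    (List.mem_range.2 a.isLt))

theorem pw_lt {j a : ℕ} (hj : j < 11) (ha : a < 100) : pw j a < 100 := by
  rw [← pw_eq hj ⟨a, ha⟩]
  exact ((act0 eN ^ j)⁻¹ ⟨a, ha⟩).isLt

theorem eN_pow : eN ^ 11 = 1 := by
  rw [← val0_rep, eq_of_same eW_ok.2.2.1]
  simp [val0, CosetCert.wval]

theorem act0_eN_ne : act0 eN ≠ 1 := by
  intro e
  have h := pw_eq (show 1 < 11 by norm_num) ⟨0, by norm_num⟩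
  rw [pow_one, e, inv_one, Equiv.Perm.one_apply] at h
  have h0 : pw 1 0 ≠ 0 := bne_iff_ne.1 eW_ok.2.2.2.2.2
  exact h0 h.symm

theorem orderOf_eN : orderOf eN = 11 := by
  haveI : _root_.Fact (Nat.Prime 11) := ⟨by norm_num⟩
  exact orderOf_eq_prime eN_pow fun e => act0_eN_ne (by rw [e, map_one])

theorem orderOf_act0_eN : orderOf (act0 eN) = 11 := by
  haveI : _root_.Fact (Nat.Prime 11) := ⟨by norm_num⟩
  exact orderOf_eq_prime (by rw [← map_pow, eN_pow, map_one]) act0_eN_ne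

theorem adj_act0 (n : N0) : ∀ a b : Fin 100, adjB (act0 n a).val (act0 n b).val = adjB a.val b.val := by
  have hg : n ∈ Subgroup.closure {n0 0, n0 1, n0 2} := top_n0 ▸ Subgroup.mem_top n
  obtain ⟨e0, e1, e2⟩ := homN0_of HNPres.perm_rels
  induction hg using Subgroup.closure_induction with
  | mem t ht =>
    rcases ht with rfl | rfl | rfl
    · rw [act0, e0]; exact perm_aut _ (by simp)
    · rw [act0, e1]; exact perm_aut _ (by simp)
    · rw [act0, e2]; exact perm_aut _ (by simp)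
  | one => simp
  | mul u v _ _ hu hv =>
    intro a b
    rw [map_mul, Equiv.Perm.mul_apply, Equiv.Perm.mul_apply, hu, hv]
  | inv u _ hu =>
    intro a b
    rw [map_inv, ← hu]
    simp

theorem dfs_sound (P : ℕ → ℕ) (hlt : ∀ a < 100, P a < 100)
    (hadj : ∀ a < 100, ∀ b < 100, adjB (P a) (P b) = adjB a b)
    (hcomm : ∀ j < 11, ∀ a < 100, P (pw j a) = pw j (P a)) (hfix : P eFix = eFix)
    (hinj : ∀ a < 100, P a = eFix → a = eFix) :
    ∀ (rs : List ℕ) (A : List (ℕ × ℕ)), (∀ r ∈ rs, r < 100 ∧ r ≠ eFix) →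
      (∀ q ∈ A, q.1 < 100 ∧ P q.1 = q.2) → dfs rs A = true →
      ∃ j < 11, (∀ r ∈ rs, P r = pw j r) ∧ ∀ q ∈ A, P q.1 = pw j q.1
  | [], A, _, hA, h => by
    simp only [dfs, List.any_eq_true, List.all_eq_true, List.mem_range, beq_iff_eq] at h
    obtain ⟨j, hj, he⟩ := h
    exact ⟨j, hj, by simp, fun q hq => (hA q hq).2.trans (he q hq).symm⟩
  | r :: rs, A, hr, hA, h => by
    obtain ⟨hr1, hr2⟩ := hr r List.mem_cons_self
    simp only [dfs, List.all_eq_true, List.mem_range] at h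
    have hf : eFix < 100 := Nat.le_of_ble_eq_true own_ok.2.2
    have hp : ∀ q : ℕ × ℕ, q.1 < 100 → P q.1 = q.2 → okPair r (P r) q = true := fun q hq e => by
      simp only [okPair, List.all_eq_true, List.mem_range, beq_iff_eq]
      intro j hj
      rw [← e, ← hcomm j hj q.1 hq, hadj r hr1 _ (pw_lt hj hq)]
    have hb := h (P r) (hlt r hr1)
    have e1 : (P r != eFix) = true := bne_iff_ne.2 fun e => hr2 (hinj r hr1 e)
    have e2 : (adjB r eFix == adjB (P r) eFix) = true := by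
      rw [beq_iff_eq, ← hadj r hr1 eFix hf, hfix]
    have e3 : A.all (okPair r (P r)) = true := List.all_eq_true.2 fun q hq => hp q (hA q hq).1 (hA q hq).2
    rw [e1, e2, hp (r, P r) hr1 rfl, e3] at hb
    simp only [Bool.and_true, Bool.not_true, Bool.false_or] at hb
    obtain ⟨j, hj, h1, h2⟩ := dfs_sound P hlt hadj hcomm hfix hinj rs ((r, P r) :: A)
      (fun q hq => hr q (List.mem_cons_of_mem r hq))
      (fun q hq => by
        rcases List.mem_cons.1 hq with rfl | hq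
        · exact ⟨hr1, rfl⟩
        · exact hA q hq) hb
    refine ⟨j, hj, fun q hq => ?_, fun q hq => h2 q (List.mem_cons_of_mem _ hq)⟩
    rcases List.mem_cons.1 hq with rfl | hq
    · exact h2 _ List.mem_cons_self
    · exact h1 q hq

theorem commute_eN {n : N0} (h : Commute n eN) : ∃ j < 11, act0 n = (act0 eN ^ j)⁻¹ := by
  set p := act0 n with hp
  have hcm : ∀ j, Commute p (act0 eN ^ j)⁻¹ := fun j => ((h.map act0).pow_right j).inv_right
  let P : ℕ → ℕ := fun a => if ha : a < 100 then (p ⟨a, ha⟩).val else 0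
  have hP : ∀ a : Fin 100, P a = (p a).val := fun a => dif_pos a.isLt
  have hlt : ∀ a < 100, P a < 100 := fun a ha => by rw [hP ⟨a, ha⟩]; exact Fin.isLt _
  have hcomm : ∀ j < 11, ∀ a < 100, P (pw j a) = pw j (P a) := fun j hj a ha => by
    rw [← pw_eq hj ⟨a, ha⟩, hP, hP ⟨a, ha⟩, ← pw_eq hj, ← Equiv.Perm.mul_apply, (hcm j).eq, Equiv.Perm.mul_apply]
  have hf : eFix < 100 := Nat.le_of_ble_eq_true own_ok.2.2
  have hfix : P eFix = eFix := by
    have e := hcomm 1 (by norm_num) eFix hf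
    rw [eW_ok.2.2.2.1] at e
    have := List.all_eq_true.1 eW_ok.2.2.2.2.1 _ (List.mem_range.2 (hlt eFix hf))
    rw [← e] at this
    simpa using this
  have hinj : ∀ a < 100, P a = eFix → a = eFix := fun a ha e => by
    rw [← hfix, hP ⟨a, ha⟩, hP ⟨eFix, hf⟩] at e
    exact congrArg Fin.val (p.injective (Fin.ext e))
  obtain ⟨j, hj, h1, -⟩ := dfs_sound P hlt
    (fun a ha b hb => by rw [hP ⟨a, ha⟩, hP ⟨b, hb⟩]; exact adj_act0 n _ _) hcomm hfix hinj eReps []
    (fun r hr => by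
      have := List.all_eq_true.1 own_ok.2.1 r hr
      rw [Bool.and_eq_true, bne_iff_ne] at this
      exact ⟨Nat.le_of_ble_eq_true this.1, this.2⟩) (by simp) dfs_ok
  refine ⟨j, hj, Equiv.ext fun a => Fin.ext ?_⟩
  have ho := List.all_eq_true.1 own_ok.1 a.val (List.mem_range.2 a.isLt)
  simp only [Bool.and_eq_true, Bool.or_eq_true, beq_iff_eq, List.contains_iff_mem] at ho
  obtain ⟨⟨hi, hr⟩, ha⟩ := ho
  set r := (eOwn.getD a.val (0, 0)).1
  set i := (eOwn.getD a.val (0, 0)).2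
  have hi' : i < 11 := Nat.le_of_ble_eq_true hi
  rw [← hP a, pw_eq hj]
  have e1 : (act0 eN)⁻¹ (⟨eFix, hf⟩ : Fin 100) = ⟨eFix, hf⟩ := Fin.ext (by
    have := pw_eq (show 1 < 11 by norm_num) ⟨eFix, hf⟩
    rw [pow_one] at this
    exact this.trans eW_ok.2.2.2.1)
  have efix : ∀ k < 11, pw k eFix = eFix := fun k hk => by
    rw [← pw_eq hk ⟨eFix, hf⟩, ← inv_pow, Equiv.Perm.pow_apply_eq_self_of_apply_eq_self e1]
  rcases hr with hr | hr
  · rw [← ha, hr, efix i hi', hfix, efix j hj]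
  · have hr1 : r < 100 := by
      have := List.all_eq_true.1 own_ok.2.1 r hr
      rw [Bool.and_eq_true] at this
      exact Nat.le_of_ble_eq_true this.1
    rw [← ha, hcomm i hi' r hr1, h1 r hr, ← pw_eq hi' ⟨r, hr1⟩, ← pw_eq hj ⟨r, hr1⟩, ← pw_eq hi', ← pw_eq hj,
      ← Equiv.Perm.mul_apply, ← Equiv.Perm.mul_apply]
    rw [(((Commute.refl (act0 eN)).pow_pow i j).inv_inv).eq]

theorem involution_commute_eN {n : N0} (h : Commute n eN) (h2 : n * n = 1) : n = 1 ∨ n = cz := by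
  refine ker_act0 ?_
  obtain ⟨j, hj, e⟩ := commute_eN h
  have e2 : act0 eN ^ (j * 2) = 1 := by
    rw [pow_mul, ← inv_eq_one, ← inv_pow, ← e, pow_two, ← map_mul, h2, map_one]
  have hd := orderOf_act0_eN ▸ orderOf_dvd_of_pow_eq_one e2
  have hj0 : j = 0 := by omega
  rw [e, hj0, pow_zero, inv_one]

theorem fixes_of_ev {w : List ℕ} (h : okW w = true) (h0 : ev w 0 = 0) : val0 w ∈ stab0 := by
  have e : (act (val0 w))⁻¹ (0 : Fin 1408) = 0 := Fin.ext ((ev_eq h 0).trans h0)
  exact (Equiv.Perm.inv_eq_iff_eq.1 e).symm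

theorem cent_stab0 {n : N0} (h : ∀ s ∈ stab0, Commute n s) : n = 1 ∨ n = cz := by
  refine ker_act0 (Equiv.ext fun a => ?_)
  have hcm : ∀ w, okW w = true → ev w 0 = 0 → Commute (act0 n) (act0 (val0 w))⁻¹ := fun w hw h0 =>
    ((h _ (fixes_of_ev hw h0)).map act0).inv_right
  have ho := List.all_eq_true.1 cOrb_ok a.val (List.mem_range.2 a.isLt)
  simp only [Bool.and_eq_true, List.any_eq_true, beq_iff_eq] at ho
  obtain ⟨⟨⟨⟨⟨q, hq, hqb⟩, hw⟩, hw0⟩, hwa⟩, hb⟩ := ho
  set b : Fin 100 := ⟨(cOrb.getD a.val (0, [])).1, Nat.le_of_ble_eq_true hb⟩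
  set w := (cOrb.getD a.val (0, [])).2
  have hfix : act0 n b = b := by
    have hc := List.all_eq_true.1 cFix_ok q hq
    simp only [Bool.and_eq_true, List.all_eq_true, List.mem_range, Bool.or_eq_true, beq_iff_eq, List.any_eq_true,
      bne_iff_ne] at hc
    rcases hc.2 (act0 n b).val (Fin.isLt _) with he | ⟨u, hu, hne⟩
    · exact Fin.ext (he.trans hqb)
    · exfalso
      obtain ⟨⟨hu1, hu2⟩, hu3⟩ := hc.1 u hu
      refine hne ?_
      have eb : (act0 (val0 u))⁻¹ b = b := Fin.ext (by rw [ev0_eq hu1]; rw [hqb] at hu3; exact hu3)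
      rw [← ev0_eq hu1, ← Equiv.Perm.mul_apply, ← (hcm u hu1 hu2).eq, Equiv.Perm.mul_apply, eb]
  have ea : a = (act0 (val0 w))⁻¹ b := Fin.ext (by rw [ev0_eq hw]; exact hwa.symm)
  rw [Equiv.Perm.one_apply, ea, ← Equiv.Perm.mul_apply, (hcm w hw hw0).eq, Equiv.Perm.mul_apply, hfix]

end Cfsg.Lib.HNIndex
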