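import Cfsg.Agent.HNIndex.Main
import Cfsg.Agent.HNIndex.OutFix

/-!
The outer automorphisms of the presented Harada-Norton group.
-/

set_option autoImplicit false
set_option Elab.async false

namespace Cfsg.Lib.HNIndex

open Cfsg.Lib Cfsg.Lib.HNPres Cfsg.Lib.HNRep Cfsg.Lib.CosetCert
open scoped commutatorElement Pointwise

theorem finite_HNG : Finite HNG := Nat.finite_of_card_ne_zero (by rw [isHN.2]; norm_num)

theorem phi_cz : phi cz = xg ^ 2 := by rw [map_pow]; exact congrArg (· ^ 2) phi_im0.1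

theorem tg_ne : tg ≠ 1 := by
  intro e
  have h := nineData.size 1 (by norm_num) (by norm_num)
  have e1 : SG gWords 1 = ⊤ := eq_top_iff.2 fun n _ => by
    rw [mem_SG, g_one, e]
    exact ⟨n, by rw [one_mul, mul_one]⟩
  rw [e1, Subgroup.card_top, card_N0_eq, show sizes.getD 1 0 = 1408 from rfl] at h
  norm_num at h

theorem conj_cz_t : (xg ^ 2)⁻¹ * tg * xg ^ 2 = tg⁻¹ := by rw [inv_t, pow_two, mul_inv_rev]; group

theorem not_commute_t : ¬ Commute tg (phi cz) := fun h => by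
  rw [phi_cz] at h
  have e := conj_cz_t
  rw [mul_assoc, h.eq, inv_mul_cancel_left] at e
  have e2 : tg ^ 2 = 1 := by rw [pow_two]; nth_rw 2 [e]; exact mul_inv_cancel tg
  refine tg_ne ?_
  have := t_rels.1
  rwa [show 5 = 2 * 2 + 1 from rfl, pow_succ, pow_mul, e2, one_pow, one_mul] at this

theorem mem_of_commute_cz {g : HNG} (h : Commute g (phi cz)) : g ∈ phi.range := by
  have hle : phi.range ≤ Subgroup.centralizer {phi cz} := by
    rintro _ ⟨n, rfl⟩
    exact Subgroup.mem_centralizer_singleton_iff.2 ((cz_commute n).map phi).eq.symm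
  rcases maximal nineData _ hle with hM | hM
  · exact hM ▸ Subgroup.mem_centralizer_singleton_iff.2 h.eq
  · exact absurd (Subgroup.mem_centralizer_singleton_iff.1 (hM ▸ Subgroup.mem_top tg) : _) not_commute_t

theorem psi_injective : Function.Injective psi := by
  haveI := isHN.1
  rw [← MonoidHom.ker_eq_bot_iff]
  refine (IsSimpleGroup.eq_bot_or_eq_top_of_normal psi.ker inferInstance).resolve_right fun h => ?_
  refine x_sq_ne_one ?_
  have e : psi (xg ^ 2) = 1 := MonoidHom.mem_ker.1 (h ▸ Subgroup.mem_top _)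
  rw [map_pow, xg, hnGen, psi_of] at e
  rw [map_pow]
  simpa [rho] using e

theorem tr1_unique {g : Matˣ} {A B : ℕ} (ha : Ok1 g A) (hb : Ok1 g B) : tr1 A = tr1 B := by
  have h := ha.trace.symm.trans hb.trace
  rw [ZMod.natCast_eq_natCast_iff'] at h
  simpa [tr1] using h

theorem word_one {w : List ℕ} (h : ((matW w).2 && (matW w).1 == packRows (idMat 133)) = true) :
    CosetCert.wval im6 w = 1 := by
  rw [Bool.and_eq_true, beq_iff_eq] at h
  refine psi_injective (Units.ext ?_)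
  have a := (ok1_word w h.1).2
  have b := (ok1_word [] (by rw [matW_nil])).2
  rw [h.2] at a
  rw [matW_nil] at b
  rw [show CosetCert.wval im6 [] = (1 : HNG) from List.prod_nil] at b
  exact a.symm.trans b

theorem word_ne_one {w : List ℕ} (h : ((matW w).2 && tr1 (matW w).1 != tr1 (packRows (idMat 133))) = true) :
    CosetCert.wval im6 w ≠ 1 := by
  rw [Bool.and_eq_true, bne_iff_ne] at h
  intro e
  have a := ok1_word w h.1
  have b := ok1_word [] (by rw [matW_nil])
  rw [e] at a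
  rw [matW_nil, show CosetCert.wval im6 [] = (1 : HNG) from List.prod_nil] at b
  exact h.2 (tr1_unique a b)

theorem alpha_word : ((matW [4, 0, 0, 5, 5, 4, 0, 0, 5, 5, 4, 0, 0, 5, 5]).2 &&
    (matW [4, 0, 0, 5, 5, 4, 0, 0, 5, 5, 4, 0, 0, 5, 5]).1 == packRows (idMat 133)) = true := by decide +kernel

theorem two_word : ((matW [4, 5, 5, 4, 5, 5, 4, 5, 5]).2 &&
    tr1 (matW [4, 5, 5, 4, 5, 5, 4, 5, 5]).1 != tr1 (packRows (idMat 133))) = true := by decide +kernel

theorem im6_vals : im6 0 = xg ∧ im6 4 = zg ∧ im6 5 = tg := ⟨phi_im0.1, phi_im0.2.2.2.2, rfl⟩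

/-- The images of the generators under the outer automorphism. -/
def genA : Cfsg.Spor.HN.Gen → HNG
  | .x => xg
  | .y => yg
  | .z => zg * xg ^ 2
  | .t => tg ^ 2

theorem genA_rels : ∀ r ∈ hnRels, FreeGroup.lift genA r = 1 := by
  obtain ⟨e0, -, e2, -, e4⟩ := phi_im0
  have hx : Commute (xg ^ 2) xg := (Commute.refl xg).pow_left 2
  have hy : Commute (xg ^ 2) yg := by rw [← phi_cz, ← e2]; exact (cz_commute _).map phi
  have hz : Commute (xg ^ 2) zg := by rw [← phi_cz, ← e4]; exact (cz_commute _).map phi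
  have hc2 : (xg ^ 2) * (xg ^ 2) = 1 := by rw [← phi_cz, ← map_mul, cz_sq, map_one]
  have hm : ∀ r ∈ Cfsg.Spor.HN.extra, (PresentedGroup.mk hnRels) r = 1 := fun r hr =>
    PresentedGroup.one_of_mem (Or.inr hr)
  have mx : (PresentedGroup.mk hnRels) Cfsg.Spor.HN.x = xg := rfl
  have my : (PresentedGroup.mk hnRels) Cfsg.Spor.HN.y = yg := rfl
  have mz : (PresentedGroup.mk hnRels) Cfsg.Spor.HN.z = zg := rfl
  have mt : (PresentedGroup.mk hnRels) Cfsg.Spor.HN.t = tg := rfl
  simp only [Cfsg.Spor.HN.extra, List.forall_mem_cons, map_mul, map_pow, map_inv, mx, my, mz, mt] at hm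
  obtain ⟨h0, h1, h2, h3, h4, h5, h6, h7, h8, h9, h10, h11, h12, h13, -⟩ := hm
  rintro r (⟨u, hu, -⟩ | hr)
  · simp [Cfsg.Spor.coxNodes, Cfsg.Spor.HN.edges] at hu
  revert r
  show ∀ r ∈ Cfsg.Spor.HN.extra, FreeGroup.lift genA r = 1
  simp only [Cfsg.Spor.HN.extra, List.forall_mem_cons, map_mul, map_pow, map_inv, Cfsg.Spor.HN.x, Cfsg.Spor.HN.y,
    Cfsg.Spor.HN.z, Cfsg.Spor.HN.t, FreeGroup.lift_apply_of, genA]
  refine ⟨h0, h1, h2, h3, h4, h5, ?_, ?_, ?_, ?_, ?_, ?_, ?_, ?_, fun r hr => by simp at hr⟩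
  · rw [hz.symm.mul_pow, h6, one_mul, pow_two]
    exact hc2
  · rw [mul_assoc, hx.eq, ← mul_assoc, ((hz.mul_right hx).symm).mul_pow, h7, one_mul, pow_two]
    exact hc2
  · set w := yg * xg * yg * xg * yg ^ 2 * xg * yg⁻¹
    have hw : Commute (xg ^ 2) w :=
      (((((hy.mul_right hx).mul_right hy).mul_right hx).mul_right (hy.pow_right 2)).mul_right hx).mul_right hy.inv_right
    calc (zg * xg ^ 2)⁻¹ * w⁻¹ * (zg * xg ^ 2) * w * (xg ^ 2)⁻¹
        = (xg ^ 2)⁻¹ * (zg⁻¹ * w⁻¹ * zg) * ((xg ^ 2) * w) * (xg ^ 2)⁻¹ := by group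
      _ = (xg ^ 2)⁻¹ * (zg⁻¹ * w⁻¹ * zg) * w := by rw [hw.eq]; group
      _ = (xg ^ 2)⁻¹ * (zg⁻¹ * w⁻¹ * zg * w * (xg ^ 2)⁻¹) * (xg ^ 2) := by group
      _ = 1 := by rw [h8]; group
  · set u := yg ^ 3 * xg * yg * xg * yg
    have hu : Commute (xg ^ 2) u := ((((hy.pow_right 3).mul_right hx).mul_right hy).mul_right hx).mul_right hy
    have e : u⁻¹ * (zg * xg ^ 2) * u * xg = u⁻¹ * zg * u * xg * xg ^ 2 := by
      calc u⁻¹ * (zg * xg ^ 2) * u * xg = u⁻¹ * zg * (xg ^ 2 * u) * xg := by group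
        _ = u⁻¹ * zg * u * (xg ^ 2 * xg) := by rw [hu.eq]; group
        _ = _ := by rw [hx.eq]; group
    have hA : Commute (u⁻¹ * zg * u * xg) (xg ^ 2) :=
      (((hu.inv_right.mul_right hz).mul_right hu).mul_right hx).symm
    have c4 : (xg ^ 2) ^ 3 = xg ^ 2 := by rw [pow_succ, pow_two (xg ^ 2), hc2, one_mul]
    rw [e, hA.mul_pow, c4, (hA.pow_left 3).eq, ← mul_assoc, mul_assoc zg, hc2, mul_one]
    exact h9
  · rw [← pow_mul, mul_comm, pow_mul, h10, one_pow]
  · calc xg⁻¹ * tg ^ 2 * xg * (tg ^ 2) ^ 2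
        = (xg⁻¹ * tg * xg) * (xg⁻¹ * tg * xg) * (tg ^ 2) ^ 2 := by rw [pow_two tg]; group
      _ = 1 := by rw [conj_t]; group
  · calc (tg ^ 2)⁻¹ * yg⁻¹ * tg ^ 2 * yg = (tg ^ 2)⁻¹ * (yg⁻¹ * (tg ^ 2 * yg)) := by group
      _ = 1 := by rw [← (comm_y.pow_right 2).eq]; group
  · have h := word_one alpha_word
    obtain ⟨i0, i4, i5⟩ := im6_vals
    simpa [CosetCert.wval, i0, i4, i5, pow_succ, mul_assoc] using h

/-- The endomorphism fixing x and y and moving z. -/
def alphaHom : HNG →* HNG := PresentedGroup.toGroup (f := genA) genA_rels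

theorem alphaHom_of : alphaHom xg = xg ∧ alphaHom yg = yg ∧ alphaHom zg = zg * xg ^ 2 ∧ alphaHom tg = tg ^ 2 :=
  ⟨PresentedGroup.toGroup.of genA_rels, PresentedGroup.toGroup.of genA_rels, PresentedGroup.toGroup.of genA_rels,
    PresentedGroup.toGroup.of genA_rels⟩

theorem alpha_bijective : Function.Bijective alphaHom := by
  haveI := isHN.1
  haveI := finite_HNG
  have hi : Function.Injective alphaHom := by
    rw [← MonoidHom.ker_eq_bot_iff]
    refine (IsSimpleGroup.eq_bot_or_eq_top_of_normal alphaHom.ker inferInstance).resolve_right fun h => ?_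
    have e : alphaHom xg = 1 := MonoidHom.mem_ker.1 (h ▸ Subgroup.mem_top _)
    rw [alphaHom_of.1] at e
    refine cz_ne (phi_injective ?_)
    rw [phi_cz, e, one_pow, map_one]
  exact ⟨hi, Finite.injective_iff_surjective.1 hi⟩

/-- The outer automorphism. -/
noncomputable def alpha : MulAut HNG := MulEquiv.ofBijective alphaHom alpha_bijective

theorem alpha_phi : alpha (phi (n0 0)) = phi (n0 0) ∧ alpha (phi (n0 1)) = phi (n0 1) ∧
    alpha (phi (n0 2)) = phi (n0 2 * cz) := by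
  obtain ⟨e0, e1, e2⟩ := homN0_of hn_rels
  rw [map_mul, phi_cz, phi, e0, e1, e2]
  exact ⟨alphaHom_of.1, alphaHom_of.2.1, alphaHom_of.2.2.1⟩

theorem n0_hom_ext {A : Type*} [Group A] {f g : N0 →* A} (h0 : f (n0 0) = g (n0 0)) (h1 : f (n0 1) = g (n0 1))
    (h2 : f (n0 2) = g (n0 2)) : f = g :=
  PresentedGroup.ext fun i => by fin_cases i <;> assumption

theorem alpha_not_inner : alpha ∉ Cfsg.Inn HNG := by
  rintro ⟨g, hg⟩
  have hap : ∀ a, g * a * g⁻¹ = alpha a := fun a => DFunLike.congr_fun hg a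
  obtain ⟨a0, a1, a2⟩ := alpha_phi
  have hcz : g * phi cz * g⁻¹ = phi cz := by rw [hap, map_pow, map_pow, a0]
  obtain ⟨n, rfl⟩ := mem_of_commute_cz (g := g) (mul_inv_eq_iff_eq_mul.1 hcz)
  have hc : ∀ k, phi (n * k * n⁻¹) = alpha (phi k) := fun k => by rw [map_mul, map_mul, map_inv]; exact hap _
  have c0 : n * n0 0 * n⁻¹ = n0 0 := phi_injective ((hc _).trans a0)
  have c1 : n * n0 1 * n⁻¹ = n0 1 := phi_injective ((hc _).trans a1)
  have c2 : n * n0 2 * n⁻¹ = n0 2 * cz := phi_injective ((hc _).trans a2)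
  have hhom : (MulAut.conj (act0 n)).toMonoidHom.comp act0 = act0 := by
    refine n0_hom_ext ?_ ?_ ?_ <;>
      simp only [MonoidHom.comp_apply, MulEquiv.coe_toMonoidHom, MulAut.conj_apply, ← map_inv, ← map_mul, c0, c1, c2]
    rw [map_mul, act0_cz, mul_one]
  have hn : act0 n = 1 := by
    refine Cfsg.Lib.HSModel.cent_trivial fun p hp => ?_
    obtain ⟨k, rfl⟩ : p ∈ act0.range := act0_range ▸ hp.1
    exact mul_inv_eq_iff_eq_mul.1 (DFunLike.congr_fun hhom k)
  have hz : n * n0 2 * n⁻¹ = n0 2 := by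
    rcases ker_act0 hn with rfl | rfl
    · simp
    · rw [(cz_commute _).eq, mul_inv_cancel_right]
  exact cz_ne (left_eq_mul.1 (hz.symm.trans c2))

theorem mem_of_conj_eN {g : HNG} (h : g * phi eN * g⁻¹ ∈ phi.range) : g ∈ phi.range := by
  haveI := card_N0.1
  obtain ⟨i, hi, a, b, e⟩ := inU_all nineData g
  rcases Nat.eq_zero_or_pos i with rfl | hpos
  · rw [e, g_zero, mul_one]
    exact ⟨a * b, map_mul phi a b⟩
  exfalso
  obtain ⟨v, hv⟩ := h
  have hmem : b * eN * b⁻¹ ∈ SG gWords i := by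
    rw [mem_SG]
    refine ⟨a⁻¹ * v * a, ?_⟩
    simp only [map_mul, map_inv]
    rw [hv, e]
    group
  have ho : orderOf (b * eN * b⁻¹) = 11 :=
    (orderOf_injective (MulAut.conj b).toMonoidHom (MulAut.conj b).injective eN).trans orderOf_eN
  have hd : 11 ∣ Nat.card (SG gWords i) := by
    rw [← ho, ← Subgroup.orderOf_mk _ hmem]
    exact orderOf_dvd_natCard _
  have hs := nineData.size i (nineData.len ▸ hi) hpos
  have hi9 : i < 9 := nineData.len ▸ hi
  interval_cases i <;> norm_num [sizes, List.getD_cons_succ, List.getD_cons_zero] at hs <;> omega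

theorem exists_conj_eN (β : MulAut HNG) : ∃ g : HNG, MulAut.conj g * β ∈ {b : MulAut HNG | b (phi cz) = phi cz} := by
  haveI := finite_HNG
  haveI : _root_.Fact (Nat.Prime 11) := ⟨by norm_num⟩
  have hoE : orderOf (phi eN) = 11 := (orderOf_injective phi phi_injective eN).trans orderOf_eN
  have hcard : ∀ u : HNG, orderOf u = 11 → Nat.card (Subgroup.zpowers u) = 11 ^ 1 := fun u hu => by
    rw [Nat.card_zpowers, hu, pow_one]
  have hidx : ∀ u : HNG, orderOf u = 11 → ¬ 11 ∣ (Subgroup.zpowers u).index := fun u hu => by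
    have h := Subgroup.card_mul_index (Subgroup.zpowers u)
    rw [hcard u hu, isHN.2] at h
    omega
  have hoB : orderOf (β (phi eN)) = 11 := by rw [MulEquiv.orderOf_eq, hoE]
  obtain ⟨g, hg⟩ := MulAction.exists_smul_eq HNG
    ((IsPGroup.of_card (hcard _ hoE)).toSylow (hidx _ hoE)) ((IsPGroup.of_card (hcard _ hoB)).toSylow (hidx _ hoB))
  have hm : g⁻¹ * β (phi eN) * g ∈ Subgroup.zpowers (phi eN) := by
    have h1 : β (phi eN) ∈ (MulAut.conj g • Subgroup.zpowers (phi eN) : Subgroup HNG) := by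
      have e := congrArg Sylow.toSubgroup hg
      rw [Sylow.coe_subgroup_smul] at e
      rw [show (MulAut.conj g • Subgroup.zpowers (phi eN) : Subgroup HNG) = Subgroup.zpowers (β (phi eN)) from e]
      exact Subgroup.mem_zpowers _
    rw [Subgroup.mem_pointwise_smul_iff_inv_smul_mem] at h1
    simpa [MulAut.smul_def] using h1
  refine ⟨g⁻¹, ?_⟩
  set β1 := MulAut.conj g⁻¹ * β
  have hb : β1 (phi eN) ∈ Subgroup.zpowers (phi eN) := by
    show g⁻¹ * β (phi eN) * g⁻¹⁻¹ ∈ _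
    rwa [inv_inv]
  have hE : phi eN ∈ Subgroup.zpowers (β1 (phi eN)) := by
    have ho : orderOf (β1 (phi eN)) = 11 := by rw [MulEquiv.orderOf_eq, hoE]
    have := Subgroup.eq_of_le_of_card_ge (Subgroup.zpowers_le.2 hb) (by rw [hcard _ ho, hcard _ hoE])
    rw [this]
    exact Subgroup.mem_zpowers _
  have hcm : Commute (β1 (phi cz)) (phi eN) := by
    obtain ⟨k, hk⟩ := hE
    rw [← hk]
    exact (((cz_commute eN).map phi).map β1).zpow_right k
  have hin : β1 (phi cz) ∈ phi.range := mem_of_conj_eN (by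
    rw [hcm.eq, mul_inv_cancel_right]
    exact ⟨eN, rfl⟩)
  obtain ⟨n, hn⟩ := hin
  have h1 : Commute n eN := phi_injective (by rw [map_mul, map_mul, hn]; exact hcm.eq)
  have h2 : n * n = 1 := phi_injective (by rw [map_mul, hn, ← map_mul, ← map_mul, cz_sq, map_one, map_one])
  rcases involution_commute_eN h1 h2 with rfl | rfl
  · exfalso
    refine cz_ne (phi_injective (β1.injective ?_))
    rw [← hn, map_one]
    simp
  · exact hn.symm

theorem range_fixed {β : MulAut HNG} (hβ : β (phi cz) = phi cz) (n : N0) : β (phi n) ∈ phi.range := by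
  refine mem_of_commute_cz ?_
  have := ((cz_commute n).map phi).symm.map β
  rwa [hβ] at this

theorem commutator_N0 : K0 = commutator N0 := by
  refine le_antisymm ?_ (Abelianization.commutator_subset_ker par0)
  rw [← perfect_K0, commutator_def]
  exact Subgroup.commutator_mono le_top le_top

theorem n0_commutator_map (f : N0 →* N0) {k : N0} (hk : k ∈ K0) : f k ∈ K0 := by
  rw [commutator_N0] at hk ⊢
  have h := Subgroup.mem_map_of_mem f hk
  rw [commutator_def, Subgroup.map_commutator] at h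
  exact Subgroup.commutator_mono le_top le_top h

theorem exists_conj_even {β : MulAut HNG} (hβ : β (phi cz) = phi cz) :
    ∃ g : HNG, ∀ k : N0, k ∈ K0 → (MulAut.conj g * β) (phi k) = phi k := by
  haveI := card_N0.1
  classical
  let eH := MonoidHom.ofInjective (f := phi) phi_injective
  let γ : N0 →* N0 := eH.symm.toMonoidHom.comp ((β.toMonoidHom.comp phi).codRestrict phi.range (range_fixed hβ))
  have hγ : ∀ n, phi (γ n) = β (phi n) := fun n => by
    have h := eH.apply_symm_apply ⟨β (phi n), range_fixed hβ n⟩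
    exact congrArg Subtype.val h
  have hγi : Function.Injective γ := fun a b e => phi_injective (β.injective (by rw [← hγ, ← hγ, e]))
  let δ : K0 →* K0 := (γ.comp K0.subtype).codRestrict K0 fun k => n0_commutator_map γ k.2
  have hδi : Function.Injective δ := fun a b e => Subtype.ext (hγi (congrArg Subtype.val e))
  have hδs : Function.Surjective δ := Finite.injective_iff_surjective.1 hδi
  have hker : act1.ker ≤ (act1.comp δ).ker := fun k hk => by
    rw [MonoidHom.mem_ker] at hk ⊢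
    rcases ker_act0 (n := k.1) (congrArg Subtype.val hk : act0 k.1 = 1) with e | e
    · rw [show k = 1 from Subtype.ext e, map_one]
    · refine Subtype.ext ?_
      show act0 (γ k.1) = 1
      show act0 (γ (k : N0)) = 1
      rw [show (k : N0) = cz from e, show γ cz = cz from phi_injective ((hγ _).trans hβ), act0_cz]
  let bar : Cfsg.Lib.HSModel.grp →* Cfsg.Lib.HSModel.grp :=
    act1.liftOfSurjective act1_surj ⟨act1.comp δ, hker⟩
  have hbar : ∀ k, bar (act1 k) = act1 (δ k) := fun k =>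
    MonoidHom.liftOfRightInverse_comp_apply act1 _ (Function.rightInverse_surjInv act1_surj) ⟨act1.comp δ, hker⟩ k
  have hbs : Function.Surjective bar := fun q => by
    obtain ⟨k, rfl⟩ := act1_surj q
    obtain ⟨l, rfl⟩ := hδs k
    exact ⟨act1 l, hbar l⟩
  let bA : MulAut Cfsg.Lib.HSModel.grp := MulEquiv.ofBijective bar ⟨Finite.injective_iff_surjective.2 hbs, hbs⟩
  obtain ⟨p, hp, hpe⟩ : ∃ p ∈ Cfsg.Lib.HSModel.toP.range, ∀ q : Cfsg.Lib.HSModel.grp,
      (bA q).1 = p * q.1 * p⁻¹ := by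
    obtain ⟨y, -, hy⟩ := (Nat.card_eq_two_iff' (1 : Cfsg.Out Cfsg.Lib.HSModel.grp)).1 Cfsg.Lib.HSModel.card_out_grp
    by_cases h1 : (bA : Cfsg.Out Cfsg.Lib.HSModel.grp) = 1
    · obtain ⟨g, hg⟩ := (QuotientGroup.eq_one_iff bA).1 h1
      exact ⟨g, g.2.1, fun q => by rw [← hg]; rfl⟩
    · have ho : (Cfsg.Lib.HSModel.outAut : Cfsg.Out Cfsg.Lib.HSModel.grp) ≠ 1 := fun e =>
        Cfsg.Lib.HSModel.outAut_outer ((QuotientGroup.eq_one_iff _).1 e)
      obtain ⟨g, hg⟩ := QuotientGroup.eq.1 ((hy _ ho).trans (hy _ h1).symm)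
      refine ⟨Cfsg.Lib.HSModel.imH 9 * g, mul_mem (Cfsg.Lib.HSModel.imH_mem (by simp)) g.2.1, fun q => ?_⟩
      have e : bA = Cfsg.Lib.HSModel.outAut * MulAut.conj g := by rw [hg, mul_inv_cancel_left]
      rw [e]
      show Cfsg.Lib.HSModel.imH 9 * ((g : Equiv.Perm (Fin 100)) * q.1 * (g : Equiv.Perm (Fin 100))⁻¹) *
        (Cfsg.Lib.HSModel.imH 9)⁻¹ = _
      group
  obtain ⟨m, rfl⟩ : p ∈ act0.range := act0_range ▸ hp
  refine ⟨(phi m)⁻¹, ?_⟩
  let r : N0 →* N0 := (MulAut.conj m⁻¹).toMonoidHom.comp γ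
  have hr : ∀ k ∈ K0, r k = k ∨ r k = k * cz := fun k hk => by
    have h : act0 (γ k) = act0 m * act0 k * (act0 m)⁻¹ := by
      rw [← show (bA (act1 ⟨k, hk⟩)).1 = act0 (γ k) from congrArg Subtype.val (hbar ⟨k, hk⟩)]
      exact hpe _
    have e : act0 (k⁻¹ * r k) = 1 := by
      show act0 (k⁻¹ * (m⁻¹ * γ k * m⁻¹⁻¹)) = 1
      simp only [inv_inv, map_mul, map_inv, h]
      group
    rcases ker_act0 e with e | e
    · exact Or.inl (inv_mul_eq_one.1 e).symm
    · exact Or.inr (inv_mul_eq_iff_eq_mul.1 e)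
  have hle : K0 ≤ r.eqLocus (MonoidHom.id N0) := by
    nth_rw 1 [← perfect_K0]
    rw [Subgroup.commutator_le]
    intro a ha b hb
    show r ⁅a, b⁆ = ⁅a, b⁆
    rw [map_commutatorElement]
    obtain ⟨u, hu, eu⟩ : ∃ u, (∀ x, Commute u x) ∧ r a = a * u := by
      rcases hr a ha with e | e
      · exact ⟨1, Commute.one_left, by rw [e, mul_one]⟩
      · exact ⟨cz, cz_commute, e⟩
    obtain ⟨v, hv, ev'⟩ : ∃ v, (∀ x, Commute v x) ∧ r b = b * v := by
      rcases hr b hb with e | e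
      · exact ⟨1, Commute.one_left, by rw [e, mul_one]⟩
      · exact ⟨cz, cz_commute, e⟩
    rw [eu, ev', commutatorElement_def, commutatorElement_def, mul_inv_rev, mul_inv_rev]
    calc a * u * (b * v) * (u⁻¹ * a⁻¹) * (v⁻¹ * b⁻¹)
        = a * (u * (b * v)) * u⁻¹ * a⁻¹ * v⁻¹ * b⁻¹ := by group
      _ = a * b * (v * a⁻¹) * v⁻¹ * b⁻¹ := by rw [(hu _).eq]; group
      _ = a * b * a⁻¹ * b⁻¹ := by rw [(hv _).eq]; group
  intro k hk
  have e : r k = k := hle hk
  show (phi m)⁻¹ * β (phi k) * (phi m)⁻¹⁻¹ = phi k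
  rw [← hγ]
  simpa [r, mul_assoc] using congrArg phi e

theorem exists_fix_H (β : MulAut HNG) : ∃ (g : HNG) (α : MulAut HNG), (α = 1 ∨ α = alpha) ∧
    ∀ n : N0, (α * (MulAut.conj g * β)) (phi n) = phi n := by
  obtain ⟨g1, hg1⟩ := exists_conj_eN β
  obtain ⟨g2, hg2⟩ := exists_conj_even (β := MulAut.conj g1 * β) hg1
  set β2 := MulAut.conj g2 * (MulAut.conj g1 * β) with hβ2
  have hcz : β2 (phi cz) = phi cz := hg2 cz (pow_mem gens_K0.1 2)
  obtain ⟨w, hw⟩ := range_fixed hcz (n0 2)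
  have hu : act0 ((n0 2)⁻¹ * w) = 1 := by
    refine Cfsg.Lib.HSModel.cent_trivial fun p hp => ?_
    obtain ⟨k, hk⟩ := act1_surj ⟨p, hp⟩
    have hk' : act0 k.1 = p := congrArg Subtype.val hk
    haveI : K0.Normal := MonoidHom.normal_ker _
    have e : w * k * w⁻¹ = n0 2 * k * (n0 2)⁻¹ := phi_injective (by
      have h := hg2 _ (Subgroup.Normal.conj_mem ‹K0.Normal› _ k.2 (n0 2))
      simp only [map_mul, map_inv] at h ⊢
      rwa [hg2 _ k.2, ← hw] at h)
    have e' : (n0 2)⁻¹ * w * k = k * ((n0 2)⁻¹ * w) := by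
      calc (n0 2)⁻¹ * w * k = (n0 2)⁻¹ * (w * k * w⁻¹) * w := by group
        _ = k * ((n0 2)⁻¹ * w) := by rw [e]; group
    have h := congrArg act0 e'
    rwa [map_mul, map_mul _ (k : N0), hk'] at h
  obtain ⟨e0, e1, -⟩ := alpha_phi
  have hconj : MulAut.conj (g2 * g1) * β = β2 := by rw [hβ2, map_mul, mul_assoc]
  rcases ker_act0 hu with h | h
  · refine ⟨g2 * g1, 1, Or.inl rfl, fun n => ?_⟩
    rw [one_mul, hconj]
    exact DFunLike.congr_fun (n0_hom_ext (f := β2.toMonoidHom.comp phi) (g := phi) (hg2 _ gens_K0.1)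
      (hg2 _ gens_K0.2.1) (hw.symm.trans (by rw [← inv_mul_eq_one.1 h]))) n
  · refine ⟨g2 * g1, alpha, Or.inr rfl, fun n => ?_⟩
    rw [hconj]
    refine DFunLike.congr_fun (n0_hom_ext (f := (alpha * β2).toMonoidHom.comp phi) (g := phi) ?_ ?_ ?_) n
    · show alpha (β2 (phi (n0 0))) = _
      rw [hg2 _ gens_K0.1, e0]
    · show alpha (β2 (phi (n0 1))) = _
      rw [hg2 _ gens_K0.2.1, e1]
    · show alpha (β2 (phi (n0 2))) = _
      rw [← hw, inv_mul_eq_iff_eq_mul.1 h, map_mul, map_mul, alpha_phi.2.2, map_pow, map_pow, e0, ← map_pow,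
        ← map_mul, mul_assoc, cz_sq, mul_one]

theorem conj_pow_t : ∀ k : ℕ, (phi (n0 0 ^ k))⁻¹ * tg * phi (n0 0 ^ k) = tg ^ (3 ^ k)
  | 0 => by simp
  | k + 1 => by
    have h3 : xg⁻¹ * tg * xg = tg ^ 3 := by
      rw [conj_t]
      refine inv_eq_of_mul_eq_one_right ?_
      rw [← pow_add]
      exact t_rels.1
    have ex : phi (n0 0) = xg := phi_im0.1
    calc (phi (n0 0 ^ (k + 1)))⁻¹ * tg * phi (n0 0 ^ (k + 1))
        = xg⁻¹ * ((phi (n0 0 ^ k))⁻¹ * tg * phi (n0 0 ^ k)) * xg := by rw [pow_succ, map_mul, ex]; group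
      _ = (xg⁻¹ * tg * xg) ^ (3 ^ k) := by
        rw [conj_pow_t k]
        induction (3 ^ k) with
        | zero => simp
        | succ m ih => rw [pow_succ, pow_succ, ← ih]; group
      _ = tg ^ (3 ^ (k + 1)) := by rw [h3, ← pow_mul, pow_succ']

theorem inner_of_fix {β : MulAut HNG} (hβ : ∀ n, β (phi n) = phi n) : β ∈ Cfsg.Inn HNG := by
  haveI := card_N0.1
  set u := β tg with hu
  have hu1 : u ≠ 1 := fun e => tg_ne (β.injective (e.trans (map_one β).symm))
  have hu5 : u ^ 5 = 1 := by rw [hu, ← map_pow, t_rels.1, map_one]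
  have hcu : ∀ s ∈ stab0, Commute (phi s) u := fun s hs => by
    have := (commute_t_of_fix hs).map β
    rwa [hβ] at this
  obtain ⟨i, hi, a, b, e⟩ := inU_all nineData u
  have hle : stab0.map (MulAut.conj b).toMonoidHom ≤ SG gWords i := by
    rintro _ ⟨s, hs, rfl⟩
    rw [mem_SG]
    refine ⟨a⁻¹ * s * a, ?_⟩
    have h := (hcu s hs).eq
    rw [e] at h
    simp only [MulEquiv.coe_toMonoidHom, MulAut.conj_apply, map_mul, map_inv]
    calc gval gWords i * (phi b * phi s * (phi b)⁻¹)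
        = (phi a)⁻¹ * (phi a * gval gWords i * phi b * phi s) * (phi b)⁻¹ := by group
      _ = _ := by rw [← h]; group
  have hi9 : i < 9 := nineData.len ▸ hi
  have hlast : ∀ (n : N0) (m : ℕ), (∀ s ∈ stab0, Commute (phi s) (phi n * tg ^ m)) → n = 1 ∨ n = cz :=
    fun n m h => cent_stab0 fun s hs => phi_injective (by
      have h' := (h s hs).mul_right ((commute_t_of_fix hs).pow_right m).inv_right
      rw [mul_inv_cancel_right] at h'
      rw [map_mul, map_mul]
      exact h'.eq.symm)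
  rcases Nat.lt_or_ge i 2 with h2 | h2
  swap
  · exfalso
    have hc := Subgroup.card_le_of_le hle
    rw [Subgroup.card_map_of_injective (MulAut.conj b).injective, card_stab0] at hc
    have hs := nineData.size i hi9 (by omega)
    interval_cases i <;> norm_num [sizes, List.getD_cons_succ, List.getD_cons_zero] at hs <;> omega
  interval_cases i
  · exfalso
    rw [g_zero, mul_one, ← map_mul] at e
    rcases hlast (a * b) 0 (fun s hs => by rw [pow_zero, mul_one, ← e]; exact hcu s hs) with h | h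
    · exact hu1 (by rw [e, h, map_one])
    · refine hu1 ?_
      rw [e, h] at hu5
      rw [e, h]
      have hsq : phi cz ^ 2 = 1 := by rw [pow_two, ← map_mul, cz_sq, map_one]
      rwa [show 5 = 2 * 2 + 1 from rfl, pow_succ, pow_mul, hsq, one_pow, one_mul] at hu5
  rw [g_one] at e
  rw [SG_one nineData] at hle
  set p := act b⁻¹ (0 : Fin 1408) with hp
  have hfix : ∀ w, okW w = true → ev w 0 = 0 → ev w p.val = p.val := fun w hw h0 => by
    have hs := fixes_of_ev hw h0
    have h : act (b * val0 w * b⁻¹) (0 : Fin 1408) = 0 := hle ⟨val0 w, hs, rfl⟩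
    rw [map_mul, map_mul, Equiv.Perm.mul_apply, Equiv.Perm.mul_apply, ← hp] at h
    have h' : act (val0 w) p = p := by
      rw [hp, map_inv] at h ⊢
      exact (Equiv.Perm.eq_inv_iff_eq.2 h)
    rw [← ev_eq hw, Equiv.Perm.inv_eq_iff_eq.2 h'.symm]
  have hcw := cWords_fix
  simp only [cWords, List.all_cons, List.all_nil, Bool.and_true, Bool.and_eq_true, beq_iff_eq] at hcw
  have hF := List.all_eq_true.1 fix1408_ok p.val (List.mem_range.2 p.isLt)
  rw [hfix [2] hcw.1.1 hcw.1.2, hfix [1, 2, 0] hcw.2.2.1.1 hcw.2.2.1.2] at hF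
  simp only [beq_self_eq_true, Bool.and_self, Bool.not_true, Bool.false_or, List.any_eq_true, List.mem_range,
    beq_iff_eq] at hF
  obtain ⟨k, hk, hkp⟩ := hF
  have hok : okW (List.replicate k 0) = true := by
    rw [okW, List.all_eq_true]
    intro l hl
    rw [(List.mem_replicate.1 hl).2]
    rfl
  have hvk : val0 (List.replicate k 0) = n0 0 ^ k := by
    simp [val0, CosetCert.wval, List.map_replicate, List.prod_replicate, im0, letters]
  have hb0 : act (b * (n0 0 ^ k)⁻¹) (0 : Fin 1408) = 0 := by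
    have e1 : (act (n0 0 ^ k))⁻¹ (0 : Fin 1408) = p :=
      Fin.ext (by rw [← hvk]; exact (ev_eq hok 0).trans hkp)
    rw [map_mul, map_inv, Equiv.Perm.mul_apply, e1, hp, map_inv, ← Equiv.Perm.mul_apply,
      mul_inv_cancel, Equiv.Perm.one_apply]
  have ht := commute_t_of_fix hb0
  have e' : u = phi (a * b) * tg ^ (3 ^ k) := by
    rw [← conj_pow_t k, e]
    rw [map_mul, map_inv] at ht
    calc phi a * tg * phi b = phi a * (tg * (phi b * (phi (n0 0 ^ k))⁻¹)) * phi (n0 0 ^ k) := by group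
      _ = _ := by rw [← ht.eq, map_mul]; group
  have hne : ∀ {m : ℕ}, u = tg ^ m → m % 5 ≠ 2 ∧ m % 5 ≠ 3 := by
    intro m hm
    have h3 : (zg * u) ^ 3 = 1 := by
      have hzg : β zg = zg := by rw [← phi_im0.2.2.2.2]; exact hβ _
      rw [hu, ← hzg, ← map_mul, ← map_pow, t_rels.2.2.2.1, map_one]
    have hbad : (zg * tg ^ 2) ^ 3 ≠ 1 := fun h => word_ne_one two_word (by
      obtain ⟨-, i4, i5⟩ := im6_vals
      simpa [CosetCert.wval, i4, i5, pow_succ, mul_assoc] using h)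
    rw [hm, pow_eq_pow_mod m t_rels.1] at h3
    refine ⟨fun h => hbad (h ▸ h3), fun h => hbad ?_⟩
    rw [h] at h3
    have e3 : tg ^ 3 = (tg ^ 2)⁻¹ := (inv_eq_of_mul_eq_one_right (by rw [← pow_add]; exact t_rels.1)).symm
    have zi : zg⁻¹ = zg := inv_eq_of_mul_eq_one_right (by rw [← pow_two]; exact t_rels.2.2.2.2)
    rw [e3] at h3
    calc (zg * tg ^ 2) ^ 3 = zg * (tg ^ 2 * zg) ^ 3 * zg⁻¹ := by
          simp only [pow_succ, pow_zero, one_mul]; group
      _ = zg * ((zg * (tg ^ 2)⁻¹) ^ 3)⁻¹ * zg⁻¹ := by rw [← inv_pow, mul_inv_rev, inv_inv, zi]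
      _ = 1 := by rw [h3]; group
  have hm : u = tg ^ (3 ^ k) := by
    rcases hlast (a * b) (3 ^ k) (fun s hs => e' ▸ hcu s hs) with h | h
    · rw [e', h, map_one, one_mul]
    · exfalso
      have hsq : u ^ 2 = 1 := by
        rw [e', h, phi_cz, pow_two]
        have hinv : (xg ^ 2)⁻¹ * tg ^ (3 ^ k) * xg ^ 2 = (tg ^ (3 ^ k))⁻¹ := by
          rw [← inv_pow tg, ← conj_cz_t]
          conv_rhs => rw [show (xg ^ 2)⁻¹ * tg * xg ^ 2 = (xg ^ 2)⁻¹ * tg * ((xg ^ 2)⁻¹)⁻¹ by rw [inv_inv]]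
          rw [conj_pow, inv_inv]
        have hc : (xg ^ 2)⁻¹ = xg ^ 2 := inv_eq_of_mul_eq_one_right (by rw [← phi_cz, ← map_mul, cz_sq, map_one])
        rw [hc] at hinv
        rw [← mul_assoc, hinv, inv_mul_cancel]
      refine hu1 ?_
      rwa [show 5 = 2 * 2 + 1 from rfl, pow_succ, pow_mul, hsq, one_pow, one_mul] at hu5
  have h14 : u = tg ∨ u = tg⁻¹ := by
    have h := hne hm
    rw [hm, pow_eq_pow_mod _ t_rels.1]
    interval_cases k
    · exact Or.inl (pow_one tg)
    · norm_num at h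
    · exact Or.inr (inv_eq_of_mul_eq_one_left (by rw [← pow_succ]; exact t_rels.1)).symm
    · norm_num at h
  have hext : ∀ g : HNG, (∀ n, Commute g (phi n)) → g * tg * g⁻¹ = u → MulAut.conj g = β := fun g hg hgt => by
    refine MulEquiv.toMonoidHom_injective (PresentedGroup.ext fun q => ?_)
    obtain ⟨e0, -, e2, -, e4⟩ := phi_im0
    have hc : ∀ n, MulAut.conj g (phi n) = β (phi n) := fun n => by
      rw [hβ, MulAut.conj_apply, (hg n).eq, mul_inv_cancel_right]
    cases q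
    · show MulAut.conj g xg = β xg
      rw [← e0]; exact hc _
    · show MulAut.conj g yg = β yg
      rw [← e2]; exact hc _
    · show MulAut.conj g zg = β zg
      rw [← e4]; exact hc _
    · exact hgt
  rcases h14 with h | h
  · exact ⟨1, hext 1 (fun n => Commute.one_left _) (by rw [h]; group)⟩
  · refine ⟨phi cz, hext _ (fun n => (cz_commute n).map phi) ?_⟩
    have hc : (xg ^ 2)⁻¹ = xg ^ 2 := inv_eq_of_mul_eq_one_right (by rw [← phi_cz, ← map_mul, cz_sq, map_one])
    rw [h, phi_cz, ← conj_cz_t, hc]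

theorem card_out : Nat.card (Cfsg.Out HNG) = 2 := by
  have hne : (alpha : Cfsg.Out HNG) ≠ 1 := fun h => alpha_not_inner ((QuotientGroup.eq_one_iff _).1 h)
  rw [Nat.card_eq_two_iff]
  refine ⟨1, (alpha : Cfsg.Out HNG)⁻¹, fun h => hne (inv_eq_one.1 h.symm), Set.eq_univ_iff_forall.2 fun q => ?_⟩
  obtain ⟨β, rfl⟩ := QuotientGroup.mk_surjective q
  obtain ⟨g, α, hα, hfix⟩ := exists_fix_H β
  have h : ((α * (MulAut.conj g * β) : MulAut HNG) : Cfsg.Out HNG) = 1 :=
    (QuotientGroup.eq_one_iff _).2 (inner_of_fix hfix)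
  have hg : ((MulAut.conj g : MulAut HNG) : Cfsg.Out HNG) = 1 := (QuotientGroup.eq_one_iff _).2 ⟨g, rfl⟩
  rw [QuotientGroup.mk_mul, QuotientGroup.mk_mul, hg, one_mul] at h
  rcases hα with rfl | rfl
  · left
    rwa [QuotientGroup.mk_one, one_mul] at h
  · right
    exact Set.mem_singleton_iff.2 (eq_inv_of_mul_eq_one_right h)

end Cfsg.Lib.HNIndex
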