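import Cfsg.Agent.HNIndex.AltCheck
import Cfsg.Agent.HNIndex.OutMain
import Cfsg.Agent.Presentations.Carmichael

/-!
The presented Harada-Norton group on the cosets of an alternating group of degree twelve.
-/

set_option autoImplicit false
set_option Elab.async false

namespace Cfsg.Lib.HNIndex

open Cfsg.Lib Cfsg.Lib.HNPres Cfsg.Lib.HNRep Cfsg.Lib.CosetCert
open Cfsg.Lib.Presentations

/-- The six letters in the group. -/
def altL0 : List HNG := [im6 0, im6 1, im6 2, im6 3, im6 4, im6 5]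

/-- The ten generators. -/
def altG (i : ℕ) : HNG := (slpG altProg altL0).getD (altOut.getD i 0) 1

theorem ok1_id : Ok1 (psi (1 : HNG)) (packRows (idMat 133)) := by
  have b := ok1_word [] (by rw [matW_nil])
  rwa [matW_nil, show CosetCert.wval im6 [] = (1 : HNG) from List.prod_nil] at b

theorem init_rel : RelE altL0 altInit := by
  refine ⟨by simp [altL0, altInit], fun i hi => ?_⟩
  have h6 : i < 6 := by simpa [altInit] using hi
  interval_cases i <;> simp only [altL0, altInit, List.getD_cons_zero, List.getD_cons_succ] <;>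
    exact ok1_let _ (by norm_num)

theorem alt_rel : Carmichael.Rel altG 10 ∧ altG 0 ≠ 1 := by
  obtain ⟨E, hR, h⟩ := slpM_spec altProg altL0 altInit _ init_rel alt_ok
  simp only [Bool.and_eq_true, List.all_eq_true, bne_iff_ne] at h
  obtain ⟨hw, h0, hne⟩ := h
  have key : ∀ w ∈ altRels altOut, (w.map fun i => (slpG altProg altL0).getD i 1).prod = 1 := fun w hwm => by
    have a := idW_spec hR w 1 _ ok1_id (hw w hwm)
    rw [one_mul] at a
    exact psi_injective (Units.ext (a.2.symm.trans ok1_id.2))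
  refine ⟨⟨fun _ => ?_, fun i h1 h2 => ?_, fun i h1 => ?_, fun i j h1 h2 => ?_⟩, fun e => hne ?_⟩
  · have e := key [altOut.getD 0 0, altOut.getD 0 0, altOut.getD 0 0] (by simp [altRels])
    simpa [altG, pow_succ, mul_assoc] using e
  · obtain ⟨k, rfl⟩ : ∃ k, i = k + 1 := ⟨i - 1, by omega⟩
    have e := key [altOut.getD (k + 1) 0, altOut.getD (k + 1) 0] (by
      simp only [altRels, List.mem_append, List.mem_map, List.mem_range]
      exact Or.inl (Or.inl (Or.inr ⟨k, by omega, rfl⟩)))
    simpa [altG] using e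
  · have e := key ((List.replicate 3 [altOut.getD i 0, altOut.getD (i + 1) 0]).flatten) (by
      simp only [altRels, List.mem_append, List.mem_map, List.mem_range]
      exact Or.inl (Or.inr ⟨i, by omega, rfl⟩))
    simpa [altG, pow_succ, mul_assoc, List.replicate_succ] using e
  · have e := key [altOut.getD i 0, altOut.getD j 0, altOut.getD i 0, altOut.getD j 0] (by
      simp only [altRels, List.mem_append, List.mem_flatMap, List.mem_map, List.mem_filter, List.mem_range]
      exact Or.inr ⟨i, by omega, j, ⟨h2, Nat.ble_eq_true_of_le h1⟩, rfl⟩)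
    simpa [altG, mul_assoc] using e
  · have a := hR.2 _ (Nat.le_of_ble_eq_true h0)
    rw [show (slpG altProg altL0).getD (altOut.getD 0 0) 1 = (1 : HNG) from e] at a
    exact tr1_unique a ok1_id

theorem exists_alt : ∃ K : Subgroup HNG, Nonempty (K ≃* alternatingGroup (Fin 12)) := by
  obtain ⟨hrel, hne⟩ := alt_rel
  obtain ⟨iso⟩ := Carmichael.presentation 12 (by norm_num)
  have hrels : ∀ r ∈ ({g : FreeGroup (Fin (12 - 2)) | ∃ i : Fin (12 - 2), i.val = 0 ∧ g = FreeGroup.of i ^ 3} ∪
       {g | ∃ i : Fin (12 - 2), 1 ≤ i.val ∧ g = FreeGroup.of i ^ 2} ∪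
       {g | ∃ i j : Fin (12 - 2), j.val = i.val + 1 ∧ g = (FreeGroup.of i * FreeGroup.of j) ^ 3} ∪
       {g | ∃ i j : Fin (12 - 2), i.val + 1 < j.val ∧ g = (FreeGroup.of i * FreeGroup.of j) ^ 2}),
      FreeGroup.lift (fun i : Fin (12 - 2) => altG i.val) r = 1 := by
    rintro r (((⟨i, hi, rfl⟩ | ⟨i, hi, rfl⟩) | ⟨i, j, hj, rfl⟩) | ⟨i, j, hj, rfl⟩) <;>
      simp only [map_pow, map_mul, FreeGroup.lift_apply_of]
    · rw [hi]; exact hrel.cube (by norm_num)
    · rw [pow_two]; exact hrel.sq i.val hi i.isLt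
    · rw [hj]; exact hrel.braid i.val (hj ▸ j.isLt)
    · rw [pow_two]; exact hrel.far i.val j.val hj j.isLt
  let f : alternatingGroup (Fin 12) →* HNG := (PresentedGroup.toGroup hrels).comp iso.symm.toMonoidHom
  haveI : IsSimpleGroup (alternatingGroup (Fin 12)) := alternatingGroup.isSimpleGroup (by simp)
  have hf : Function.Injective f := by
    rw [← MonoidHom.ker_eq_bot_iff]
    refine (IsSimpleGroup.eq_bot_or_eq_top_of_normal f.ker inferInstance).resolve_right fun h => hne ?_
    have e : f (iso (PresentedGroup.of ⟨0, by norm_num⟩)) = 1 := MonoidHom.mem_ker.1 (h ▸ Subgroup.mem_top _)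
    simpa [f] using e
  exact ⟨f.range, ⟨(MonoidHom.ofInjective hf).symm⟩⟩

theorem perm_realization : ∃ H : Subgroup (Equiv.Perm (Fin 1140000)), Cfsg.IsHN H ∧
    MulAction.IsPretransitive H (Fin 1140000) ∧
    Nonempty (MulAction.stabilizer H (0 : Fin 1140000) ≃* alternatingGroup (Fin 12)) := by
  classical
  haveI := finite_HNG
  haveI := isHN.1
  obtain ⟨K, ⟨e12⟩⟩ := exists_alt
  have hK : Nat.card K = 239500800 := by
    rw [Nat.card_congr e12.toEquiv, nat_card_alternatingGroup, Nat.card_fin]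
    norm_num [Nat.factorial]
  have hidx : Nat.card (HNG ⧸ K) = 1140000 := by
    have h := Subgroup.card_mul_index K
    rw [hK, isHN.2] at h
    rw [← Subgroup.index_eq_card]
    exact Nat.eq_of_mul_eq_mul_left (show 0 < 239500800 by norm_num) (h.trans (by norm_num))
  let e0 : (HNG ⧸ K) ≃ Fin 1140000 := Finite.equivFinOfCardEq hidx
  let e : (HNG ⧸ K) ≃ Fin 1140000 := e0.trans (Equiv.swap (e0 ((1 : HNG) : HNG ⧸ K)) 0)
  have he : e ((1 : HNG) : HNG ⧸ K) = 0 := by simp [e]
  let ρ : HNG →* Equiv.Perm (Fin 1140000) :=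
    e.permCongrHom.toMonoidHom.comp (MulAction.toPermHom HNG (HNG ⧸ K))
  have hρ : ∀ g q, ρ g q = e (g • e.symm q) := fun g q => rfl
  have hρi : Function.Injective ρ := by
    rw [← MonoidHom.ker_eq_bot_iff]
    refine (IsSimpleGroup.eq_bot_or_eq_top_of_normal ρ.ker inferInstance).resolve_right fun h => ?_
    have hK' : K = ⊤ := eq_top_iff.2 fun g _ => by
      have hgk : g ∈ ρ.ker := h ▸ Subgroup.mem_top g
      have h0 : ρ g = 1 := MonoidHom.mem_ker.1 hgk
      have h1 : e.symm (ρ g 0) = e.symm ((1 : Equiv.Perm (Fin 1140000)) 0) := by rw [h0]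
      rw [hρ, Equiv.symm_apply_apply, Equiv.Perm.one_apply, ← he, Equiv.symm_apply_apply] at h1
      rw [MulAction.Quotient.smul_coe, smul_eq_mul, mul_one, QuotientGroup.eq, mul_one] at h1
      exact K.inv_mem_iff.1 h1
    rw [hK', Subgroup.card_top, isHN.2] at hK
    norm_num at hK
  let er := MonoidHom.ofInjective hρi
  have hfix : ∀ g, ρ g 0 = 0 ↔ g ∈ K := fun g => by
    rw [hρ, ← he, Equiv.symm_apply_apply, e.apply_eq_iff_eq, MulAction.Quotient.smul_coe, smul_eq_mul, mul_one,
      QuotientGroup.eq, mul_one, K.inv_mem_iff]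
  refine ⟨ρ.range, ⟨?_, ?_⟩, ⟨fun a b => ?_⟩, ⟨?_⟩⟩
  · exact er.symm.isSimpleGroup
  · rw [← Nat.card_congr er.toEquiv, isHN.2]
  · obtain ⟨g, hg⟩ := MulAction.exists_smul_eq HNG (e.symm a) (e.symm b)
    exact ⟨⟨ρ g, g, rfl⟩, show ρ g a = b by rw [hρ, hg, Equiv.apply_symm_apply]⟩
  · let m : K →* MulAction.stabilizer ρ.range (0 : Fin 1140000) :=
      MonoidHom.mk' (fun k => ⟨⟨ρ k.1, k.1, rfl⟩, (hfix k.1).2 k.2⟩) fun a b =>
        Subtype.ext (Subtype.ext (map_mul ρ a.1 b.1))
    have hm : Function.Bijective m := by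
      constructor
      · intro a b h
        exact Subtype.ext (hρi (congrArg (fun s => s.1.1) h))
      · rintro ⟨⟨_, g, rfl⟩, hg⟩
        exact ⟨⟨g, (hfix g).1 hg⟩, rfl⟩
    exact (MulEquiv.ofBijective m hm).symm.trans e12

end Cfsg.Lib.HNIndex
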