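import Cfsg.Agent.HNIndex.Cert4Data
import Cfsg.Agent.HNIndex.FactData

/-!
The certificate of a double coset is right.
-/

set_option autoImplicit false
set_option Elab.async false
set_option maxHeartbeats 4000000

namespace Cfsg.Lib.HNIndex

theorem tree4_ok : treeOK gWords facts cert4.i cert4.tree cert4.cls cert4.reps = true := by decide +kernel

theorem roots4_0_0 : cert4.rootsOK gWords 0 0 = true := by decide +kernel

theorem roots4_0_4 : cert4.rootsOK gWords 0 4 = true := by decide +kernel

theorem roots4_1_0 : cert4.rootsOK gWords 1 0 = true := by decide +kernel

theorem roots4_1_4 : cert4.rootsOK gWords 1 4 = true := by decide +kernel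

theorem extra4_0 : cert4.extraOK gWords 0 = true := by decide +kernel

theorem extra4_4 : cert4.extraOK gWords 4 = true := by decide +kernel

theorem extra4_8 : cert4.extraOK gWords 8 = true := by decide +kernel

theorem extra4_12 : cert4.extraOK gWords 12 = true := by decide +kernel

theorem extra4_16 : cert4.extraOK gWords 16 = true := by decide +kernel

theorem extra4_20 : cert4.extraOK gWords 20 = true := by decide +kernel

theorem extra4_24 : cert4.extraOK gWords 24 = true := by decide +kernel

theorem extra4_28 : cert4.extraOK gWords 28 = true := by decide +kernel

theorem extra4_32 : cert4.extraOK gWords 32 = true := by decide +kernel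

theorem extra4_36 : cert4.extraOK gWords 36 = true := by decide +kernel

theorem extra4_40 : cert4.extraOK gWords 40 = true := by decide +kernel

theorem extra4_44 : cert4.extraOK gWords 44 = true := by decide +kernel

theorem extra4_48 : cert4.extraOK gWords 48 = true := by decide +kernel

theorem extra4_52 : cert4.extraOK gWords 52 = true := by decide +kernel

theorem extra4_56 : cert4.extraOK gWords 56 = true := by decide +kernel

theorem shape4_ok : cert4.shapeOK gWords = true := by decide +kernel

theorem sizes4_ok : cert4.sizesOK facts = true := by decide +kernel

theorem lens4 : cert4.forms.length = 2 ∧ cert4.reps.length = 7 ∧ cert4.extra.length = 60 := by decide +kernel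

theorem roots4_ok : ∀ k < cert4.forms.length, ∀ r < cert4.reps.length,
    cert4.rootsOK gWords k (r / 4 * 4) = true := by
  intro k hk r hr
  rw [lens4.1] at hk
  rw [lens4.2.1] at hr
  have hq : r / 4 < 2 := by omega
  generalize r / 4 = q at hq ⊢
  interval_cases k <;> interval_cases q
  · exact roots4_0_0
  · exact roots4_0_4
  · exact roots4_1_0
  · exact roots4_1_4

theorem extra4_ok : ∀ r < cert4.extra.length, cert4.extraOK gWords (r / 4 * 4) = true := by
  intro r hr
  rw [lens4.2.2] at hr
  have hq : r / 4 < 15 := by omega
  generalize r / 4 = q at hq ⊢
  interval_cases q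
  · exact extra4_0
  · exact extra4_4
  · exact extra4_8
  · exact extra4_12
  · exact extra4_16
  · exact extra4_20
  · exact extra4_24
  · exact extra4_28
  · exact extra4_32
  · exact extra4_36
  · exact extra4_40
  · exact extra4_44
  · exact extra4_48
  · exact extra4_52
  · exact extra4_56

end Cfsg.Lib.HNIndex
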