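import Cfsg.Agent.HNIndex.Cert5Data
import Cfsg.Agent.HNIndex.FactData

/-!
The certificate of a double coset is right.
-/

set_option autoImplicit false
set_option Elab.async false
set_option maxHeartbeats 4000000

namespace Cfsg.Lib.HNIndex

theorem tree5_ok : treeOK gWords facts cert5.i cert5.tree cert5.cls cert5.reps = true := by decide +kernel

theorem roots5_0_0 : cert5.rootsOK gWords 0 0 = true := by decide +kernel

theorem roots5_0_4 : cert5.rootsOK gWords 0 4 = true := by decide +kernel

theorem roots5_0_8 : cert5.rootsOK gWords 0 8 = true := by decide +kernel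

theorem roots5_0_12 : cert5.rootsOK gWords 0 12 = true := by decide +kernel

theorem roots5_0_16 : cert5.rootsOK gWords 0 16 = true := by decide +kernel

theorem roots5_0_20 : cert5.rootsOK gWords 0 20 = true := by decide +kernel

theorem roots5_0_24 : cert5.rootsOK gWords 0 24 = true := by decide +kernel

theorem roots5_0_28 : cert5.rootsOK gWords 0 28 = true := by decide +kernel

theorem shape5_ok : cert5.shapeOK gWords = true := by decide +kernel

theorem sizes5_ok : cert5.sizesOK facts = true := by decide +kernel

theorem lens5 : cert5.forms.length = 1 ∧ cert5.reps.length = 30 ∧ cert5.extra.length = 0 := by decide +kernel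

theorem roots5_ok : ∀ k < cert5.forms.length, ∀ r < cert5.reps.length,
    cert5.rootsOK gWords k (r / 4 * 4) = true := by
  intro k hk r hr
  rw [lens5.1] at hk
  rw [lens5.2.1] at hr
  have hq : r / 4 < 8 := by omega
  generalize r / 4 = q at hq ⊢
  interval_cases k <;> interval_cases q
  · exact roots5_0_0
  · exact roots5_0_4
  · exact roots5_0_8
  · exact roots5_0_12
  · exact roots5_0_16
  · exact roots5_0_20
  · exact roots5_0_24
  · exact roots5_0_28

theorem extra5_ok : ∀ r < cert5.extra.length, cert5.extraOK gWords (r / 4 * 4) = true := fun r hr => by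
  rw [lens5.2.2] at hr
  omega

end Cfsg.Lib.HNIndex
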