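import Cfsg.Agent.HNIndex.Cert6Data
import Cfsg.Agent.HNIndex.FactData

/-!
The certificate of a double coset is right.
-/

set_option autoImplicit false
set_option Elab.async false
set_option maxHeartbeats 4000000

namespace Cfsg.Lib.HNIndex

theorem tree6_ok : treeOK gWords facts cert6.i cert6.tree cert6.cls cert6.reps = true := by decide +kernel

theorem roots6_0_0 : cert6.rootsOK gWords 0 0 = true := by decide +kernel

theorem roots6_0_4 : cert6.rootsOK gWords 0 4 = true := by decide +kernel

theorem roots6_0_8 : cert6.rootsOK gWords 0 8 = true := by decide +kernel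

theorem roots6_0_12 : cert6.rootsOK gWords 0 12 = true := by decide +kernel

theorem shape6_ok : cert6.shapeOK gWords = true := by decide +kernel

theorem sizes6_ok : cert6.sizesOK facts = true := by decide +kernel

theorem lens6 : cert6.forms.length = 1 ∧ cert6.reps.length = 14 ∧ cert6.extra.length = 0 := by decide +kernel

theorem roots6_ok : ∀ k < cert6.forms.length, ∀ r < cert6.reps.length,
    cert6.rootsOK gWords k (r / 4 * 4) = true := by
  intro k hk r hr
  rw [lens6.1] at hk
  rw [lens6.2.1] at hr
  have hq : r / 4 < 4 := by omega
  generalize r / 4 = q at hq ⊢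
  interval_cases k <;> interval_cases q
  · exact roots6_0_0
  · exact roots6_0_4
  · exact roots6_0_8
  · exact roots6_0_12

theorem extra6_ok : ∀ r < cert6.extra.length, cert6.extraOK gWords (r / 4 * 4) = true := fun r hr => by
  rw [lens6.2.2] at hr
  omega

end Cfsg.Lib.HNIndex
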