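import Cfsg.Agent.HNIndex.Cert8Data
import Cfsg.Agent.HNIndex.FactData

/-!
The certificate of a double coset is right.
-/

set_option autoImplicit false
set_option Elab.async false
set_option maxHeartbeats 4000000

namespace Cfsg.Lib.HNIndex

theorem tree8_ok : treeOK gWords facts cert8.i cert8.tree cert8.cls cert8.reps = true := by decide +kernel

theorem roots8_0_0 : cert8.rootsOK gWords 0 0 = true := by decide +kernel

theorem shape8_ok : cert8.shapeOK gWords = true := by decide +kernel

theorem sizes8_ok : cert8.sizesOK facts = true := by decide +kernel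

theorem lens8 : cert8.forms.length = 1 ∧ cert8.reps.length = 2 ∧ cert8.extra.length = 0 := by decide +kernel

theorem roots8_ok : ∀ k < cert8.forms.length, ∀ r < cert8.reps.length,
    cert8.rootsOK gWords k (r / 4 * 4) = true := by
  intro k hk r hr
  rw [lens8.1] at hk
  rw [lens8.2.1] at hr
  have hq : r / 4 < 1 := by omega
  generalize r / 4 = q at hq ⊢
  interval_cases k <;> interval_cases q
  · exact roots8_0_0

theorem extra8_ok : ∀ r < cert8.extra.length, cert8.extraOK gWords (r / 4 * 4) = true := fun r hr => by
  rw [lens8.2.2] at hr
  omega

end Cfsg.Lib.HNIndex
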