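import Cfsg.Agent.HNIndex.Group

/-!
A checker for equations `g i * h * t ^ e = a * g l * b` between double coset representatives, each derived from
earlier ones along two paths which together read a relator in t.
-/

set_option autoImplicit false

namespace Cfsg.Lib.HNIndex

open Cfsg.Lib Cfsg.Lib.HNPres Cfsg.Lib.CosetCert

/-- A word packed three bits a letter, read from the lowest digit. -/
def decFuel : ℕ → ℕ → List ℕ
  | 0, _ => []
  | k + 1, n => if n == 0 then [] else (n % 8 - 1) :: decFuel k (n / 8)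

/-- The unpacked word. -/
def dec (n : ℕ) : List ℕ := decFuel 800 n

/-- The inverse letter. -/
def ivL : ℕ → ℕ
  | 0 => 1
  | 1 => 0
  | 2 => 3
  | 3 => 2
  | l => l

/-- The inverse word. -/
def ivW (w : List ℕ) : List ℕ := (w.map ivL).reverse

/-- A state: the element `A * g i * B`. -/
structure St where
  A : ℕ
  i : ℕ
  B : ℕ

/-- A step: a kind, an argument and the state reached. -/
structure Step where
  kind : ℕ
  arg : ℕ
  dst : St

/-- An equation, with the start, the relator, the position and the two paths proving it. -/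
structure Fact where
  i : ℕ
  h : ℕ
  e : ℕ
  l : ℕ
  a : ℕ
  b : ℕ
  i0 : ℕ
  h0 : ℕ
  rel : ℕ
  k : ℕ
  ps : List Step
  qs : List Step

/-- The relators in x, z, t and its inverse used by the paths. -/
def rels : List (List ℕ) := [[], [5, 6], [5, 0, 5, 5, 1], [5, 4, 5, 4, 5, 4]]

/-- Read inverse letters, the inverse of t as a word. -/
def expand : List ℕ → List ℕ
  | [] => []
  | 5 :: w => expand w ++ [0, 0, 5, 1, 1]
  | 6 :: w => expand w ++ [5]
  | l :: w => expand w ++ [ivL l]

/-- A step is valid over the first equations. -/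
def stepOK (F : List Fact) (n : ℕ) (s : St) (m : Step) : Bool :=
  let A := dec s.A
  let B := dec s.B
  let A' := dec m.dst.A
  let B' := dec m.dst.B
  match m.kind, F[m.arg]? with
  | 0, _ => (m.dst.i == s.i) && Nat.blt m.arg 5 && sameW A' A && sameW B' (B ++ [m.arg])
  | 1, some f => Nat.blt m.arg n && (s.i == f.i) && (m.dst.i == f.l) && sameW A' (A ++ dec f.a) &&
      ((f.e == 0) || ((f.e == 1) && okW (ivW (dec f.h) ++ B) && (ev (ivW (dec f.h) ++ B) 0 == 0))) &&
      sameW B' (dec f.b ++ (ivW (dec f.h) ++ B))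
  | 2, some f => Nat.blt m.arg n && (s.i == f.l) && (m.dst.i == f.i) && sameW A' (A ++ ivW (dec f.a)) &&
      (((f.e == 0) && sameW B' (dec f.h ++ (ivW (dec f.b) ++ B))) ||
        ((f.e == 1) && okW (ivW (dec f.b ++ [0, 0]) ++ B) && (ev (ivW (dec f.b ++ [0, 0]) ++ B) 0 == 0) &&
          sameW B' (dec f.h ++ [0, 0] ++ (ivW (dec f.b ++ [0, 0]) ++ B))))
  | 3, _ => (s.i == 0) && (m.dst.i == 0) && okW A' && okW B' && okW A && okW B && sameW (A' ++ B') (A ++ B)
  | _, _ => false

/-- The letters read by a step. -/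
def readStep (F : List Fact) (m : Step) : List ℕ :=
  match m.kind, F[m.arg]? with
  | 0, _ => [m.arg]
  | 1, some f => if f.e == 1 then [5] else []
  | 2, some f => if f.e == 1 then [5] else []
  | _, _ => []

/-- A path is valid. -/
def pathOK (F : List Fact) (n : ℕ) : St → List Step → Bool
  | _, [] => true
  | s, m :: r => stepOK F n s m && pathOK F n m.dst r

/-- The end of a path. -/
def pathEnd : St → List Step → St
  | s, [] => s
  | _, m :: r => pathEnd m.dst r

/-- The letters read by a path. -/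
def pathRead (F : List Fact) (ps : List Step) : List ℕ := ps.flatMap (readStep F)

/-- An equation is proved by earlier ones or is the definition of a representative. -/
def factOK (gw : List ℕ) (F : List Fact) (n : ℕ) (f : Fact) : Bool :=
  let P := pathEnd ⟨0, f.i0, f.h0⟩ f.ps
  let Q := pathEnd ⟨0, f.i0, f.h0⟩ f.qs
  let R := rels.getD f.rel []
  let u := R.take f.k
  ((f.rel == 4) && (f.e == 1) && (f.a == 0) && (f.b == 0) && okW (dec f.h) &&
    (dec (gw.getD f.l 0) == dec (gw.getD f.i 0) ++ dec f.h ++ [5])) ||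
  (Nat.blt f.rel 4 && pathOK F n ⟨0, f.i0, f.h0⟩ f.ps && pathOK F n ⟨0, f.i0, f.h0⟩ f.qs &&
    (P.i == f.i) && (Q.i == f.l) && sameW (dec f.h) (dec P.B) && sameW (dec f.b) (dec Q.B) &&
    sameW (dec f.a) (ivW (dec P.A) ++ dec Q.A) &&
    Nat.blt f.e 2 && (pathRead F f.ps == u) && ((f.e == 0) || (R.getD f.k 0 == 5 && Nat.blt f.k R.length)) &&
    (pathRead F f.qs == expand (R.drop (f.k + f.e))))

/-- All equations with indices in a range are proved by earlier ones. -/
def rangeOK (gw : List ℕ) (F : List Fact) (lo hi : ℕ) : Bool :=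
  (List.range (hi - lo)).all fun j =>
    match F[lo + j]? with
    | some f => factOK gw F (lo + j) f
    | none => false

section Sound

/-- The representative with the given word. -/
def gval (gw : List ℕ) (i : ℕ) : HNG := CosetCert.wval im6 (dec (gw.getD i 0))

/-- The element of a packed word. -/
def pv (n : ℕ) : HNG := phi (val0 (dec n))

/-- An equation holds. -/
def Fact.Holds (gw : List ℕ) (f : Fact) : Prop :=
  gval gw f.i * pv f.h * tg ^ f.e = pv f.a * gval gw f.l * pv f.b

/-- The element of a state. -/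
def St.val (gw : List ℕ) (s : St) : HNG := pv s.A * gval gw s.i * pv s.B

theorem val0_append (u v : List ℕ) : val0 (u ++ v) = val0 u * val0 v := by
  simp [val0, CosetCert.wval, List.map_append, List.prod_append]

theorem im0_ivL (l : ℕ) (h : l < 5) : im0 (ivL l) = (im0 l)⁻¹ := by
  have hz : n0 2 * n0 2 = 1 := by
    have := n0_rels [4, 4] (by decide)
    simpa [CosetNames.wval, letters] using this
  interval_cases l
  · rfl
  · exact (inv_inv (n0 0)).symm
  · rfl
  · exact (inv_inv (n0 1)).symm
  · exact eq_inv_of_mul_eq_one_left hz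

theorem val0_ivW : ∀ (w : List ℕ), okW w = true → val0 (ivW w) = (val0 w)⁻¹
  | [], _ => by simp [ivW, val0, CosetCert.wval]
  | l :: w, h => by
    rw [okW, List.all_cons, Bool.and_eq_true] at h
    have e : ivW (l :: w) = ivW w ++ [ivL l] := by simp [ivW]
    rw [e, val0_append, val0_ivW w h.2, show l :: w = [l] ++ w from rfl, val0_append, mul_inv_rev]
    simp [val0, CosetCert.wval, im0_ivL l (Nat.le_of_ble_eq_true h.1)]

theorem okW_append {u v : List ℕ} : okW (u ++ v) = true ↔ okW u = true ∧ okW v = true := by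
  simp [okW, List.all_append]

theorem okW_ivW {w : List ℕ} : okW (ivW w) = true ↔ okW w = true := by
  simp only [okW, ivW, List.all_reverse, List.all_map, List.all_eq_true, Function.comp_apply]
  refine forall₂_congr fun l _ => ?_
  match l with
  | 0 => decide
  | 1 => decide
  | 2 => decide
  | 3 => decide
  | k + 4 => rfl

theorem sameW_ok {u v : List ℕ} (h : sameW u v = true) : okW u = true ∧ okW v = true := by
  simp only [sameW, Bool.and_eq_true] at h
  exact h.1

theorem wval_append (u v : List ℕ) : CosetCert.wval im6 (u ++ v) = CosetCert.wval im6 u * CosetCert.wval im6 v := by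
  simp [CosetCert.wval, List.map_append, List.prod_append]

theorem im6_phi : ∀ w : List ℕ, okW w = true → CosetCert.wval im6 w = phi (val0 w)
  | [], _ => by simp [val0, CosetCert.wval]
  | l :: w, h => by
    rw [okW, List.all_cons, Bool.and_eq_true] at h
    have hl : l < 5 := Nat.le_of_ble_eq_true h.1
    have e : im6 l = phi (im0 l) := by interval_cases l <;> rfl
    rw [show l :: w = [l] ++ w from rfl, wval_append, val0_append, map_mul, im6_phi w h.2]
    simp [val0, CosetCert.wval, e]

theorem val0_xx : val0 [0, 0] = val0 [1, 1] := eq_of_same (by decide +kernel)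

theorem t_xx_t : tg * phi (val0 [0, 0]) * tg = phi (val0 [0, 0]) := by
  obtain ⟨e0, e1, -⟩ := phi_im0
  have h1 : phi (val0 [1, 1]) = xg⁻¹ * xg⁻¹ := by simp [val0, CosetCert.wval, e1]
  rw [val0_xx, h1]
  calc tg * (xg⁻¹ * xg⁻¹) * tg = tg * (xg⁻¹ * xg⁻¹ * tg * xg * xg) * (xg⁻¹ * xg⁻¹) := by group
    _ = _ := by rw [← inv_t, mul_inv_cancel, one_mul]

theorem read_inv_t : CosetCert.wval im6 [0, 0, 5, 1, 1] = tg⁻¹ := by
  obtain ⟨e0, e1, -⟩ := phi_im0
  have h := congrArg phi val0_xx
  simp [val0, CosetCert.wval, e0, e1] at h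
  have e6 : im6 5 = tg := rfl
  have a0 : im6 0 = xg := e0
  have a1 : im6 1 = xg⁻¹ := e1
  simp only [CosetCert.wval, List.map_cons, List.map_nil, List.prod_cons, List.prod_nil, mul_one, e6, a0, a1]
  rw [inv_t, ← mul_assoc, ← mul_assoc, h]
  have h' : xg⁻¹ * xg⁻¹ = xg * xg := h.symm
  calc xg⁻¹ * xg⁻¹ * (tg * (xg⁻¹ * xg⁻¹)) = xg⁻¹ * xg⁻¹ * tg * (xg * xg) := by rw [h']; group
    _ = _ := by group

theorem pv_append {n : ℕ} {u v : List ℕ} (h : sameW (dec n) (u ++ v) = true) :
    pv n = phi (val0 u) * phi (val0 v) := by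
  rw [pv, eq_of_same h, val0_append, map_mul]

theorem pv_same {n m : ℕ} (h : sameW (dec n) (dec m) = true) : pv n = pv m := by
  rw [pv, pv, eq_of_same h]

theorem step_sound (gw : List ℕ) (F : List Fact) (n : ℕ) (h0 : gval gw 0 = 1)
    (hF : ∀ j < n, ∀ f, F[j]? = some f → f.Holds gw) (s : St) (m : Step) (h : stepOK F n s m = true) :
    m.dst.val gw = s.val gw * CosetCert.wval im6 (readStep F m) := by
  rcases hk : m.kind with _ | _ | _ | _ | k
  · simp only [stepOK, hk, Bool.and_eq_true, beq_iff_eq] at h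
    obtain ⟨⟨⟨hi, hc⟩, hA⟩, hB⟩ := h
    have hc' : okW [m.arg] = true := by simp [okW, hc]
    simp only [readStep, hk, St.val, hi, pv_same hA, pv_append hB, im6_phi _ hc', ← mul_assoc]
    rfl
  · rcases hf : F[m.arg]? with _ | f
    · simp [stepOK, hk, hf] at h
    simp only [stepOK, hk, hf, Bool.and_eq_true, Bool.or_eq_true, beq_iff_eq] at h
    obtain ⟨⟨⟨⟨⟨hn, hi⟩, hl⟩, hA⟩, hc⟩, hB⟩ := h
    have hh := hF _ (Nat.le_of_ble_eq_true hn) f hf
    have hok := (okW_append.1 (okW_append.1 (sameW_ok hB).2).2).1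
    simp only [St.val, pv_append hA, hl, pv_append hB, val0_append, map_mul, hi, readStep, hk, hf]
    rw [val0_ivW _ (okW_ivW.1 hok), map_inv]
    change pv s.A * pv f.a * gval gw f.l * (pv f.b * ((pv f.h)⁻¹ * pv s.B)) =
      pv s.A * gval gw f.i * pv s.B * _
    unfold Fact.Holds at hh
    rcases hc with hc | ⟨⟨he, hcok⟩, hc0⟩
    · rw [hc, pow_zero, mul_one] at hh
      rw [hc, if_neg (by decide), show CosetCert.wval im6 [] = (1 : HNG) from rfl, mul_one]
      calc _ = pv s.A * (pv f.a * gval gw f.l * pv f.b) * (pv f.h)⁻¹ * pv s.B := by group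
        _ = _ := by rw [← hh]; group
    · have hcomm := commute_t hcok hc0
      rw [val0_append, map_mul, val0_ivW _ (okW_ivW.1 hok), map_inv] at hcomm
      change Commute ((pv f.h)⁻¹ * pv s.B) tg at hcomm
      rw [he, pow_one] at hh
      rw [he, if_pos (by decide), show CosetCert.wval im6 [5] = tg from mul_one _]
      calc _ = pv s.A * (pv f.a * gval gw f.l * pv f.b) * ((pv f.h)⁻¹ * pv s.B) := by group
        _ = pv s.A * gval gw f.i * pv f.h * (tg * ((pv f.h)⁻¹ * pv s.B)) := by rw [← hh]; group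
        _ = pv s.A * gval gw f.i * pv f.h * (((pv f.h)⁻¹ * pv s.B) * tg) := by rw [hcomm.eq]
        _ = _ := by group
  · rcases hf : F[m.arg]? with _ | f
    · simp [stepOK, hk, hf] at h
    simp only [stepOK, hk, hf, Bool.and_eq_true, Bool.or_eq_true, beq_iff_eq] at h
    obtain ⟨⟨⟨⟨hn, hi⟩, hl⟩, hA⟩, hcase⟩ := h
    have hh := hF _ (Nat.le_of_ble_eq_true hn) f hf
    have hoka := okW_ivW.1 (okW_append.1 (sameW_ok hA).2).2
    unfold Fact.Holds at hh
    rcases hcase with ⟨he, hB⟩ | ⟨⟨⟨he, hcok⟩, hc0⟩, hB⟩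
    · have hokb := okW_ivW.1 (okW_append.1 (okW_append.1 (sameW_ok hB).2).2).1
      simp only [St.val, pv_append hA, hl, pv_append hB, val0_append, map_mul, hi, readStep, hk, hf]
      rw [val0_ivW _ hoka, val0_ivW _ hokb, map_inv, map_inv, he, if_neg (by decide),
        show CosetCert.wval im6 [] = (1 : HNG) from rfl, mul_one]
      change pv s.A * (pv f.a)⁻¹ * gval gw f.i * (pv f.h * ((pv f.b)⁻¹ * pv s.B)) =
        pv s.A * gval gw f.l * pv s.B
      rw [he, pow_zero, mul_one] at hh
      calc _ = pv s.A * (pv f.a)⁻¹ * (gval gw f.i * pv f.h) * (pv f.b)⁻¹ * pv s.B := by group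
        _ = _ := by rw [hh]; group
    · have hokb := okW_ivW.1 (okW_append.1 hcok).1
      have hcomm := commute_t hcok hc0
      rw [val0_append, map_mul, val0_ivW _ hokb, map_inv, val0_append, map_mul] at hcomm
      change Commute ((pv f.b * phi (val0 [0, 0]))⁻¹ * pv s.B) tg at hcomm
      simp only [St.val, pv_append hA, hl, pv_append hB, val0_append, map_mul, hi, readStep, hk, hf]
      rw [val0_ivW _ hoka, val0_ivW _ hokb, val0_append]
      simp only [map_inv, map_mul]
      rw [he, if_pos (by decide), show CosetCert.wval im6 [5] = tg from mul_one _]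
      change pv s.A * (pv f.a)⁻¹ * gval gw f.i *
        (pv f.h * phi (val0 [0, 0]) * ((pv f.b * phi (val0 [0, 0]))⁻¹ * pv s.B)) =
        pv s.A * gval gw f.l * pv s.B * tg
      rw [he, pow_one] at hh
      set c := (pv f.b * phi (val0 [0, 0]))⁻¹ * pv s.B with hcdef
      have hl' : gval gw f.l * pv f.b = (pv f.a)⁻¹ * (gval gw f.i * pv f.h * tg) := by rw [hh]; group
      calc _ = pv s.A * ((pv f.a)⁻¹ * (gval gw f.i * pv f.h * tg)) * tg⁻¹ * phi (val0 [0, 0]) * c := by group
        _ = pv s.A * ((pv f.a)⁻¹ * (gval gw f.i * pv f.h * tg)) * tg⁻¹ * (tg * phi (val0 [0, 0]) * tg) * c := by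
          rw [t_xx_t]
        _ = pv s.A * (gval gw f.l * pv f.b) * phi (val0 [0, 0]) * (tg * c) := by rw [hl']; group
        _ = pv s.A * (gval gw f.l * pv f.b) * phi (val0 [0, 0]) * (c * tg) := by rw [hcomm.eq]
        _ = _ := by rw [hcdef]; group
  · simp only [stepOK, hk, Bool.and_eq_true, beq_iff_eq] at h
    obtain ⟨⟨⟨⟨⟨⟨hs, hi⟩, -⟩, -⟩, -⟩, -⟩, hAB⟩ := h
    have e := congrArg phi (eq_of_same hAB)
    rw [val0_append, val0_append, map_mul, map_mul] at e
    simp only [readStep, hk, St.val, hi, hs, h0, mul_one]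
    rw [show CosetCert.wval im6 [] = (1 : HNG) from rfl, mul_one]
    exact e
  · simp [stepOK, hk] at h

theorem path_sound (gw : List ℕ) (F : List Fact) (n : ℕ) (h0 : gval gw 0 = 1)
    (hF : ∀ j < n, ∀ f, F[j]? = some f → f.Holds gw) : ∀ (ps : List Step) (s : St), pathOK F n s ps = true →
      (pathEnd s ps).val gw = s.val gw * CosetCert.wval im6 (pathRead F ps)
  | [], s, _ => by simp [pathEnd, pathRead, CosetCert.wval]
  | m :: r, s, h => by
    rw [pathOK, Bool.and_eq_true] at h
    rw [pathEnd, path_sound gw F n h0 hF r m.dst h.2, step_sound gw F n h0 hF s m h.1, mul_assoc, ← wval_append]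
    rfl

/-- The value of a letter among x, z, t and its inverse. -/
def im7 : ℕ → HNG
  | 6 => tg⁻¹
  | l => im6 l

theorem rel_one : ∀ R ∈ rels, CosetCert.wval im7 R = 1 := by
  obtain ⟨h5, hx, -, hz, -⟩ := t_rels
  obtain ⟨e0, e1, -, -, e4⟩ := phi_im0
  have a0 : im7 0 = xg := e0
  have a1 : im7 1 = xg⁻¹ := e1
  have a4 : im7 4 = zg := e4
  have a5 : im7 5 = tg := rfl
  have a6 : im7 6 = tg⁻¹ := rfl
  simp only [rels, List.forall_mem_cons, CosetCert.wval, List.map_cons, List.map_nil, List.prod_cons, List.prod_nil,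
    a0, a1, a4, a5, a6, mul_one]
  refine ⟨trivial, mul_inv_cancel _, ?_, ?_, by simp⟩
  · calc tg * (xg * (tg * (tg * xg⁻¹))) = xg * (xg⁻¹ * tg * xg * tg ^ 2) * xg⁻¹ := by rw [pow_two]; group
      _ = 1 := by rw [hx]; group
  · have e : tg * (zg * (tg * (zg * (tg * zg)))) = zg⁻¹ * (zg * tg) ^ 3 * zg := by
      rw [pow_succ, pow_two]
      group
    rw [e, hz]
    group

theorem expand_val : ∀ w : List ℕ, (∀ l ∈ w, l < 7) →
    CosetCert.wval im6 (expand w) = (CosetCert.wval im7 w)⁻¹
  | [], _ => by simp [expand, CosetCert.wval]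
  | l :: w, h => by
    have ih := expand_val w fun a ha => h a (List.mem_cons_of_mem l ha)
    have e : CosetCert.wval im7 (l :: w) = im7 l * CosetCert.wval im7 w := by simp [CosetCert.wval]
    rw [e, mul_inv_rev, ← ih]
    have hl := h l List.mem_cons_self
    interval_cases l
    · rw [expand, wval_append]
      · simp [CosetCert.wval, im7, im6, ivL, im0_ivL, im0, letters]
      all_goals decide
    · rw [expand, wval_append]
      · simp [CosetCert.wval, im7, im6, ivL, im0, letters]
      all_goals decide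
    · rw [expand, wval_append]
      · simp [CosetCert.wval, im7, im6, ivL, im0, letters]
      all_goals decide
    · rw [expand, wval_append]
      · simp [CosetCert.wval, im7, im6, ivL, im0, letters]
      all_goals decide
    · rw [expand, wval_append]
      · have := congrArg phi (im0_ivL 4 (by decide))
        rw [map_inv] at this
        simp [CosetCert.wval, im7, im6, ← this, ivL]
      all_goals decide
    · rw [expand, wval_append, read_inv_t]
      rfl
    · rw [expand, wval_append, show im7 6 = tg⁻¹ from rfl, inv_inv,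
        show CosetCert.wval im6 [5] = tg from mul_one _]

theorem rels_lt : rels.all (fun R => R.all fun l => decide (l < 7)) = true := by decide

theorem wval_im7 : ∀ w : List ℕ, (∀ l ∈ w, l ≠ 6) → CosetCert.wval im7 w = CosetCert.wval im6 w := by
  intro w h
  unfold CosetCert.wval
  congr 1
  refine List.map_congr_left fun l hl => ?_
  have := h l hl
  unfold im7
  split
  · omega
  · rfl

theorem read_ne_six (F : List Fact) (n : ℕ) : ∀ (ps : List Step) (s : St), pathOK F n s ps = true →
    ∀ l ∈ pathRead F ps, l ≠ 6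
  | [], _, _, l, hl => by simp [pathRead] at hl
  | m :: r, s, h, l, hl => by
    rw [pathOK, Bool.and_eq_true] at h
    simp only [pathRead, List.flatMap_cons, List.mem_append] at hl
    rcases hl with hl | hl
    · rcases hk : m.kind with _ | _ | _ | k
      · have h1 := h.1
        simp only [stepOK, hk, Bool.and_eq_true] at h1
        simp only [readStep, hk, List.mem_singleton] at hl
        have := Nat.le_of_ble_eq_true h1.1.1.2
        omega
      · rcases hf : F[m.arg]? with _ | f <;> simp only [readStep, hk, hf] at hl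
        · simp at hl
        · split at hl <;> simp at hl
          omega
      · rcases hf : F[m.arg]? with _ | f <;> simp only [readStep, hk, hf] at hl
        · simp at hl
        · split at hl <;> simp at hl
          omega
      · simp [readStep, hk] at hl
    · exact read_ne_six F n r m.dst h.2 l hl

theorem pv_zero : pv 0 = 1 := by
  show phi (val0 []) = 1
  simp [val0, CosetCert.wval]

theorem fact_sound (gw : List ℕ) (F : List Fact) (n : ℕ) (h0 : gval gw 0 = 1)
    (hF : ∀ j < n, ∀ f, F[j]? = some f → f.Holds gw) (f : Fact) (h : factOK gw F n f = true) : f.Holds gw := by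
  simp only [factOK, Bool.or_eq_true, Bool.and_eq_true, beq_iff_eq] at h
  rcases h with ⟨⟨⟨⟨⟨-, he⟩, ha⟩, hb⟩, hok⟩, hw⟩ |
    ⟨⟨⟨⟨⟨⟨⟨⟨⟨⟨⟨hr, hP⟩, hQ⟩, hi⟩, hl⟩, hh⟩, hb⟩, ha⟩, he⟩, hu⟩, hk⟩, hv⟩
  · unfold Fact.Holds
    rw [he, ha, hb, pv_zero, one_mul, mul_one, pow_one, gval, gval, hw, wval_append, wval_append,
      im6_phi _ hok, show CosetCert.wval im6 [5] = tg from mul_one _]
    rfl
  · have eP := path_sound gw F n h0 hF _ _ hP
    have eQ := path_sound gw F n h0 hF _ _ hQ
    rw [hu] at eP
    rw [hv] at eQ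
    have hRmem : rels.getD f.rel [] ∈ rels := by
      rw [List.getD_eq_getElem _ _ (show f.rel < rels.length from Nat.le_of_ble_eq_true hr)]
      exact List.getElem_mem _
    generalize hR : rels.getD f.rel [] = R at *
    have hR1 := rel_one R hRmem
    have h7 : ∀ l ∈ R, l < 7 := fun l hl =>
      of_decide_eq_true (List.all_eq_true.1 (List.all_eq_true.1 rels_lt R hRmem) l hl)
    rw [expand_val _ fun l hl => h7 l (List.mem_of_mem_drop hl)] at eQ
    have e6 : CosetCert.wval im6 (R.take f.k) = CosetCert.wval im7 (R.take f.k) :=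
      (wval_im7 _ fun l hl => read_ne_six F n _ _ hP l (hu ▸ hl)).symm
    have key : CosetCert.wval im7 (R.take f.k) * tg ^ f.e = (CosetCert.wval im7 (R.drop (f.k + f.e)))⁻¹ := by
      have hsplit : ∀ u v : List ℕ, CosetCert.wval im7 (u ++ v) = CosetCert.wval im7 u * CosetCert.wval im7 v :=
        fun u v => by simp [CosetCert.wval, List.map_append, List.prod_append]
      rcases Nat.lt_succ_iff.1 (Nat.le_of_ble_eq_true he) |>.eq_or_lt with he1 | he1
      · rcases hk with hk | ⟨hk, hklen⟩
        · omega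
        have hklt : f.k < R.length := Nat.le_of_ble_eq_true hklen
        rw [List.getD_eq_getElem _ _ hklt] at hk
        rw [he1, pow_one]
        refine eq_inv_of_mul_eq_one_left ?_
        rw [← hR1]
        conv_rhs => rw [← List.take_append_drop f.k R, List.drop_eq_getElem_cons hklt, hk]
        rw [hsplit, show (5 :: R.drop (f.k + 1)) = [5] ++ R.drop (f.k + 1) from rfl, hsplit,
          show CosetCert.wval im7 [5] = tg from mul_one _, mul_assoc]
      · rw [show f.e = 0 by omega, pow_zero, mul_one, add_zero]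
        refine eq_inv_of_mul_eq_one_left ?_
        rw [← hR1]
        conv_rhs => rw [← List.take_append_drop f.k R, hsplit]
    rw [e6] at eP
    have ePQ : (pathEnd ⟨0, f.i0, f.h0⟩ f.ps).val gw * tg ^ f.e = (pathEnd ⟨0, f.i0, f.h0⟩ f.qs).val gw := by
      rw [eP, eQ, mul_assoc, key]
    simp only [St.val, hi, hl] at ePQ
    unfold Fact.Holds
    rw [pv_same hh, pv_same hb, pv_append ha, val0_ivW _ (okW_ivW.1 (okW_append.1 (sameW_ok ha).2).1), map_inv]
    change _ = (pv _)⁻¹ * pv _ * _ * _
    calc _ = (pv (pathEnd ⟨0, f.i0, f.h0⟩ f.ps).A)⁻¹ * (pv (pathEnd ⟨0, f.i0, f.h0⟩ f.ps).A * gval gw f.i *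
          pv (pathEnd ⟨0, f.i0, f.h0⟩ f.ps).B * tg ^ f.e) := by group
      _ = _ := by rw [ePQ]; group

theorem all_hold (gw : List ℕ) (F : List Fact) (h0 : gval gw 0 = 1)
    (h : ∀ j < F.length, ∃ lo hi, lo ≤ j ∧ j < hi ∧ rangeOK gw F lo hi = true) :
    ∀ (j : ℕ) (f : Fact), F[j]? = some f → f.Holds gw := by
  intro j
  induction j using Nat.strong_induction_on with
  | _ j ih =>
    intro f hf
    obtain ⟨hj, -⟩ := List.getElem?_eq_some_iff.1 hf
    obtain ⟨lo, hi, h1, h2, h3⟩ := h j hj
    have h4 := List.all_eq_true.1 h3 (j - lo) (List.mem_range.2 (by omega))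
    rw [show lo + (j - lo) = j by omega, hf] at h4
    exact fact_sound gw F j h0 ih f h4

end Sound

end Cfsg.Lib.HNIndex
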