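import Cfsg.Agent.HNIndex.Cert1Check
import Cfsg.Agent.HNIndex.Cert2Check
import Cfsg.Agent.HNIndex.Cert3Check
import Cfsg.Agent.HNIndex.Cert4Check
import Cfsg.Agent.HNIndex.Cert5Check
import Cfsg.Agent.HNIndex.Cert6Check
import Cfsg.Agent.HNIndex.Cert7Check
import Cfsg.Agent.HNIndex.Cert8Check
import Cfsg.Agent.HNIndex.Facts0Check
import Cfsg.Agent.HNIndex.Facts1Check
import Cfsg.Agent.HNIndex.Facts2Check
import Cfsg.Agent.HNIndex.Facts3Check
import Cfsg.Agent.HNIndex.Facts4Check
import Cfsg.Agent.HNIndex.Facts5Check
import Cfsg.Agent.HNIndex.Facts6Check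
import Cfsg.Agent.HNIndex.Facts7Check
import Cfsg.Agent.HNIndex.Simple

/-!
The index of the subgroup on x, y, z in the presented Harada-Norton group and the simplicity of the group.
-/

set_option autoImplicit false
set_option Elab.async false

namespace Cfsg.Lib.HNIndex

open Cfsg.Lib Cfsg.Lib.HNPres

theorem facts_length : facts.length = 151 ∧ gWords.length = 9 ∧ dec (gWords.getD 0 0) = [] ∧
    dec (gWords.getD 1 0) = [5] := by decide +kernel

theorem g_zero : gval gWords 0 = 1 := by
  rw [gval, facts_length.2.2.1]
  rfl

theorem g_one : gval gWords 1 = tg := by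
  rw [gval, facts_length.2.2.2]
  exact mul_one tg

theorem facts_hold : ∀ (j : ℕ) (f : Fact), facts[j]? = some f → f.Holds gWords := by
  refine all_hold gWords facts g_zero fun j hj => ?_
  rw [facts_length.1] at hj
  by_cases h0 : j < 19
  · exact ⟨0, 19, by omega, h0, facts0_ok⟩
  by_cases h1 : j < 38
  · exact ⟨19, 38, by omega, h1, facts1_ok⟩
  by_cases h2 : j < 57
  · exact ⟨38, 57, by omega, h2, facts2_ok⟩
  by_cases h3 : j < 76
  · exact ⟨57, 76, by omega, h3, facts3_ok⟩
  by_cases h4 : j < 95
  · exact ⟨76, 95, by omega, h4, facts4_ok⟩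
  by_cases h5 : j < 114
  · exact ⟨95, 114, by omega, h5, facts5_ok⟩
  by_cases h6 : j < 133
  · exact ⟨114, 133, by omega, h6, facts6_ok⟩
  exact ⟨133, 151, by omega, hj, facts7_ok⟩

theorem step_of (c : Cert) {k : ℕ} (hk : c.i = k) (hT : treeOK gWords facts c.i c.tree c.cls c.reps = true)
    (h : N0) : InU gWords (gval gWords k * phi h * tg) :=
  hk ▸ step_t gWords facts facts_hold hT h

theorem size_of (c : Cert) {k s : ℕ} (hk : c.i = k) (hs : c.size = s)
    (hT : treeOK gWords facts c.i c.tree c.cls c.reps = true) (hV : c.shapeOK gWords = true)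
    (hR : ∀ k < c.forms.length, ∀ r < c.reps.length, c.rootsOK gWords k (r / 4 * 4) = true)
    (hX : ∀ r < c.extra.length, c.extraOK gWords (r / 4 * 4) = true) (hS : c.sizesOK facts = true) :
    Nat.card (SG gWords k) = s :=
  hs ▸ hk ▸ card_SG facts_hold hT hV hR hX hS

theorem nineData : NineData gWords where
  len := facts_length.2.1
  zero := g_zero
  one := g_one
  step := by
    intro i hi h0 h
    interval_cases i
    · exact step_of cert1 (show cert1.i = 1 by decide +kernel) tree1_ok h
    · exact step_of cert2 (show cert2.i = 2 by decide +kernel) tree2_ok h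
    · exact step_of cert3 (show cert3.i = 3 by decide +kernel) tree3_ok h
    · exact step_of cert4 (show cert4.i = 4 by decide +kernel) tree4_ok h
    · exact step_of cert5 (show cert5.i = 5 by decide +kernel) tree5_ok h
    · exact step_of cert6 (show cert6.i = 6 by decide +kernel) tree6_ok h
    · exact step_of cert7 (show cert7.i = 7 by decide +kernel) tree7_ok h
    · exact step_of cert8 (show cert8.i = 8 by decide +kernel) tree8_ok h
  size := by
    intro i hi h0
    interval_cases i
    · rw [size_of cert1 (k := 1) (s := 126000) (by decide +kernel) (by decide +kernel) tree1_ok shape1_ok roots1_ok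
        extra1_ok sizes1_ok]
      decide +kernel
    · rw [size_of cert2 (k := 2) (s := 500) (by decide +kernel) (by decide +kernel) tree2_ok shape2_ok roots2_ok
        extra2_ok sizes2_ok]
      decide +kernel
    · rw [size_of cert3 (k := 3) (s := 1440) (by decide +kernel) (by decide +kernel) tree3_ok shape3_ok roots3_ok
        extra3_ok sizes3_ok]
      decide +kernel
    · rw [size_of cert4 (k := 4) (s := 640) (by decide +kernel) (by decide +kernel) tree4_ok shape4_ok roots4_ok
        extra4_ok sizes4_ok]
      decide +kernel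
    · rw [size_of cert5 (k := 5) (s := 240) (by decide +kernel) (by decide +kernel) tree5_ok shape5_ok roots5_ok
        extra5_ok sizes5_ok]
      decide +kernel
    · rw [size_of cert6 (k := 6) (s := 5040) (by decide +kernel) (by decide +kernel) tree6_ok shape6_ok roots6_ok
        extra6_ok sizes6_ok]
      decide +kernel
    · rw [size_of cert7 (k := 7) (s := 80640) (by decide +kernel) (by decide +kernel) tree7_ok shape7_ok roots7_ok
        extra7_ok sizes7_ok]
      decide +kernel
    · rw [size_of cert8 (k := 8) (s := 30720) (by decide +kernel) (by decide +kernel) tree8_ok shape8_ok roots8_ok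
        extra8_ok sizes8_ok]
      decide +kernel

theorem index_xyz : phi.range.index = 1539000 := index_eq nineData

theorem isHN : IsSimpleGroup HNG ∧ Nat.card HNG = 273030912000000 := ⟨simple nineData, card_HNG nineData⟩

end Cfsg.Lib.HNIndex
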