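import Cfsg.Agent.HNIndex.ConjData
import Cfsg.Agent.HNIndex.Main

/-!
The generator z is conjugate in the group to an involution of the even part of the subgroup on x, y, z.
-/

set_option autoImplicit false
set_option Elab.async false

namespace Cfsg.Lib.HNIndex

open Cfsg.Lib Cfsg.Lib.HNPres Cfsg.Lib.CosetCert

/-- The twin of a stabiliser code. -/
def vCode (F : List Fact) (fd : ℕ) : List ℕ :=
  match F[fd / 2]? with
  | some f => if fd % 2 == 1 then ivW (dec f.a) else dec f.a
  | none => []

/-- The twin is made of letters. -/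
def vOK (F : List Fact) (fd : ℕ) : Bool :=
  match F[fd / 2]? with
  | some f => okW (dec f.a)
  | none => false

theorem twin_eq {gw : List ℕ} {F : List Fact} (hF : ∀ (j : ℕ) (f : Fact), F[j]? = some f → f.Holds gw) {i fd : ℕ}
    (h : stabFactOK F i fd = true) (h' : vOK F fd = true) :
    gval gw i * phi (val0 (sCode F fd)) = phi (val0 (vCode F fd)) * gval gw i := by
  rcases hf : F[fd / 2]? with _ | f
  · simp [stabFactOK, hf] at h
  simp only [stabFactOK, hf, Bool.and_eq_true, beq_iff_eq] at h
  simp only [vOK, hf] at h'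
  obtain ⟨⟨⟨⟨he, hi⟩, hl⟩, hh⟩, hb⟩ := h
  have e := hF _ f hf
  simp only [Fact.Holds, he, hi, hl, pow_zero, mul_one] at e
  simp only [sCode, vCode, hf, sWord]
  split
  · rw [val0_append, val0_ivW _ hh, val0_ivW _ h', map_mul, map_inv, map_inv]
    show gval gw i * (pv f.b * (pv f.h)⁻¹) = (pv f.a)⁻¹ * gval gw i
    calc _ = (pv f.a)⁻¹ * (pv f.a * gval gw i * pv f.b) * (pv f.h)⁻¹ := by group
      _ = _ := by rw [← e]; group
  · rw [val0_append, val0_ivW _ hb, map_mul, map_inv]
    show gval gw i * (pv f.h * (pv f.b)⁻¹) = pv f.a * gval gw i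
    rw [← mul_assoc, e]
    group

theorem conj_data : (conjCodes.all fun fd => stabFactOK facts conjI fd && vOK facts fd) = true ∧
    sameW (conjCodes.flatMap (sCode facts) ++ conjW) (conjW ++ [4]) = true ∧
    okW (conjCodes.flatMap (vCode facts)) = true ∧
    (conjCodes.flatMap (vCode facts)).countP (fun l => l == 4) % 2 = 0 := by decide +kernel

theorem par0_word : ∀ w : List ℕ, okW w = true → par0 (val0 w) = (-1) ^ w.countP (fun l => l == 4)
  | [], _ => by simp [val0, CosetCert.wval]
  | l :: w, h => by
    rw [okW, List.all_cons, Bool.and_eq_true] at h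
    have hl : l < 5 := Nat.le_of_ble_eq_true h.1
    obtain ⟨hx, hy, hz⟩ := gens_K0
    have hx' : par0 (n0 0) = 1 := hx
    have hy' : par0 (n0 1) = 1 := hy
    have hz' : par0 (n0 2) = -1 := (Int.units_eq_one_or (par0 (n0 2))).resolve_left fun e => hz e
    rw [show l :: w = [l] ++ w from rfl, val0_append, map_mul, par0_word w h.2,
      show val0 [l] = im0 l from mul_one _, List.countP_append]
    interval_cases l <;> simp [im0, letters, hx', hy', hz', pow_add]

/-- There are g and an element v of the even part with g z = v g. -/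
theorem z_conj : ∃ (g : HNG) (v : N0), v ∈ K0 ∧ g * zg = phi v * g := by
  obtain ⟨h1, h2, h3, h4⟩ := conj_data
  refine ⟨gval gWords conjI * phi (val0 conjW), val0 (conjCodes.flatMap (vCode facts)), ?_, ?_⟩
  · show par0 _ = 1
    rw [par0_word _ h3]
    exact Even.neg_one_pow (Nat.even_iff.2 h4)
  · have h : ∀ l : List ℕ, (l.all fun fd => stabFactOK facts conjI fd && vOK facts fd) = true →
        gval gWords conjI * phi (val0 (l.flatMap (sCode facts))) =
          phi (val0 (l.flatMap (vCode facts))) * gval gWords conjI := by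
      intro l
      induction l with
      | nil => intro _; simp [val0, CosetCert.wval]
      | cons a r ih =>
        intro hl
        rw [List.all_cons, Bool.and_eq_true, Bool.and_eq_true] at hl
        rw [List.flatMap_cons, List.flatMap_cons, val0_append, val0_append, map_mul, map_mul, ← mul_assoc,
          twin_eq facts_hold hl.1.1 hl.1.2, mul_assoc, ih hl.2, ← mul_assoc]
    obtain ⟨-, -, -, -, e4⟩ := phi_im0
    have e := congrArg phi (eq_of_same h2)
    rw [val0_append, val0_append, map_mul, map_mul, show val0 [4] = im0 4 from mul_one _, e4] at e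
    rw [mul_assoc, ← e, ← mul_assoc, h _ h1, mul_assoc]

end Cfsg.Lib.HNIndex
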