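import Cfsg.Agent.HNIndex.Cover
/-!
Generated: z is conjugate through a representative to an element of the even part.
-/

set_option autoImplicit false

namespace Cfsg.Lib.HNIndex

/-- The double coset used. -/
def conjI : ℕ := 8

/-- Codes of stabiliser elements. -/
def conjCodes : List ℕ := [294,297,297,297,295,297,295,294,297,297,297,295,297,295,294,297,297,297,295,297,295]

/-- The conjugating word. -/
def conjW : List ℕ := [1,2,0,2,1,2,0,2,1,2,2,2,0,3,1,3,3,3,0,3,1,3,0,3,3,1,3,3,0,3,1,3,3,0,2,1,2,2,0,2,1,2,0,3,1,3,0,3,1,2,0,3,0,4,2,1,2,4,2]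

end Cfsg.Lib.HNIndex
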