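import Cfsg.Agent.HNIndex.Cover

/-!
The index of the subgroup on x, y, z from the nine stabilisers, and its maximality.
-/

set_option autoImplicit false
set_option Elab.async false

namespace Cfsg.Lib.HNIndex

open Cfsg.Lib Cfsg.Lib.HNPres Cfsg.Lib.CosetCert

/-- The lengths of the orbits on the cosets. -/
def sizes : List ℕ := [1, 1408, 354816, 123200, 277200, 739200, 35200, 2200, 5775]

/-- What is needed about the nine representatives. -/
structure NineData (gw : List ℕ) : Prop where
  len : gw.length = 9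
  zero : gval gw 0 = 1
  one : gval gw 1 = tg
  step : ∀ i < 9, 0 < i → ∀ h : N0, InU gw (gval gw i * phi h * tg)
  size : ∀ i < 9, 0 < i → Nat.card (SG gw i) * sizes.getD i 0 = 177408000

/-- The cosets. -/
abbrev Cos : Type := HNG ⧸ phi.range

/-- The action of the subgroup on the cosets. -/
instance cosAct : MulAction N0 Cos := MulAction.compHom Cos phi

theorem smul_mk (n : N0) (x : HNG) : n • (QuotientGroup.mk x : Cos) = QuotientGroup.mk (phi n * x) := rfl

theorem phi_injective : Function.Injective phi := homN0_injective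

variable {gw : List ℕ}

theorem step_all (D : NineData gw) (i : ℕ) (hi : i < 9) (h : N0) : InU gw (gval gw i * phi h * tg) := by
  rcases Nat.eq_zero_or_pos i with rfl | h'
  · refine ⟨1, by rw [D.len]; norm_num, h, 1, ?_⟩
    rw [D.zero, D.one, map_one, mul_one, one_mul]
  · exact D.step i hi h' h

theorem inU_mul_phi {g : HNG} (h : InU gw g) (n : N0) : InU gw (g * phi n) := by
  obtain ⟨i, hi, a, b, rfl⟩ := h
  exact ⟨i, hi, a, b * n, by rw [map_mul]; group⟩

theorem inU_mul_t (D : NineData gw) {g : HNG} (h : InU gw g) : InU gw (g * tg) := by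
  obtain ⟨i, hi, a, b, rfl⟩ := h
  obtain ⟨l, hl, c, d, e⟩ := step_all D i (D.len ▸ hi) b
  refine ⟨l, hl, a * c, d, ?_⟩
  calc phi a * gval gw i * phi b * tg = phi a * (gval gw i * phi b * tg) := by group
    _ = _ := by rw [e, map_mul]; group

theorem inU_all (D : NineData gw) (g : HNG) : InU gw g := by
  have htop : g ∈ Subgroup.closure (Set.range fun a : Cfsg.Spor.HN.Gen => hnGen a) := by
    have e : Subgroup.closure (Set.range fun a : Cfsg.Spor.HN.Gen => hnGen a) = ⊤ :=
      PresentedGroup.closure_range_of hnRels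
    rw [e]
    exact Subgroup.mem_top g
  obtain ⟨e0, -, e2, -, e4⟩ := phi_im0
  have key : ∀ u, InU gw u → InU gw (u * g) := by
    induction htop using Subgroup.closure_induction'' with
    | mem a ha =>
      obtain ⟨q, rfl⟩ := ha
      intro u hu
      cases q
      · show InU gw (u * xg)
        rw [← e0]; exact inU_mul_phi hu _
      · show InU gw (u * yg)
        rw [← e2]; exact inU_mul_phi hu _
      · show InU gw (u * zg)
        rw [← e4]; exact inU_mul_phi hu _
      · exact inU_mul_t D hu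
    | inv_mem a ha =>
      obtain ⟨q, rfl⟩ := ha
      intro u hu
      cases q
      · show InU gw (u * xg⁻¹)
        rw [← e0, ← map_inv]; exact inU_mul_phi hu _
      · show InU gw (u * yg⁻¹)
        rw [← e2, ← map_inv]; exact inU_mul_phi hu _
      · show InU gw (u * zg⁻¹)
        rw [← e4, ← map_inv]; exact inU_mul_phi hu _
      · show InU gw (u * tg⁻¹)
        rw [inv_t, ← e0, ← map_inv]
        have := inU_mul_phi (inU_mul_phi (inU_mul_t D (inU_mul_phi (inU_mul_phi hu (im0 0)⁻¹) (im0 0)⁻¹)) (im0 0)) (im0 0)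
        simpa [mul_assoc] using this
    | one => intro u hu; rwa [mul_one]
    | mul a b _ _ ha hb => intro u hu; rw [← mul_assoc]; exact hb _ (ha u hu)
  have := key 1 ⟨0, by rw [D.len]; norm_num, 1, 1, by rw [D.zero]; simp⟩
  rwa [one_mul] at this

/-- The coset of a representative. -/
def rep (gw : List ℕ) (i : ℕ) : Cos := QuotientGroup.mk (gval gw i)⁻¹

theorem stab_rep (i : ℕ) : MulAction.stabilizer N0 (rep gw i) = SG gw i := by
  ext n
  rw [MulAction.mem_stabilizer_iff, rep, smul_mk, QuotientGroup.eq, SG, Subgroup.mem_comap]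
  have e : (phi n * (gval gw i)⁻¹)⁻¹ * (gval gw i)⁻¹ = (gval gw i * phi n * (gval gw i)⁻¹)⁻¹ := by group
  rw [e, Subgroup.inv_mem_iff]
  rfl

theorem card_orbit (D : NineData gw) (i : Fin 9) :
    Nat.card (MulAction.orbit N0 (rep gw i)) = sizes.getD i.val 0 := by
  haveI := card_N0.1
  have h := Nat.card_congr (MulAction.orbitProdStabilizerEquivGroup N0 (rep gw i.val))
  rw [Nat.card_prod, stab_rep, card_N0_eq] at h
  rcases Nat.eq_zero_or_pos i.val with h0 | h0
  · have e : SG gw i.val = ⊤ := by
      rw [eq_top_iff]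
      intro n _
      rw [mem_SG, h0, D.zero]
      exact ⟨n, by rw [one_mul, mul_one]⟩
    rw [e, Subgroup.card_top, card_N0_eq] at h
    rw [h0] at h ⊢
    exact Nat.eq_of_mul_eq_mul_right (by norm_num) (h.trans (one_mul 177408000).symm)
  · have hs := D.size i.val i.isLt h0
    rw [← hs, Nat.mul_comm (Nat.card (SG gw i.val))] at h
    exact Nat.eq_of_mul_eq_mul_right Nat.card_pos h

theorem orbit_inj (D : NineData gw) {i j : Fin 9}
    (h : MulAction.orbit N0 (rep gw i) = MulAction.orbit N0 (rep gw j)) : i = j := by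
  have e := card_orbit D i
  rw [h, card_orbit D j] at e
  have hdec : ∀ i j : Fin 9, sizes.getD j.val 0 = sizes.getD i.val 0 → i = j := by decide
  exact hdec i j e

theorem exists_orbit (D : NineData gw) (q : Cos) : ∃ i : Fin 9, q ∈ MulAction.orbit N0 (rep gw i) := by
  obtain ⟨x, rfl⟩ := QuotientGroup.mk_surjective q
  obtain ⟨i, hi, a, b, e⟩ := inU_all D x⁻¹
  refine ⟨⟨i, D.len ▸ hi⟩, b⁻¹, ?_⟩
  show b⁻¹ • rep gw i = _
  rw [rep, smul_mk, QuotientGroup.eq, ← inv_inv x, e]
  refine ⟨a⁻¹, ?_⟩
  rw [map_inv, map_inv]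
  group

/-- The map from the orbits onto the cosets. -/
def orbMap (gw : List ℕ) (x : Σ i : Fin 9, MulAction.orbit N0 (rep gw i.val)) : Cos := x.2.1

theorem orbMap_bij (D : NineData gw) : Function.Bijective (orbMap gw) := by
  constructor
  · rintro ⟨i, q, hq⟩ ⟨j, q', hq'⟩ (e : q = q')
    subst e
    obtain rfl := orbit_inj D ((MulAction.orbit_eq_iff.2 hq).symm.trans (MulAction.orbit_eq_iff.2 hq'))
    rfl
  · intro q
    obtain ⟨i, hi⟩ := exists_orbit D q
    exact ⟨⟨i, q, hi⟩, rfl⟩

theorem finite_cos (D : NineData gw) : Finite Cos := by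
  haveI := card_N0.1
  haveI : ∀ i : Fin 9, Finite (MulAction.orbit N0 (rep gw i.val)) := fun i =>
    Finite.of_surjective (fun n : N0 => (⟨n • rep gw i.val, MulAction.mem_orbit _ n⟩ : MulAction.orbit N0 _))
      fun ⟨_, n, hn⟩ => ⟨n, Subtype.ext hn⟩
  exact Finite.of_surjective _ (orbMap_bij D).2

theorem index_eq (D : NineData gw) : phi.range.index = 1539000 := by
  haveI := finite_cos D
  rw [Subgroup.index_eq_card, ← Nat.card_eq_of_bijective _ (orbMap_bij D), Nat.card_sigma]
  rw [Finset.sum_congr rfl fun i _ => card_orbit D i]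
  decide

theorem card_HNG (D : NineData gw) : Nat.card HNG = 273030912000000 := by
  rw [← Subgroup.card_mul_index phi.range, index_eq D, ← Nat.card_congr (MonoidHom.ofInjective phi_injective).toEquiv,
    card_N0_eq]

theorem maximal (D : NineData gw) (M : Subgroup HNG) (hM : phi.range ≤ M) : M = phi.range ∨ M = ⊤ := by
  haveI := finite_cos D
  classical
  let S : Finset (Fin 9) := Finset.univ.filter fun i => (gval gw i.val)⁻¹ ∈ M
  have hmem : ∀ x : HNG, ∀ i : Fin 9, (QuotientGroup.mk x : Cos) ∈ MulAction.orbit N0 (rep gw i.val) →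
      (x ∈ M ↔ i ∈ S) := by
    rintro x i ⟨n, hn⟩
    have e : (QuotientGroup.mk (phi n * (gval gw i.val)⁻¹) : Cos) = QuotientGroup.mk x := hn
    rw [QuotientGroup.eq] at e
    have hx : x ∈ M ↔ phi n * (gval gw i.val)⁻¹ ∈ M := by
      constructor
      · intro h
        have := mul_mem h (inv_mem (hM e))
        simpa [mul_assoc] using this
      · intro h
        have := mul_mem h (hM e)
        simpa [mul_assoc] using this
    rw [hx, M.mul_mem_cancel_left (hM ⟨n, rfl⟩)]
    simp [S]
  have hcard : phi.range.relIndex M = ∑ i ∈ S, sizes.getD i.val 0 := by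
    let A : Set Cos := {q | ∃ x ∈ M, QuotientGroup.mk x = q}
    have h1 : phi.range.relIndex M = Nat.card A := by
      rw [Subgroup.relIndex, Subgroup.index_eq_card]
      refine Nat.card_congr (Equiv.ofBijective
        (Quotient.lift (fun m : M => (⟨QuotientGroup.mk m.1, m.1, m.2, rfl⟩ : A)) ?_) ⟨?_, ?_⟩)
      · intro a b hab
        rw [← Quotient.eq_iff_equiv] at hab
        refine Subtype.ext ?_
        show (QuotientGroup.mk a.1 : Cos) = QuotientGroup.mk b.1
        have := (QuotientGroup.eq.1 hab)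
        exact QuotientGroup.eq.2 this
      · rintro ⟨a⟩ ⟨b⟩ hab
        have h : (QuotientGroup.mk a.1 : Cos) = QuotientGroup.mk b.1 := congrArg Subtype.val hab
        exact QuotientGroup.eq.2 (show a⁻¹ * b ∈ phi.range.subgroupOf M from
          Subgroup.mem_subgroupOf.2 ((QuotientGroup.eq (s := phi.range)).1 h))
      · rintro ⟨_, x, hx, rfl⟩
        exact ⟨Quotient.mk _ ⟨x, hx⟩, rfl⟩
    let f : (Σ i : S, MulAction.orbit N0 (rep gw i.1.val)) → A := fun x =>
      ⟨x.2.1, by
        obtain ⟨y, hy⟩ := QuotientGroup.mk_surjective x.2.1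
        exact ⟨y, (hmem y x.1.1 (hy ▸ x.2.2)).2 x.1.2, hy⟩⟩
    have hf : Function.Bijective f := by
      constructor
      · rintro ⟨i, q, hq⟩ ⟨j, q', hq'⟩ e
        have e' : q = q' := congrArg Subtype.val e
        subst e'
        obtain rfl : i = j :=
          Subtype.ext (orbit_inj D ((MulAction.orbit_eq_iff.2 hq).symm.trans (MulAction.orbit_eq_iff.2 hq')))
        rfl
      · rintro ⟨q, x, hx, rfl⟩
        obtain ⟨i, hi⟩ := exists_orbit D (QuotientGroup.mk x)
        exact ⟨⟨⟨i, (hmem x i hi).1 hx⟩, _, hi⟩, rfl⟩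
    rw [h1, ← Nat.card_eq_of_bijective f hf]
    haveI : ∀ i : S, Finite (MulAction.orbit N0 (rep gw i.1.val)) := fun i =>
      Finite.of_injective _ Subtype.val_injective
    rw [Nat.card_sigma, Finset.sum_congr rfl fun i _ => card_orbit D i.1]
    exact Finset.sum_coe_sort S fun i => sizes.getD i.val 0
  have hdvd : phi.range.relIndex M ∣ 1539000 := by
    rw [← index_eq D]
    exact Subgroup.relIndex_dvd_index_of_le hM
  have h0 : (0 : Fin 9) ∈ S := by
    simp [S, D.zero]
  have hcase : ∀ T : Finset (Fin 9), (0 : Fin 9) ∈ T → (∑ i ∈ T, sizes.getD i.val 0) ∣ 1539000 →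
      T = {0} ∨ T = Finset.univ := by decide +kernel
  rcases hcase S h0 (hcard ▸ hdvd) with h | h
  · left
    refine le_antisymm (fun x hx => ?_) hM
    obtain ⟨i, hi⟩ := exists_orbit D (QuotientGroup.mk x)
    have := (hmem x i hi).1 hx
    rw [h, Finset.mem_singleton] at this
    subst this
    obtain ⟨n, hn⟩ := hi
    have e : (QuotientGroup.mk (phi n * (gval gw 0)⁻¹) : Cos) = QuotientGroup.mk x := hn
    rw [QuotientGroup.eq, D.zero, inv_one, mul_one] at e
    have := mul_mem (MonoidHom.mem_range.2 ⟨n, rfl⟩ : phi n ∈ phi.range) e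
    simpa using this
  · right
    rw [eq_top_iff]
    intro x _
    obtain ⟨i, hi⟩ := exists_orbit D (QuotientGroup.mk x)
    exact (hmem x i hi).2 (h ▸ Finset.mem_univ i)

end Cfsg.Lib.HNIndex
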