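import Cfsg.Agent.HNRep.Relators

/-!
Matrices of degree 133 over the field with eleven elements as single packed numbers: a product takes a few hundred
operations on large numbers, and its reduction modulo eleven checks itself.
-/

set_option autoImplicit false

namespace Cfsg.Lib.HNIndex

open Cfsg.Lib.HNRep

/-- A digit of sixteen bits. -/
def dig (N m : ℕ) : ℕ := (N >>> (16 * m)) % 65536

theorem dig_eq (N m : ℕ) : dig N m = N / 65536 ^ m % 65536 := by
  rw [dig, Nat.shiftRight_eq_div_pow, pow_mul, show (2 : ℕ) ^ 16 = 65536 from rfl]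

theorem dig_sum : ∀ (L : ℕ) (f : ℕ → ℕ) (m : ℕ), (∀ k < L, f k < 65536) →
    dig (∑ k ∈ Finset.range L, f k * 65536 ^ k) m = if m < L then f m else 0 := by
  intro L
  induction L with
  | zero => intro f m _; simp [dig_eq]
  | succ L ih =>
    intro f m hf
    rw [Finset.sum_range_succ' (fun k => f k * 65536 ^ k)]
    have hs : ∑ k ∈ Finset.range L, f (k + 1) * 65536 ^ (k + 1) =
        65536 * ∑ k ∈ Finset.range L, f (k + 1) * 65536 ^ k := by
      rw [Finset.mul_sum]
      exact Finset.sum_congr rfl fun k _ => by rw [pow_succ]; ring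
    rw [hs, pow_zero, mul_one, dig_eq]
    cases m with
    | zero =>
      simp only [pow_zero, Nat.div_one, Nat.zero_lt_succ, if_pos]
      rw [Nat.mul_add_mod, Nat.mod_eq_of_lt (hf 0 (by omega))]
    | succ m =>
      rw [pow_succ', ← Nat.div_div_eq_div_mul, Nat.mul_add_div (by norm_num), Nat.div_eq_of_lt (hf 0 (by omega)),
        add_zero, ← dig_eq, ih (fun k => f (k + 1)) m fun k hk => hf (k + 1) (by omega)]
      simp

theorem testBit_dig (N k : ℕ) : N.testBit k = (dig N (k / 16)).testBit (k % 16) := by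
  rw [dig, show (65536 : ℕ) = 2 ^ 16 from rfl, Nat.testBit_mod_two_pow, Nat.testBit_shiftRight]
  simp [Nat.mod_lt, Nat.div_add_mod]

theorem ext_dig {a b : ℕ} (h : ∀ m, dig a m = dig b m) : a = b :=
  Nat.eq_of_testBit_eq fun k => by rw [testBit_dig a, testBit_dig b, h]

theorem eq_sum_dig {N L : ℕ} (h : ∀ m, L ≤ m → dig N m = 0) :
    N = ∑ k ∈ Finset.range L, dig N k * 65536 ^ k := by
  refine ext_dig fun m => ?_
  rw [dig_sum L (fun k => dig N k) m fun k _ => Nat.mod_lt _ (by norm_num)]
  by_cases hm : m < L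
  · rw [if_pos hm]
  · rw [if_neg hm, h m (by omega)]

theorem dig_land (a b m : ℕ) : dig (a &&& b) m = dig a m &&& dig b m := by
  refine Nat.eq_of_testBit_eq fun j => ?_
  simp only [dig, show (65536 : ℕ) = 2 ^ 16 from rfl, Nat.testBit_mod_two_pow, Nat.testBit_shiftRight,
    Nat.testBit_land]
  cases decide (j < 16) <;> simp

theorem dig_shift (N k m : ℕ) : dig (N >>> (16 * k)) m = dig N (k + m) := by
  rw [dig, dig, ← Nat.shiftRight_add, Nat.mul_add]

theorem dig_mod (N k m : ℕ) : dig (N % 65536 ^ k) m = if m < k then dig N m else 0 := by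
  refine Nat.eq_of_testBit_eq fun j => ?_
  simp only [dig, show (65536 : ℕ) = 2 ^ 16 from rfl, ← pow_mul, Nat.testBit_mod_two_pow, Nat.testBit_shiftRight]
  by_cases hm : m < k
  · rw [if_pos hm, Nat.testBit_mod_two_pow, Nat.testBit_shiftRight]
    by_cases hj : j < 16
    · simp [hj, show 16 * m + j < 16 * k by omega]
    · simp [hj]
  · simp [hm, show ¬ (16 * m + j < 16 * k) by omega]

theorem dig_zero (m : ℕ) : dig 0 m = 0 := by simp [dig]

theorem dig_big {N L m : ℕ} (h : N < 65536 ^ L) (hm : L ≤ m) : dig N m = 0 := by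
  rw [dig_eq, Nat.div_eq_of_lt (lt_of_lt_of_le h (Nat.pow_le_pow_right (by norm_num) hm)), Nat.zero_mod]

theorem sum_split (n : ℕ) (g : ℕ → ℕ) : ∀ a : ℕ,
    ∑ m ∈ Finset.range (a * n), g m = ∑ i ∈ Finset.range a, ∑ j ∈ Finset.range n, g (i * n + j)
  | 0 => by simp
  | a + 1 => by rw [Nat.succ_mul, Finset.sum_range_add, sum_split n g a, Finset.sum_range_succ]

/-- The number of digits. -/
def digs : ℕ := 17689

/-- Ones in all digits. -/
def ones : ℕ := (65536 ^ digs - 1) / (65536 - 1)

/-- All digits equal. -/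
def rep16 (v : ℕ) : ℕ := v * ones

theorem dig_rep16 (v m : ℕ) (hv : v < 65536) : dig (rep16 v) m = if m < digs then v else 0 := by
  rw [rep16, ones, ← Nat.geomSum_eq (by norm_num), Finset.mul_sum]
  exact dig_sum _ (fun _ => v) m fun _ _ => hv

/-- The mask of one column. -/
def colMask : ℕ → ℕ
  | 0 => 0
  | i + 1 => colMask i + 65535 * 65536 ^ (133 * i)

theorem colMask_eq (k : ℕ) : colMask k = ∑ m ∈ Finset.range (k * 133), (if m % 133 = 0 then 65535 else 0) * 65536 ^ m := by
  rw [sum_split]
  have hin : ∀ i : ℕ, ∑ j ∈ Finset.range 133, (if (i * 133 + j) % 133 = 0 then 65535 else 0) *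
      65536 ^ (i * 133 + j) = 65535 * 65536 ^ (133 * i) := fun i => by
    rw [Finset.sum_eq_single 0]
    · rw [add_zero, if_pos (Nat.mul_mod_left i 133), Nat.mul_comm i 133]
    · intro j hj h0
      rw [Finset.mem_range] at hj
      rw [if_neg (by omega), zero_mul]
    · exact fun h => absurd (Finset.mem_range.2 (by norm_num)) h
  simp only [hin]
  induction k with
  | zero => rfl
  | succ k ih => rw [Finset.sum_range_succ, ← ih, colMask]

theorem dig_colMask (m : ℕ) : dig (colMask 133) m = if m < digs ∧ m % 133 = 0 then 65535 else 0 := by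
  rw [colMask_eq, dig_sum _ _ _ (fun k _ => by split <;> norm_num), show 133 * 133 = digs from rfl]
  by_cases h : m < digs <;> simp [h]

/-- The entry of a packed matrix. -/
def ent (N i j : ℕ) : ℕ := dig N (133 * i + j)

/-- A column, spread out. -/
def colPart (A k : ℕ) : ℕ := (A >>> (16 * k)) &&& colMask 133

/-- A row. -/
def rowPart (B k : ℕ) : ℕ := (B >>> (16 * (133 * k))) % 65536 ^ 133

theorem land_65535 {a : ℕ} (h : a < 65536) : a &&& 65535 = a := by
  rw [show (65535 : ℕ) = 2 ^ 16 - 1 from rfl, Nat.and_two_pow_sub_one_eq_mod, Nat.mod_eq_of_lt h]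

theorem colPart_eq (A k : ℕ) : colPart A k = ∑ i ∈ Finset.range 133, ent A i k * 65536 ^ (133 * i) := by
  have h : colPart A k = ∑ m ∈ Finset.range (133 * 133),
      (if m % 133 = 0 then dig A (k + m) else 0) * 65536 ^ m := by
    refine ext_dig fun m => ?_
    rw [dig_sum _ _ _ (fun j _ => by split <;> first | exact Nat.mod_lt _ (by norm_num) | norm_num), colPart,
      dig_land, dig_colMask, dig_shift, show 133 * 133 = digs from rfl]
    by_cases h1 : m < digs
    · by_cases h2 : m % 133 = 0
      · rw [if_pos ⟨h1, h2⟩, if_pos h1, if_pos h2, land_65535]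
        exact Nat.mod_lt _ (by norm_num)
      · rw [if_neg (fun h => h2 h.2), if_pos h1, if_neg h2, Nat.and_zero]
    · rw [if_neg (fun h => h1 h.1), if_neg h1, Nat.and_zero]
  rw [h, sum_split]
  refine Finset.sum_congr rfl fun i _ => ?_
  rw [Finset.sum_eq_single 0]
  · simp [ent, Nat.mul_comm i 133, Nat.add_comm]
  · intro j hj h0
    rw [Finset.mem_range] at hj
    rw [if_neg (by omega), zero_mul]
  · simp

theorem rowPart_eq (B k : ℕ) : rowPart B k = ∑ j ∈ Finset.range 133, ent B k j * 65536 ^ j := by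
  refine ext_dig fun m => ?_
  rw [dig_sum 133 (fun j => ent B k j) m fun j _ => Nat.mod_lt _ (by norm_num), rowPart, dig_mod, dig_shift]
  rfl

/-- The product before reduction. -/
def rawSum (A B : ℕ) : ℕ → ℕ
  | 0 => 0
  | k + 1 => rawSum A B k + colPart A k * rowPart B k

theorem rawSum_eq (A B : ℕ) : ∀ k : ℕ, rawSum A B k = ∑ i ∈ Finset.range 133, ∑ j ∈ Finset.range 133,
    (∑ l ∈ Finset.range k, ent A i l * ent B l j) * 65536 ^ (133 * i + j)
  | 0 => by simp [rawSum]
  | k + 1 => by
    rw [rawSum, rawSum_eq A B k, colPart_eq, rowPart_eq, Finset.sum_mul, ← Finset.sum_add_distrib]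
    refine Finset.sum_congr rfl fun i _ => ?_
    rw [Finset.mul_sum, ← Finset.sum_add_distrib]
    refine Finset.sum_congr rfl fun j _ => ?_
    rw [Finset.sum_range_succ, pow_add]
    ring

/-- All digits are below eleven and only the first are used. -/
def Small (N : ℕ) : Prop := (∀ m, dig N m < 11) ∧ ∀ m, digs ≤ m → dig N m = 0

theorem dig_raw {A B : ℕ} (hA : Small A) (hB : Small B) (m : ℕ) :
    dig (rawSum A B 133) m =
      if m < digs then ∑ l ∈ Finset.range 133, ent A (m / 133) l * ent B l (m % 133) else 0 := by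
  have hbd : ∀ i j, ∑ l ∈ Finset.range 133, ent A i l * ent B l j < 65536 := fun i j => by
    refine lt_of_le_of_lt (Finset.sum_le_card_nsmul _ _ 100 fun l _ => ?_) (by simp)
    exact Nat.mul_le_mul (Nat.le_of_lt_succ (hA.1 _)) (Nat.le_of_lt_succ (hB.1 _))
  have h : rawSum A B 133 = ∑ q ∈ Finset.range (133 * 133),
      (∑ l ∈ Finset.range 133, ent A (q / 133) l * ent B l (q % 133)) * 65536 ^ q := by
    rw [rawSum_eq, sum_split]
    refine Finset.sum_congr rfl fun i _ => Finset.sum_congr rfl fun j hj => ?_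
    rw [Finset.mem_range] at hj
    rw [show (i * 133 + j) / 133 = i by omega, show (i * 133 + j) % 133 = j by omega, Nat.mul_comm i 133]
  rw [h, dig_sum _ _ _ (fun k _ => hbd _ _)]
  rfl

/-- An unproved guess for the quotient by eleven, digit by digit. -/
def guessQ (X : ℕ) : ℕ :=
  let one32 := (2 ^ (32 * 8845) - 1) / 4294967295
  let m := one32 * 65535
  let q := fun y : ℕ => ((y * 47663) >>> 19) &&& (one32 * 2047)
  q (X &&& m) + q ((X >>> 16) &&& m) * 65536

/-- The reduction, with a flag saying that it is right. -/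
def redC (X : ℕ) : ℕ × Bool :=
  let Q := guessQ X
  let C := X - 11 * Q
  (C, Nat.ble (11 * Q) X && Q &&& rep16 63488 == 0 && C &&& rep16 32768 == 0 &&
    (C + rep16 32757) &&& rep16 32768 == 0 && Q >>> (16 * digs) == 0 && C >>> (16 * digs) == 0)

theorem dig_top {N m : ℕ} (h : N >>> (16 * digs) = 0) (hm : digs ≤ m) : dig N m = 0 := by
  rw [show m = digs + (m - digs) by omega, ← dig_shift, h, dig_zero]

theorem land_high {a : ℕ} (ha : a < 65536) (h : a &&& 63488 = 0) : a < 2048 := by
  by_contra hh
  obtain ⟨i, hi, hb⟩ := Nat.exists_ge_and_testBit_of_ge_two_pow (n := 11) (x := a) (by omega)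
  have hi16 : i < 16 := by
    by_contra h16
    have := Nat.testBit_lt_two_pow (x := a) (i := i) (lt_of_lt_of_le (show a < 2 ^ 16 from ha) (Nat.pow_le_pow_right (by norm_num) (Nat.le_of_not_lt h16)))
    rw [hb] at this
    exact Bool.noConfusion this
  have := congrArg (fun x => Nat.testBit x i) h
  simp only [Nat.testBit_land, hb, Bool.true_and, Nat.zero_testBit] at this
  interval_cases i <;> simp_all [Nat.testBit_eq_decide_div_mod_eq]

theorem land_top {a : ℕ} (ha : a < 65536) (h : a &&& 32768 = 0) : a < 32768 := by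
  by_contra hh
  have hb : a.testBit 15 = true := by
    rw [Nat.testBit_eq_decide_div_mod_eq, decide_eq_true_eq, show a / 2 ^ 15 = 1 by omega]
  have := congrArg (fun x => Nat.testBit x 15) h
  simp only [Nat.testBit_land, hb, Bool.true_and, Nat.zero_testBit] at this
  simp [Nat.testBit_eq_decide_div_mod_eq] at this

theorem redC_spec {X : ℕ} (hX : ∀ m, digs ≤ m → dig X m = 0) (h : (redC X).2 = true) :
    Small (redC X).1 ∧ ∀ m, (dig (redC X).1 m : ZMod 11) = (dig X m : ZMod 11) := by
  simp only [redC, Bool.and_eq_true, beq_iff_eq] at h ⊢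
  obtain ⟨⟨⟨⟨⟨hle, hQ⟩, hC1⟩, hC2⟩, hQt⟩, hCt⟩ := h
  have hle' := Nat.le_of_ble_eq_true hle
  generalize guessQ X = Q at *
  set C := X - 11 * Q with hC
  have hrep : ∀ v N m, v < 65536 → N &&& rep16 v = 0 → m < digs → dig N m &&& v = 0 := fun v N m hv hN hm => by
    have := congrArg (fun x => dig x m) hN
    simp only [dig_land, dig_rep16 v m hv, if_pos hm, dig_zero] at this
    exact this
  have hQd : ∀ m, dig Q m < 2048 := fun m => by
    by_cases hm : m < digs
    · exact land_high (Nat.mod_lt _ (by norm_num)) (hrep _ _ _ (by norm_num) hQ hm)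
    · rw [dig_top hQt (by omega)]; norm_num
  have hCd : ∀ m, dig C m < 32768 := fun m => by
    by_cases hm : m < digs
    · exact land_top (Nat.mod_lt _ (by norm_num)) (hrep _ _ _ (by norm_num) hC1 hm)
    · rw [dig_top hCt (by omega)]; norm_num
  have eC := eq_sum_dig (N := C) (L := digs) fun m hm => dig_top hCt hm
  have eQ := eq_sum_dig (N := Q) (L := digs) fun m hm => dig_top hQt hm
  have hsum : ∀ m, dig (C + rep16 32757) m = if m < digs then dig C m + 32757 else 0 := fun m => by
    have e : C + rep16 32757 = ∑ k ∈ Finset.range digs, (dig C k + 32757) * 65536 ^ k := by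
      conv_lhs => rw [eC, rep16, ones, ← Nat.geomSum_eq (by norm_num), Finset.mul_sum, ← Finset.sum_add_distrib]
      exact Finset.sum_congr rfl fun k _ => (add_mul _ _ _).symm
    rw [e]
    exact dig_sum _ (fun k => dig C k + 32757) m fun k _ => by have := hCd k; omega
  have hC11 : ∀ m, dig C m < 11 := fun m => by
    by_cases hm : m < digs
    · have h' := hrep 32768 (C + rep16 32757) m (by norm_num) hC2 hm
      rw [hsum, if_pos hm] at h'
      have := land_top (by have := hCd m; omega) h'
      omega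
    · rw [dig_top hCt (by omega)]; norm_num
  have hXd : ∀ m, dig X m = 11 * dig Q m + dig C m := fun m => by
    by_cases hm : m < digs
    · have e : X = ∑ k ∈ Finset.range digs, (11 * dig Q k + dig C k) * 65536 ^ k := by
        conv_lhs => rw [show X = 11 * Q + C by omega, eQ, eC, Finset.mul_sum, ← Finset.sum_add_distrib]
        exact Finset.sum_congr rfl fun k _ => by ring
      conv_lhs => rw [e]
      rw [dig_sum _ (fun k => 11 * dig Q k + dig C k) m fun k _ => by have := hQd k; have := hC11 k; omega,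
        if_pos hm]
    · rw [hX m (by omega), dig_top hQt (by omega), dig_top hCt (by omega)]
  refine ⟨⟨hC11, fun m hm => dig_top hCt hm⟩, fun m => ?_⟩
  rw [hXd m, Nat.cast_add, Nat.cast_mul, show ((11 : ℕ) : ZMod 11) = 0 from rfl, zero_mul, zero_add]

/-- The product, with a flag saying that it is right. -/
def mul1 (A B : ℕ) : ℕ × Bool := redC (rawSum A B 133)

/-- The matrix of a packed number. -/
def toM (N : ℕ) : Mat := Matrix.of fun i j => (ent N i.val j.val : ZMod 11)

/-- The packed number is the matrix of the element. -/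
def Ok1 (g : Matˣ) (N : ℕ) : Prop := Small N ∧ toM N = (g : Mat)

theorem Ok1.mul {g h : Matˣ} {A B : ℕ} (hg : Ok1 g A) (hh : Ok1 h B) (hr : (mul1 A B).2 = true) :
    Ok1 (g * h) (mul1 A B).1 := by
  obtain ⟨hs, he⟩ := redC_spec (fun m hm => by rw [dig_raw hg.1 hh.1, if_neg (by omega)]) hr
  refine ⟨hs, ?_⟩
  rw [Units.val_mul, ← hg.2, ← hh.2]
  ext i j
  have hm : 133 * (i : ℕ) + j < digs := by
    have := i.isLt
    have := j.isLt
    simp only [digs]
    omega
  simp only [toM, Matrix.mul_apply, Matrix.of_apply, ent, mul1, he, dig_raw hg.1 hh.1, if_pos hm]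
  rw [show (133 * (i : ℕ) + j) / 133 = i by omega, show (133 * (i : ℕ) + j) % 133 = j by omega, Nat.cast_sum,
    Finset.sum_range]
  exact Finset.sum_congr rfl fun l _ => by rw [Nat.cast_mul]

/-- The sum of the diagonal. -/
def diagSum (N : ℕ) : ℕ → ℕ
  | 0 => 0
  | i + 1 => diagSum N i + dig N (133 * i + i)

/-- The trace modulo eleven. -/
def tr1 (N : ℕ) : ℕ := diagSum N 133 % 11

theorem Ok1.trace {g : Matˣ} {N : ℕ} (h : Ok1 g N) : Matrix.trace (g : Mat) = (tr1 N : ZMod 11) := by
  have e : ∀ k, diagSum N k = ∑ i ∈ Finset.range k, dig N (133 * i + i) := fun k => by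
    induction k with
    | zero => rfl
    | succ k ih => rw [diagSum, ih, Finset.sum_range_succ]
  rw [← h.2, tr1, ZMod.natCast_mod, e, Nat.cast_sum, Finset.sum_range]
  rfl

/-- Rows packed in one number. -/
def packRows : List ℕ → ℕ
  | [] => 0
  | r :: A => r + packRows A * 65536 ^ 133

/-- The rows are those of the number and all digits are small. -/
def packOK (A : List ℕ) : Bool :=
  let N := packRows A
  (A.length == 133) && N >>> (16 * digs) == 0 && N &&& rep16 32768 == 0 &&
    (N + rep16 32757) &&& rep16 32768 == 0 &&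
    (List.range 133).all fun i => rowPart N i == A.getD i 0

theorem fld_eq_dig : ∀ j x, fld x j = dig x j
  | 0, x => by simp [fld, dig]
  | j + 1, x => by
    rw [fld, fld_eq_dig j, dig_eq, dig_eq, pow_succ', Nat.div_div_eq_div_mul]

theorem ok1_pack {A : List ℕ} {g : Matˣ} (h : packOK A = true) (hA : toMat 133 A = (g : Mat)) :
    Ok1 g (packRows A) := by
  simp only [packOK, Bool.and_eq_true, beq_iff_eq, List.all_eq_true, List.mem_range] at h
  obtain ⟨⟨⟨⟨-, ht⟩, h1⟩, h2⟩, hrow⟩ := h
  generalize packRows A = N at *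
  have hrep : ∀ M m, M &&& rep16 32768 = 0 → m < digs → dig M m < 32768 := fun M m hM hm => by
    have := congrArg (fun x => dig x m) hM
    simp only [dig_land, dig_rep16 32768 m (by norm_num), if_pos hm, dig_zero] at this
    exact land_top (Nat.mod_lt _ (by norm_num)) this
  have hN : ∀ m, dig N m < 32768 := fun m => by
    by_cases hm : m < digs
    · exact hrep N m h1 hm
    · rw [dig_top ht (by omega)]; norm_num
  have e : N + rep16 32757 = ∑ k ∈ Finset.range digs, (dig N k + 32757) * 65536 ^ k := by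
    conv_lhs => rw [eq_sum_dig (N := N) (L := digs) fun m hm => dig_top ht hm, rep16, ones,
      ← Nat.geomSum_eq (by norm_num), Finset.mul_sum, ← Finset.sum_add_distrib]
    exact Finset.sum_congr rfl fun k _ => (add_mul _ _ _).symm
  refine ⟨⟨fun m => ?_, fun m hm => dig_top ht hm⟩, ?_⟩
  · by_cases hm : m < digs
    · have h' := hrep _ m h2 hm
      rw [e, dig_sum _ (fun k => dig N k + 32757) m (fun k _ => by have := hN k; omega), if_pos hm] at h'
      omega
    · rw [dig_top ht (by omega)]; norm_num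
  · rw [← hA]
    ext i j
    simp only [toM, toMat, Matrix.of_apply, ← hrow i.val i.isLt, rowPart, fld_eq_dig, dig_mod, dig_shift,
      if_pos j.isLt]
    rfl

end Cfsg.Lib.HNIndex
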