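import Cfsg.Agent.HNIndex.Checker
import Cfsg.Agent.HNIndex.Mat1

/-!
The stabiliser of a double coset, the step by t out of a double coset, and functions on the cosets of the point
stabiliser which it preserves, all read off from a tree on the 1408 points.
-/

set_option autoImplicit false

namespace Cfsg.Lib.HNIndex

open Cfsg.Lib Cfsg.Lib.HNPres Cfsg.Lib.HNRep Cfsg.Lib.CosetCert

variable (gw : List ℕ) (F : List Fact)

/-- The elements of the subgroup which a representative conjugates into it. -/
def SG (i : ℕ) : Subgroup N0 :=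
  phi.range.comap ((MulAut.conj (gval gw i)).toMonoidHom.comp phi)

theorem mem_SG {i : ℕ} {s : N0} : s ∈ SG gw i ↔ ∃ v : N0, gval gw i * phi s = phi v * gval gw i := by
  constructor
  · rintro ⟨v, hv⟩
    refine ⟨v, ?_⟩
    simp only [MonoidHom.comp_apply, MulEquiv.coe_toMonoidHom, MulAut.conj_apply] at hv
    rw [hv]
    group
  · rintro ⟨v, hv⟩
    refine ⟨v, ?_⟩
    simp only [MonoidHom.comp_apply, MulEquiv.coe_toMonoidHom, MulAut.conj_apply]
    rw [hv]
    group

/-- The double coset union. -/
def InU (g : HNG) : Prop := ∃ i < gw.length, ∃ a b : N0, g = phi a * gval gw i * phi b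

/-- The stabiliser word of an equation in one of the directions. -/
def sWord (f : Fact) (bwd : Bool) : List ℕ :=
  if bwd then dec f.b ++ ivW (dec f.h) else dec f.h ++ ivW (dec f.b)

/-- An equation gives a stabiliser element in either direction. -/
def stabFactOK (i : ℕ) (fd : ℕ) : Bool :=
  match F[fd / 2]? with
  | some f => (f.e == 0) && (f.i == i) && (f.l == i) && okW (dec f.h) && okW (dec f.b)
  | none => false

/-- The stabiliser word given by a code. -/
def sCode (fd : ℕ) : List ℕ :=
  match F[fd / 2]? with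
  | some f => sWord f (fd % 2 == 1)
  | none => []

theorem sCode_mem (hF : ∀ (j : ℕ) (f : Fact), F[j]? = some f → f.Holds gw) {i fd : ℕ}
    (h : stabFactOK F i fd = true) : val0 (sCode F fd) ∈ SG gw i := by
  rcases hf : F[fd / 2]? with _ | f
  · simp [stabFactOK, hf] at h
  simp only [stabFactOK, hf, Bool.and_eq_true, beq_iff_eq] at h
  obtain ⟨⟨⟨⟨he, hi⟩, hl⟩, hh⟩, hb⟩ := h
  have e := hF _ f hf
  simp only [Fact.Holds, he, hi, hl, pow_zero, mul_one] at e
  have hfwd : val0 (dec f.h ++ ivW (dec f.b)) ∈ SG gw i := by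
    rw [mem_SG]
    refine ⟨val0 (dec f.a), ?_⟩
    rw [val0_append, val0_ivW _ hb, map_mul, map_inv, ← mul_assoc]
    change gval gw i * pv f.h * (pv f.b)⁻¹ = pv f.a * gval gw i
    rw [e]
    group
  simp only [sCode, hf, sWord]
  split
  · rw [val0_append, val0_ivW _ hh]
    have := inv_mem hfwd
    rwa [val0_append, val0_ivW _ hb, mul_inv_rev, inv_inv] at this
  · exact hfwd

/-- A field of a tree. -/
def tCode (T p : ℕ) : ℕ := (T >>> (32 * p)) % 4294967296

/-- The parent of a point. -/
def tPar (T p : ℕ) : ℕ := tCode T p % 2048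

/-- The equation used at a point. -/
def tEq (T p : ℕ) : ℕ := tCode T p / 2048 % 512

/-- The depth of a point. -/
def tDep (T p : ℕ) : ℕ := tCode T p / 1048576

/-- The class of a point. -/
def tCls (C p : ℕ) : ℕ := (C >>> (16 * p)) % 65536

/-- The tree is right at a point: a root has an equation with t, another point moves towards its root by a
stabiliser element. -/
def treeAt (i T C : ℕ) (reps : List ℕ) (p : ℕ) : Bool :=
  let fd := tEq T p
  if tDep T p == 0 then
    okW (dec (reps.getD (tCls C p) 0)) && (ev (dec (reps.getD (tCls C p) 0)) p == 0) &&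
      match F[fd / 2]? with
      | some f => (f.e == 1) &&
          if fd % 2 == 1 then (f.l == i) && Nat.blt f.i gw.length && okW (dec f.b ++ [0, 0]) &&
            (ev (dec f.b ++ [0, 0]) p == 0)
          else (f.i == i) && Nat.blt f.l gw.length && okW (dec f.h) && (ev (dec f.h) p == 0)
      | none => false
  else
    let q := tPar T p
    stabFactOK F i fd && okW (sCode F fd) && (ev (sCode F fd) p == q) && Nat.blt q 1408 &&
      Nat.blt (tDep T q) (tDep T p) && (tCls C q == tCls C p)

/-- The tree is right everywhere. -/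
def treeOK (i T C : ℕ) (reps : List ℕ) : Bool := (List.range 1408).all (treeAt gw F i T C reps)

theorem act_ev {w : List ℕ} (h : okW w = true) {p : Fin 1408} (h0 : ev w p = 0) :
    act (val0 w) (0 : Fin 1408) = p := by
  have e : (act (val0 w))⁻¹ p = 0 := Fin.ext ((ev_eq h p).trans h0)
  exact (Equiv.Perm.inv_eq_iff_eq.1 e).symm

theorem diff_fix {h k : N0} (e : act h (0 : Fin 1408) = act k (0 : Fin 1408)) :
    act (k⁻¹ * h) (0 : Fin 1408) = 0 := by
  rw [map_mul, map_inv, Equiv.Perm.mul_apply, e]
  simp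

/-- The induction along the tree. -/
theorem tree_induction (hF : ∀ (j : ℕ) (f : Fact), F[j]? = some f → f.Holds gw) {i T C : ℕ} {reps : List ℕ}
    (hT : treeOK gw F i T C reps = true) (P : ℕ → N0 → Prop)
    (hroot : ∀ (p : Fin 1408) (h : N0), act h (0 : Fin 1408) = p → tDep T p = 0 →
      treeAt gw F i T C reps p = true → P p h)
    (hchild : ∀ (p q : Fin 1408) (h s : N0), act h (0 : Fin 1408) = p → s ∈ SG gw i →
      tCls C q = tCls C p → P q (s⁻¹ * h) → P p h) :
    ∀ (p : Fin 1408) (h : N0), act h (0 : Fin 1408) = p → P p h := by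
  have key : ∀ (d : ℕ) (p : Fin 1408) (h : N0), tDep T p ≤ d → act h (0 : Fin 1408) = p → P p h := by
    intro d
    induction d with
    | zero =>
      intro p h hd hp
      exact hroot p h hp (by omega) (List.all_eq_true.1 hT p.val (List.mem_range.2 p.isLt))
    | succ d ih =>
      intro p h hd hp
      have ht := List.all_eq_true.1 hT p.val (List.mem_range.2 p.isLt)
      by_cases h0 : tDep T p = 0
      · exact hroot p h hp h0 ht
      simp only [treeAt, beq_iff_eq, h0, if_false, Bool.and_eq_true] at ht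
      obtain ⟨⟨⟨⟨⟨hs, hok⟩, hev⟩, hq⟩, hdep⟩, hcls⟩ := ht
      have hq' : tPar T p < 1408 := Nat.le_of_ble_eq_true hq
      refine hchild p ⟨_, hq'⟩ h _ hp (sCode_mem gw F hF hs) hcls (ih ⟨_, hq'⟩ _ ?_ ?_)
      · have := Nat.le_of_ble_eq_true hdep
        show tDep T (tPar T p) ≤ d
        omega
      · rw [map_mul, map_inv, Equiv.Perm.mul_apply, hp]
        exact Fin.ext ((ev_eq hok p).trans hev)
  exact fun p h hp => key (tDep T p) p h le_rfl hp

theorem step_t (hF : ∀ (j : ℕ) (f : Fact), F[j]? = some f → f.Holds gw) {i T C : ℕ} {reps : List ℕ}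
    (hT : treeOK gw F i T C reps = true) (h : N0) : InU gw (gval gw i * phi h * tg) := by
  refine tree_induction gw F hF hT (fun _ h => InU gw (gval gw i * phi h * tg)) ?_ ?_ _ h rfl
  · intro p h hp h0 ht
    simp only [treeAt, beq_iff_eq, h0, if_true, Bool.and_eq_true] at ht
    obtain ⟨-, ht⟩ := ht
    rcases hf : F[tEq T p / 2]? with _ | f
    · rw [hf] at ht
      exact Bool.noConfusion ht
    rw [hf] at ht
    simp only [Bool.and_eq_true, beq_iff_eq] at ht
    obtain ⟨he, ht⟩ := ht
    have e := hF _ f hf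
    simp only [Fact.Holds, he, pow_one] at e
    split at ht
    · simp only [Bool.and_eq_true, beq_iff_eq] at ht
      obtain ⟨⟨⟨hl, hlen⟩, hok⟩, hev⟩ := ht
      have hw := act_ev hok hev
      set c := (val0 (dec f.b ++ [0, 0]))⁻¹ * h with hc
      have hcomm := commute_t_of_fix (diff_fix (hp.trans hw.symm))
      rw [← hc] at hcomm
      refine ⟨f.i, Nat.le_of_ble_eq_true hlen, (val0 (dec f.a))⁻¹, val0 (dec f.h) * val0 [0, 0] * c, ?_⟩
      have hh : phi h = pv f.b * phi (val0 [0, 0]) * phi c := by
        rw [hc, map_mul, map_inv, val0_append, map_mul]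
        show _ = phi (val0 (dec f.b)) * phi (val0 [0, 0]) * _
        group
      rw [map_mul, map_mul, map_inv, ← hl, hh]
      show _ = (pv f.a)⁻¹ * gval gw f.i * (pv f.h * phi (val0 [0, 0]) * phi c)
      calc gval gw f.l * (pv f.b * phi (val0 [0, 0]) * phi c) * tg
          = gval gw f.l * pv f.b * phi (val0 [0, 0]) * (phi c * tg) := by group
        _ = gval gw f.l * pv f.b * phi (val0 [0, 0]) * (tg * phi c) := by rw [hcomm.eq]
        _ = (pv f.a)⁻¹ * (pv f.a * gval gw f.l * pv f.b) * phi (val0 [0, 0]) * tg * phi c := by group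
        _ = (pv f.a)⁻¹ * (gval gw f.i * pv f.h * tg) * phi (val0 [0, 0]) * tg * phi c := by rw [e]
        _ = (pv f.a)⁻¹ * gval gw f.i * pv f.h * (tg * phi (val0 [0, 0]) * tg) * phi c := by group
        _ = _ := by rw [t_xx_t]; group
    · simp only [Bool.and_eq_true, beq_iff_eq] at ht
      obtain ⟨⟨⟨hi, hlen⟩, hok⟩, hev⟩ := ht
      have hw := act_ev hok hev
      set c := (val0 (dec f.h))⁻¹ * h with hc
      have hcomm := commute_t_of_fix (diff_fix (hp.trans hw.symm))
      rw [← hc] at hcomm
      refine ⟨f.l, Nat.le_of_ble_eq_true hlen, val0 (dec f.a), val0 (dec f.b) * c, ?_⟩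
      have hh : phi h = pv f.h * phi c := by
        rw [hc, map_mul, map_inv]
        show _ = phi (val0 (dec f.h)) * _
        group
      rw [map_mul, ← hi, hh]
      show _ = pv f.a * gval gw f.l * (pv f.b * phi c)
      calc gval gw f.i * (pv f.h * phi c) * tg = gval gw f.i * pv f.h * (phi c * tg) := by group
        _ = gval gw f.i * pv f.h * (tg * phi c) := by rw [hcomm.eq]
        _ = gval gw f.i * pv f.h * tg * phi c := by group
        _ = _ := by rw [e]; group
  · rintro p q h s - hs - ⟨l, hl, a, b, hab⟩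
    obtain ⟨v, hv⟩ := (mem_SG gw).1 hs
    refine ⟨l, hl, v * a, b, ?_⟩
    rw [map_mul]
    calc gval gw i * phi h * tg = gval gw i * phi s * phi (s⁻¹ * h) * tg := by
          rw [map_mul, map_inv]; group
      _ = phi v * (gval gw i * phi (s⁻¹ * h) * tg) := by rw [hv]; group
      _ = _ := by rw [hab]; group

/-- The symbols of an invariant: the central involution, its conjugate, the conjugate of t at a point, and the one
at a fixed point. -/
def sym (i : ℕ) (hA h : N0) : ℕ → HNG
  | 0 => phi (val0 [0, 0])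
  | 1 => (gval gw i)⁻¹ * phi (val0 [0, 0]) * gval gw i
  | 2 => phi h * tg * (phi h)⁻¹
  | _ => phi hA * tg * (phi hA)⁻¹

/-- An invariant. -/
def inv1 (i : ℕ) (hA : N0) (form : List ℕ) (h : N0) : ZMod 11 :=
  Matrix.trace ((psi ((form.map (sym gw i hA h)).prod) : Matˣ) : Mat)

theorem zc_central (n : N0) : Commute (val0 [0, 0]) n := by
  have hgen : ∀ k : Fin 3, Commute (val0 [0, 0]) (n0 k) := by
    intro k
    have h0 : val0 [0, 0] * val0 [0] = val0 [0] * val0 [0, 0] := by
      rw [← val0_append, ← val0_append]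
      exact eq_of_same (by decide +kernel)
    have h1 : val0 [0, 0] * val0 [2] = val0 [2] * val0 [0, 0] := by
      rw [← val0_append, ← val0_append]
      exact eq_of_same (by decide +kernel)
    have h2 : val0 [0, 0] * val0 [4] = val0 [4] * val0 [0, 0] := by
      rw [← val0_append, ← val0_append]
      exact eq_of_same (by decide +kernel)
    have e : ∀ l, val0 [l] = im0 l := fun l => mul_one _
    rw [e] at h0 h1 h2
    fin_cases k
    exacts [h0, h1, h2]
  have hn : n ∈ Subgroup.closure {n0 0, n0 1, n0 2} := top_n0 ▸ Subgroup.mem_top _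
  induction hn using Subgroup.closure_induction with
  | mem a ha =>
    rcases ha with rfl | rfl | rfl
    exacts [hgen 0, hgen 1, hgen 2]
  | one => exact Commute.one_right _
  | mul a b _ _ ha hb => exact ha.mul_right hb
  | inv a _ ha => exact ha.inv_right

theorem inv1_coset (i : ℕ) (hA : N0) (form : List ℕ) {h k : N0}
    (e : act h (0 : Fin 1408) = act k (0 : Fin 1408)) : inv1 gw i hA form h = inv1 gw i hA form k := by
  have hc := commute_t_of_fix (diff_fix e)
  have hT : phi h * tg * (phi h)⁻¹ = phi k * tg * (phi k)⁻¹ := by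
    rw [show phi h = phi k * phi (k⁻¹ * h) by rw [map_mul, map_inv]; group]
    calc phi k * phi (k⁻¹ * h) * tg * (phi k * phi (k⁻¹ * h))⁻¹
        = phi k * (phi (k⁻¹ * h) * tg) * (phi (k⁻¹ * h))⁻¹ * (phi k)⁻¹ := by group
      _ = _ := by rw [hc.eq]; group
  have hs : sym gw i hA h = sym gw i hA k := by
    funext l
    match l with
    | 0 => rfl
    | 1 => rfl
    | 2 => exact hT
    | k + 3 => rfl
  rw [inv1, inv1, hs]

theorem inv1_stab (i : ℕ) (hA : N0) (form : List ℕ) {s : N0} (hs : s ∈ SG gw i) (h : N0)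
    (hfix : (3 ∈ form → act s (act hA (0 : Fin 1408)) = act hA (0 : Fin 1408))) (hform : ∀ l ∈ form, l < 4) :
    inv1 gw i hA form (s * h) = inv1 gw i hA form h := by
  obtain ⟨v, hv⟩ := (mem_SG gw).1 hs
  have hz : ∀ n : N0, Commute (phi (val0 [0, 0])) (phi n) := fun n => (zc_central n).map phi
  have hu : ∀ l ∈ form, sym gw i hA (s * h) l = phi s * sym gw i hA h l * (phi s)⁻¹ := by
    intro l hl
    have := hform l hl
    interval_cases l
    · show phi (val0 [0, 0]) = phi s * phi (val0 [0, 0]) * (phi s)⁻¹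
      rw [← (hz s).eq]
      group
    · show (gval gw i)⁻¹ * phi (val0 [0, 0]) * gval gw i = phi s * ((gval gw i)⁻¹ * phi (val0 [0, 0]) * gval gw i) *
        (phi s)⁻¹
      have hs' : phi s = (gval gw i)⁻¹ * phi v * gval gw i := by rw [mul_assoc, ← hv]; group
      calc (gval gw i)⁻¹ * phi (val0 [0, 0]) * gval gw i
          = (gval gw i)⁻¹ * (phi (val0 [0, 0]) * phi v * (phi v)⁻¹) * gval gw i := by group
        _ = (gval gw i)⁻¹ * (phi v * phi (val0 [0, 0]) * (phi v)⁻¹) * gval gw i := by rw [(hz v).eq]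
        _ = _ := by rw [hs']; group
    · show phi (s * h) * tg * (phi (s * h))⁻¹ = phi s * (phi h * tg * (phi h)⁻¹) * (phi s)⁻¹
      rw [map_mul]
      group
    · show phi hA * tg * (phi hA)⁻¹ = phi s * (phi hA * tg * (phi hA)⁻¹) * (phi s)⁻¹
      have hcz := commute_t_of_fix (g := hA⁻¹ * (s * hA)) (diff_fix (by
        rw [map_mul, Equiv.Perm.mul_apply]
        exact hfix hl))
      calc phi hA * tg * (phi hA)⁻¹
          = phi hA * (tg * phi (hA⁻¹ * (s * hA))) * (phi (hA⁻¹ * (s * hA)))⁻¹ * (phi hA)⁻¹ := by group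
        _ = phi hA * (phi (hA⁻¹ * (s * hA)) * tg) * (phi (hA⁻¹ * (s * hA)))⁻¹ * (phi hA)⁻¹ := by rw [hcz.eq]
        _ = _ := by rw [map_mul, map_inv, map_mul]; group
  have hmap : (form.map (sym gw i hA (s * h))).prod = phi s * (form.map (sym gw i hA h)).prod * (phi s)⁻¹ := by
    clear hfix hform
    induction form with
    | nil => simp
    | cons a r ih =>
      simp only [List.map_cons, List.prod_cons]
      rw [hu a List.mem_cons_self, ih fun l hl => hu l (List.mem_cons_of_mem a hl)]
      group
  rw [inv1, inv1, hmap, map_mul, map_mul, map_inv, Units.val_mul, Units.val_mul, Matrix.trace_mul_cycle,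
    Units.inv_mul, Matrix.one_mul]

end Cfsg.Lib.HNIndex
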