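import Cfsg.Agent.HNIndex.FactData

/-!
A range of the equations is derived from earlier ones.
-/

set_option autoImplicit false
set_option Elab.async false
set_option maxHeartbeats 4000000

namespace Cfsg.Lib.HNIndex

theorem facts6_ok : rangeOK gWords facts 114 133 = true := by decide +kernel

end Cfsg.Lib.HNIndex
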