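import Cfsg.Agent.HNIndex.Setting

/-!
The generator t next to the subgroup on x, y, z: the point stabiliser of the action on 1408 points centralises t.
-/

set_option autoImplicit false
set_option Elab.async false

namespace Cfsg.Lib.HNIndex

open Cfsg.Lib Cfsg.Lib.HNPres Cfsg.Lib.PermCert Cfsg.Lib.CosetCert

/-- The group. -/
abbrev HNG : Type := Cfsg.Spor.HN

/-- The embedding of the subgroup on x, y, z. -/
def phi : N0 →* HNG := homN0 hn_rels

/-- The generator t. -/
def tg : HNG := hnGen .t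

/-- The generator x. -/
def xg : HNG := hnGen .x

/-- The generator y. -/
def yg : HNG := hnGen .y

/-- The generator z. -/
def zg : HNG := hnGen .z

/-- The five letters and t as the sixth. -/
def im6 : ℕ → HNG
  | 5 => tg
  | l => phi (im0 l)

theorem phi_im0 : phi (im0 0) = xg ∧ phi (im0 1) = xg⁻¹ ∧ phi (im0 2) = yg ∧ phi (im0 3) = yg⁻¹ ∧ phi (im0 4) = zg := by
  obtain ⟨e0, e1, e2⟩ := homN0_of hn_rels
  simp only [im0, letters, phi, map_inv, e0, e1, e2, xg, yg, zg]
  exact ⟨trivial, trivial, trivial, trivial, trivial⟩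

theorem t_rels : tg ^ 5 = 1 ∧ xg⁻¹ * tg * xg * tg ^ 2 = 1 ∧ tg⁻¹ * yg⁻¹ * tg * yg = 1 ∧ (zg * tg) ^ 3 = 1 ∧
    zg ^ 2 = 1 := by
  have hm : ∀ r ∈ Cfsg.Spor.HN.extra, (PresentedGroup.mk hnRels) r = 1 := fun r hr =>
    PresentedGroup.one_of_mem (Or.inr hr)
  simp only [Cfsg.Spor.HN.extra, List.forall_mem_cons, map_mul, map_pow, map_inv] at hm
  obtain ⟨-, -, -, -, -, -, h6, -, -, -, h10, h11, h12, h13, -⟩ := hm
  exact ⟨h10, h11, h12, h13, h6⟩

theorem conj_t : xg⁻¹ * tg * xg = (tg ^ 2)⁻¹ := eq_inv_of_mul_eq_one_left t_rels.2.1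

theorem inv_t : tg⁻¹ = xg⁻¹ * xg⁻¹ * tg * xg * xg := by
  have h5 := t_rels.1
  have h4 : tg⁻¹ = tg ^ 4 := inv_eq_of_mul_eq_one_right (by rw [← pow_succ']; exact h5)
  calc tg⁻¹ = ((tg ^ 2) * (tg ^ 2)) := by rw [h4, ← pow_add]
    _ = (xg⁻¹ * tg * xg)⁻¹ * (xg⁻¹ * tg * xg)⁻¹ := by rw [conj_t, inv_inv]
    _ = xg⁻¹ * (tg ^ 2)⁻¹ * xg := by rw [pow_two]; group
    _ = xg⁻¹ * (xg⁻¹ * tg * xg) * xg := by rw [conj_t]
    _ = xg⁻¹ * xg⁻¹ * tg * xg * xg := by group

theorem comm_y : Commute yg tg := by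
  have h := t_rels.2.2.1
  show yg * tg = tg * yg
  calc yg * tg = yg * tg * (tg⁻¹ * yg⁻¹ * tg * yg) := by rw [h, mul_one]
    _ = tg * yg := by group

theorem comm_conj_y : Commute (xg⁻¹ * yg * xg) tg := by
  have h : Commute (xg⁻¹ * yg * xg) (xg⁻¹ * tg * xg) := by
    show _ = _
    calc xg⁻¹ * yg * xg * (xg⁻¹ * tg * xg) = xg⁻¹ * (yg * tg) * xg := by group
      _ = xg⁻¹ * (tg * yg) * xg := by rw [comm_y.eq]
      _ = _ := by group
  rw [conj_t, Commute.inv_right_iff] at h
  have h3 := h.pow_right 3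
  rwa [← pow_mul, show 2 * 3 = 5 + 1 from rfl, pow_succ, t_rels.1, one_mul] at h3

/-- The four words generating the point stabiliser. -/
def cWords : List (List ℕ) := [[2], [3], [1, 2, 0], [1, 3, 0]]

/-- The point stabiliser as a generated subgroup. -/
def cGrp : Subgroup N0 := Subgroup.closure {g | ∃ w ∈ cWords, val0 w = g}

theorem cFactors_ok : (cFactors.all fun f => f.2.all (fun k => Nat.blt k 4) &&
    sameW f.1 (f.2.flatMap fun k => cWords.getD k [])) = true ∧
    ((chainB.tail.all fun M => M.gens.all fun w => (cFactors.map Prod.fst).contains w) = true) := by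
  decide +kernel

theorem val0_flatMap (l : List ℕ) (f : ℕ → List ℕ) : val0 (l.flatMap f) = (l.map fun k => val0 (f k)).prod := by
  induction l with
  | nil => simp [val0, CosetCert.wval]
  | cons a l ih =>
    rw [List.flatMap_cons, List.map_cons, List.prod_cons, ← ih]
    simp [val0, CosetCert.wval, List.map_append, List.prod_append]

theorem tail_gens : ∀ M ∈ chainB.tail, ∀ w ∈ M.gens, val0 w ∈ cGrp := by
  intro M hM w hw
  obtain ⟨h1, h2⟩ := cFactors_ok
  have hc := List.all_eq_true.1 (List.all_eq_true.1 h2 M hM) w hw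
  rw [List.contains_iff_mem, List.mem_map] at hc
  obtain ⟨f, hf, rfl⟩ := hc
  have h := List.all_eq_true.1 h1 f hf
  rw [Bool.and_eq_true] at h
  rw [eq_of_same h.2, val0_flatMap]
  refine list_prod_mem fun q hq => ?_
  obtain ⟨k, hk, rfl⟩ := List.mem_map.1 hq
  refine Subgroup.subset_closure ⟨_, ?_, rfl⟩
  have hk4 : k < cWords.length := Nat.le_of_ble_eq_true (List.all_eq_true.1 h.1 k hk)
  rw [List.getD_eq_getElem _ _ hk4]
  exact List.getElem_mem hk4

theorem cWords_fix : (cWords.all fun w => okW w && ev w 0 == 0) = true := by decide +kernel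

/-- The point stabiliser. -/
def stab0 : Subgroup N0 := (MulAction.stabilizer (Equiv.Perm (Fin 1408)) (0 : Fin 1408)).comap act

/-- The tests for the point stabiliser. -/
def cTests : List (Lev × (ℕ → Bool)) := chainB.map fun M => (M, fun q => M.b != 0 || q == 0)

theorem cTests_spec : cTests.map Prod.fst = chainB ∧ candSize cTests = 126000 ∧
    chainSize chainB.tail = 126000 :=
  ⟨by simp [cTests, List.map_map, Function.comp_def], by decide +kernel, by decide +kernel⟩

theorem candOK_c : ∀ (l : List Lev) (S : Subgroup N0), S ≤ stab0 →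
    CandOK act S (l.map fun M => (M, fun q => M.b != 0 || q == 0))
  | [], _, _ => trivial
  | M :: l, S, hS => by
    refine ⟨fun p hp s hs => ?_, fun S' hS' _ => candOK_c l S' (hS'.trans hS)⟩
    show (M.b != 0 || ((act s)⁻¹ p : ℕ) == 0) = true
    rcases Nat.eq_zero_or_pos M.b with h | h
    · have hp0 : p = 0 := Fin.ext (hp.trans h)
      have e : (act s)⁻¹ p = p := Equiv.Perm.inv_eq_iff_eq.2 (by rw [hp0]; exact (hS hs).symm)
      rw [e, hp0]
      simp
    · simp [Nat.pos_iff_ne_zero.1 h]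

theorem cGrp_eq : cGrp = stab0 := by
  haveI := card_N0.1
  have hle : cGrp ≤ stab0 := by
    rw [cGrp, Subgroup.closure_le]
    rintro _ ⟨w, hw, rfl⟩
    have h := List.all_eq_true.1 cWords_fix w hw
    rw [Bool.and_eq_true, beq_iff_eq] at h
    have e : (act (val0 w))⁻¹ (0 : Fin 1408) = 0 := Fin.ext ((ev_eq h.1 0).trans h.2)
    exact (Equiv.Perm.inv_eq_iff_eq.1 e).symm
  obtain ⟨h1, h2, h3⟩ := cTests_spec
  refine Subgroup.eq_of_le_of_card_ge hle ?_
  have hup := bound_of_cand cTests stab0 (by rw [h1]; exact chainB_ok.1) (by rw [h1]; exact chainB_ok.2)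
    (candOK_c chainB stab0 le_rfl)
  rw [h2, ← h3] at hup
  refine hup.trans (chain_bound im0 act tabs act_tab _ cGrp ?_ inferInstance tail_gens)
  exact (show chainOK tabs 1408 tabs.length chainB.tail = true by decide +kernel)

theorem commute_t_of_fix {g : N0} (h : act g (0 : Fin 1408) = 0) : Commute (phi g) tg := by
  have hg : g ∈ cGrp := cGrp_eq ▸ h
  obtain ⟨e0, e1, e2, e3, -⟩ := phi_im0
  refine Subgroup.closure_induction (p := fun a _ => Commute (phi a) tg) ?_ ?_ ?_ ?_ hg
  · rintro _ ⟨w, hw, rfl⟩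
    simp only [cWords, List.mem_cons, List.not_mem_nil, or_false] at hw
    rcases hw with rfl | rfl | rfl | rfl
    · simpa [val0, CosetCert.wval, e2] using comm_y
    · simpa [val0, CosetCert.wval, e3] using comm_y
    · simpa [val0, CosetCert.wval, e0, e1, e2, mul_assoc] using comm_conj_y
    · have := comm_conj_y.inv_left
      simpa [val0, CosetCert.wval, e0, e1, e3, mul_inv_rev, mul_assoc] using this
  · rw [map_one]
    exact Commute.one_left _
  · intro a b _ _ ha hb
    rw [map_mul]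
    exact ha.mul_left hb
  · intro a _ ha
    rw [map_inv]
    exact ha.inv_left

theorem commute_t {w : List ℕ} (h : okW w = true) (h0 : ev w 0 = 0) : Commute (phi (val0 w)) tg := by
  refine commute_t_of_fix ?_
  have e : (act (val0 w))⁻¹ (0 : Fin 1408) = 0 := Fin.ext ((ev_eq h 0).trans h0)
  exact (Equiv.Perm.inv_eq_iff_eq.1 e).symm

end Cfsg.Lib.HNIndex
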