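import Cfsg.Agent.HNIndex.Conj
import Cfsg.Agent.Schur.Criteria
import Cfsg.Agent.Schur.UniversalCover

/-!
The Schur multiplier of the presented Harada-Norton group is trivial: the defining relations lift to every stem
extension.
-/

set_option autoImplicit false
set_option Elab.async false

namespace Cfsg.Lib.HNIndex

open Cfsg.Lib Cfsg.Lib.HNPres
open scoped commutatorElement

theorem perfect_of_stem {Γ Q : Type*} [Group Γ] [Group Q] {σ : Γ →* Q} (hσ : Cfsg.IsStemExtension σ)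
    (hQ : commutator Q = ⊤) : commutator Γ = ⊤ := by
  refine eq_top_iff.mpr fun g _ => ?_
  have hg : σ g ∈ (commutator Γ).map σ := by
    rw [commutator_def, Subgroup.map_commutator, Subgroup.map_top_of_surjective σ hσ.1, ← commutator_def, hQ]
    exact Subgroup.mem_top _
  obtain ⟨d, hd, hdg⟩ := hg
  have : d⁻¹ * g ∈ σ.ker := by rw [MonoidHom.mem_ker, map_mul, map_inv, hdg, inv_mul_cancel]
  simpa using (commutator Γ).mul_mem hd (hσ.2.2 this)

theorem stem_K0_trivial {Γ : Type} [Group Γ] [Finite Γ] {σ : Γ →* K0} (hσ : Cfsg.IsStemExtension σ) :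
    σ.ker = ⊥ := by
  haveI := card_N0.1
  obtain ⟨e⟩ := Cfsg.Lib.HSModel.exists_equiv
  obtain ⟨h1, h2, h3⟩ := x_sq_K0
  have hker1 := ker_central act1 act1_surj card_ker1 h1 h2 h3
  have hperf : commutator Γ = ⊤ := perfect_of_stem hσ perfect_K0'
  let τ : Γ →* ↥Cfsg.Spor.HS := (e.symm.toMonoidHom.comp act1).comp σ
  have hkerτ : ∀ a, a ∈ τ.ker ↔ σ a ∈ act1.ker := fun a => by simp [τ]
  have hcen : τ.ker ≤ Subgroup.center Γ := fun a ha => by
    have hz : σ a ∈ Subgroup.center K0 := hker1 ((hkerτ a).1 ha)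
    have hc : ∀ g : Γ, ⁅a, g⁆ ∈ Subgroup.center Γ := fun g => hσ.2.1 (by
      rw [MonoidHom.mem_ker, map_commutatorElement, commutatorElement_eq_one_iff_mul_comm]
      exact (Subgroup.mem_center_iff.1 hz _).symm)
    let f : Γ →* Subgroup.center Γ :=
      { toFun := fun g => ⟨⁅a, g⁆, hc g⟩
        map_one' := Subtype.ext (commutatorElement_one_right a)
        map_mul' := fun g g' => Subtype.ext (by
          show ⁅a, g * g'⁆ = ⁅a, g⁆ * ⁅a, g'⁆
          have h := Subgroup.mem_center_iff.1 (hc g') g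
          calc ⁅a, g * g'⁆ = ⁅a, g⁆ * (g * ⁅a, g'⁆ * g⁻¹) := by simp only [commutatorElement_def]; group
            _ = _ := by rw [h]; group) }
    rw [Subgroup.mem_center_iff]
    intro g
    have hg : g ∈ f.ker := by
      have : commutator Γ ≤ f.ker := by
        rw [commutator_def, Subgroup.commutator_le]
        intro u _ v _
        rw [MonoidHom.mem_ker, map_commutatorElement, commutatorElement_eq_one_iff_mul_comm]
        exact Subtype.ext (Subgroup.mem_center_iff.1 (f v).2 _)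
      exact this (hperf ▸ Subgroup.mem_top g)
    have : ⁅a, g⁆ = 1 := congrArg Subtype.val (MonoidHom.mem_ker.1 hg)
    exact (commutatorElement_eq_one_iff_mul_comm.1 this).symm
  have hτ : Cfsg.IsStemExtension τ :=
    ⟨(e.symm.surjective.comp act1_surj).comp hσ.1, hcen, by rw [hperf]; exact le_top⟩
  obtain ⟨q, hq⟩ := Cfsg.Lib.HSModel.Cov.multiplier_hs.2 Γ τ hτ
  have h2' : Nat.card τ.ker ≤ 2 := (Nat.card_le_card_of_surjective q hq).trans (by simp)
  obtain ⟨a0, ha0⟩ := hσ.1 ⟨n0 0 ^ 2, pow_mem gens_K0.1 2⟩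
  have ha0k : a0 ∈ τ.ker := (hkerτ a0).2 (ha0 ▸ h2)
  rw [eq_bot_iff]
  intro a ha
  rw [Subgroup.mem_bot]
  by_contra hne
  have hak : a ∈ τ.ker := (hkerτ a).2 (by rw [MonoidHom.mem_ker.1 ha]; exact one_mem _)
  have h3' : 2 < Nat.card τ.ker := by
    classical
    haveI := Fintype.ofFinite τ.ker
    rw [Nat.card_eq_fintype_card, Fintype.two_lt_card_iff]
    refine ⟨1, ⟨a, hak⟩, ⟨a0, ha0k⟩, fun h => hne (congrArg Subtype.val h).symm, fun h => h3 ?_, fun h => h3 ?_⟩
    · rw [← ha0, ← (show (1 : Γ) = a0 from congrArg Subtype.val h), map_one]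
    · rw [← ha0, ← (show a = a0 from congrArg Subtype.val h), MonoidHom.mem_ker.1 ha]
  omega

/-- A stem extension of the presented group has a lift of the even part. -/
theorem exists_lift_K0 {Γ : Type} [Group Γ] [Finite Γ] (σ : Γ →* HNG) (hσ : Cfsg.IsStemExtension σ) :
    ∃ s : K0 →* Γ, ∀ k : K0, σ (s k) = phi k.1 := by
  haveI := card_N0.1
  set Δ : Subgroup Γ := (K0.map phi).comap σ with hΔ
  let e0 : K0 ≃* ↥(K0.map phi) := K0.equivMapOfInjective phi phi_injective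
  let π : Δ →* K0 := e0.symm.toMonoidHom.comp ((σ.comp Δ.subtype).codRestrict (K0.map phi) fun a => a.2)
  have hπσ : ∀ a : Δ, phi (π a).1 = σ a.1 := fun a => by
    have h := e0.apply_symm_apply ⟨σ a.1, a.2⟩
    exact congrArg Subtype.val h
  have hπs : Function.Surjective π := fun k => by
    obtain ⟨a, ha⟩ := hσ.1 (phi k.1)
    have hmem : a ∈ Δ := by
      show σ a ∈ K0.map phi
      rw [ha]
      exact Subgroup.mem_map.2 ⟨k.1, k.2, rfl⟩
    exact ⟨⟨a, hmem⟩, Subtype.ext (phi_injective ((hπσ _).trans ha))⟩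
  have hπc : π.ker ≤ Subgroup.center Δ := fun a ha => by
    rw [Subgroup.mem_center_iff]
    intro b
    refine Subtype.ext (Subgroup.mem_center_iff.1 (hσ.2.1 ?_) b.1)
    rw [MonoidHom.mem_ker, ← hπσ, MonoidHom.mem_ker.1 ha]
    exact map_one phi
  set D : Subgroup Δ := commutator Δ with hD
  have hDs : D.map π = ⊤ := by
    rw [hD, commutator_def, Subgroup.map_commutator, Subgroup.map_top_of_surjective π hπs, ← commutator_def,
      perfect_K0']
  have hdec : ∀ d : Δ, ∃ e ∈ D, ∃ z ∈ π.ker, d = e * z := fun d => by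
    obtain ⟨e, he, hed⟩ := (hDs ▸ Subgroup.mem_top (π d) : π d ∈ D.map π)
    exact ⟨e, he, e⁻¹ * d, by rw [MonoidHom.mem_ker, map_mul, map_inv, hed, inv_mul_cancel],
      (mul_inv_cancel_left e d).symm⟩
  have hperfD : commutator D = ⊤ := by
    have h1 : D ≤ ⁅D, D⁆ := Cfsg.Lib.Schur.commutator_eq_of_central hπc hdec
    apply Subgroup.map_injective D.subtype_injective
    rw [Subgroup.map_subtype_commutator, ← MonoidHom.range_eq_map, Subgroup.range_subtype]
    exact le_antisymm (Subgroup.commutator_le_self _) h1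
  let τ : D →* K0 := π.comp D.subtype
  have hτs : Function.Surjective τ := fun k => by
    obtain ⟨e, he, hek⟩ := (hDs ▸ Subgroup.mem_top k : k ∈ D.map π)
    exact ⟨⟨e, he⟩, hek⟩
  have hτ : Cfsg.IsStemExtension τ := by
    refine ⟨hτs, fun a ha => ?_, by rw [hperfD]; exact le_top⟩
    rw [Subgroup.mem_center_iff]
    intro b
    exact Subtype.ext (Subgroup.mem_center_iff.1 (hπc ha) b.1)
  have hinj : Function.Injective τ := (MonoidHom.ker_eq_bot_iff τ).1 (stem_K0_trivial hτ)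
  let s : K0 →* Γ := (Δ.subtype.comp D.subtype).comp (MulEquiv.ofBijective τ ⟨hinj, hτs⟩).symm.toMonoidHom
  refine ⟨s, fun k => ?_⟩
  have h := (MulEquiv.ofBijective τ ⟨hinj, hτs⟩).apply_symm_apply k
  show σ (_ : Δ).1 = _
  rw [← hπσ]
  exact congrArg (fun q : K0 => phi q.1) h

theorem stem_ker_bot {Γ : Type} [Group Γ] (σ : Γ →* HNG) (hσ : Cfsg.IsStemExtension σ)
    (f : Cfsg.Spor.HN.Gen → Γ) (h : ∀ r ∈ Cfsg.Spor.HN.extra, FreeGroup.lift f r = 1)
    (hf : ∀ q, σ (f q) = hnGen q) : σ.ker = ⊥ := by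
  have hr : ∀ r ∈ hnRels, FreeGroup.lift f r = 1 := by
    rintro r (⟨a, ha, -⟩ | hr)
    · simp [Cfsg.Spor.coxNodes, Cfsg.Spor.HN.edges] at ha
    · exact h r hr
  let F : HNG →* Γ := PresentedGroup.toGroup hr
  have hF : ∀ g, σ (F g) = g := fun g => by
    have e : σ.comp F = MonoidHom.id HNG := PresentedGroup.ext fun q => by
      show σ (F (PresentedGroup.of q)) = PresentedGroup.of q
      rw [show F (PresentedGroup.of q) = f q from PresentedGroup.toGroup.of hr]
      exact hf q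
    exact DFunLike.congr_fun e g
  have htop : F.range = ⊤ := by
    rw [eq_top_iff, ← perfect_of_stem hσ perfect, commutator_def, Subgroup.commutator_le]
    intro a _ b _
    have ha : (F (σ a))⁻¹ * a ∈ Subgroup.center Γ :=
      hσ.2.1 (by rw [MonoidHom.mem_ker, map_mul, map_inv, hF, inv_mul_cancel])
    have hb : (F (σ b))⁻¹ * b ∈ Subgroup.center Γ :=
      hσ.2.1 (by rw [MonoidHom.mem_ker, map_mul, map_inv, hF, inv_mul_cancel])
    set p := F (σ a) with hp
    set q := F (σ b) with hq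
    have e : ⁅a, b⁆ = ⁅p, q⁆ := by
      have e1 : ⁅a, b⁆ = ⁅p * (p⁻¹ * a), q * (q⁻¹ * b)⁆ := by rw [mul_inv_cancel_left, mul_inv_cancel_left]
      rw [e1]
      set u := p⁻¹ * a
      set v := q⁻¹ * b
      have hu := Subgroup.mem_center_iff.1 ha
      have hv := Subgroup.mem_center_iff.1 hb
      rw [commutatorElement_def, commutatorElement_def]
      calc p * u * (q * v) * (p * u)⁻¹ * (q * v)⁻¹ = p * (u * (q * v * u⁻¹)) * p⁻¹ * (v⁻¹ * q⁻¹) := by group
        _ = p * ((q * v * u⁻¹) * u) * p⁻¹ * (v⁻¹ * q⁻¹) := by rw [← hu (q * v * u⁻¹)]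
        _ = p * q * (v * (p⁻¹ * v⁻¹)) * q⁻¹ := by group
        _ = p * q * ((p⁻¹ * v⁻¹) * v) * q⁻¹ := by rw [← hv (p⁻¹ * v⁻¹)]
        _ = _ := by group
    rw [e, hp, hq, ← map_commutatorElement]
    exact ⟨_, rfl⟩
  rw [eq_bot_iff]
  intro a ha
  obtain ⟨g, rfl⟩ : a ∈ F.range := htop ▸ Subgroup.mem_top a
  rw [MonoidHom.mem_ker, hF] at ha
  rw [Subgroup.mem_bot, ha, map_one]

theorem conj_central {Γ : Type*} [Group Γ] {a c : Γ} (hc : c ∈ Subgroup.center Γ) : a * c * a⁻¹ = c := by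
  rw [Subgroup.mem_center_iff.1 hc a]
  group

theorem multiplier_trivial {Γ : Type} [Group Γ] [Finite Γ] (σ : Γ →* HNG) (hσ : Cfsg.IsStemExtension σ) :
    σ.ker = ⊥ := by
  obtain ⟨s, hs⟩ := exists_lift_K0 σ hσ
  have hcen : ∀ {c : Γ}, σ c = 1 → c ∈ Subgroup.center Γ := fun h => hσ.2.1 h
  have hcomm : ∀ {c : Γ}, σ c = 1 → ∀ g, g * c = c * g := fun h g => Subgroup.mem_center_iff.1 (hcen h) g
  obtain ⟨e0, e1, e2⟩ := homN0_of hn_rels
  set kx : K0 := ⟨n0 0, gens_K0.1⟩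
  set ky : K0 := ⟨n0 1, gens_K0.2.1⟩
  set X := s kx with hX
  set Y := s ky with hY
  have σX : σ X = xg := (hs kx).trans e0
  have σY : σ Y = yg := (hs ky).trans e1
  -- the lift of z
  obtain ⟨g, v, hv, hgv⟩ := z_conj
  obtain ⟨gl, hgl⟩ := hσ.1 g
  have hz2' : zg * zg = 1 := by rw [← pow_two]; exact t_rels.2.2.2.2
  have hv2 : (⟨v, hv⟩ : K0) * ⟨v, hv⟩ = 1 := Subtype.ext (phi_injective (by
    show phi (v * v) = phi 1
    rw [map_mul, map_one]
    calc phi v * phi v = phi v * g * (g⁻¹ * (phi v * g)) * g⁻¹ := by group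
      _ = g * (zg * zg) * g⁻¹ := by rw [← hgv]; group
      _ = 1 := by rw [hz2']; group))
  set Z0 := gl⁻¹ * s ⟨v, hv⟩ * gl with hZ0
  have σZ0 : σ Z0 = zg := by
    rw [hZ0, map_mul, map_mul, map_inv, hgl, hs, mul_assoc, ← hgv]
    group
  have hZ0sq : Z0 * Z0 = 1 := by
    calc Z0 * Z0 = gl⁻¹ * (s ⟨v, hv⟩ * s ⟨v, hv⟩) * gl := by rw [hZ0]; group
      _ = 1 := by rw [← map_mul, hv2, map_one]; group
  -- conjugation by lifts of z preserves the lift of the even part
  haveI : K0.Normal := MonoidHom.normal_ker _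
  have hzconj : ∀ k : K0, n0 2 * k.1 * (n0 2)⁻¹ ∈ K0 := fun k => Subgroup.Normal.conj_mem ‹_› _ k.2 _
  let θ : K0 →* K0 :=
    { toFun := fun k => ⟨n0 2 * k.1 * (n0 2)⁻¹, hzconj k⟩
      map_one' := Subtype.ext (by show n0 2 * 1 * (n0 2)⁻¹ = 1; group)
      map_mul' := fun a b => Subtype.ext (by
        show n0 2 * (a.1 * b.1) * (n0 2)⁻¹ = n0 2 * a.1 * (n0 2)⁻¹ * (n0 2 * b.1 * (n0 2)⁻¹)
        group) }
  have huniq : ∀ f₁ f₂ : K0 →* Γ, (∀ k, σ (f₁ k) = σ (f₂ k)) → f₁ = f₂ := by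
    intro f₁ f₂ h
    let d : K0 →* Γ :=
      { toFun := fun k => f₁ k * (f₂ k)⁻¹
        map_one' := by simp
        map_mul' := fun a b => by
          have hb : σ (f₁ b * (f₂ b)⁻¹) = 1 := by rw [map_mul, map_inv, h, mul_inv_cancel]
          calc f₁ (a * b) * (f₂ (a * b))⁻¹ = f₁ a * (f₁ b * (f₂ b)⁻¹) * (f₂ a)⁻¹ := by
                rw [map_mul, map_mul]; group
            _ = f₁ a * ((f₂ a)⁻¹ * (f₁ b * (f₂ b)⁻¹)) := by rw [hcomm hb (f₂ a)⁻¹]; group
            _ = _ := by group }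
    have hd : ∀ k : K0, d k = 1 := by
      intro k
      have : commutator K0 ≤ d.ker := by
        rw [commutator_def, Subgroup.commutator_le]
        intro a _ b _
        rw [MonoidHom.mem_ker, map_commutatorElement, commutatorElement_eq_one_iff_mul_comm]
        refine hcomm ?_ _
        show σ (f₁ b * (f₂ b)⁻¹) = 1
        rw [map_mul, map_inv, h, mul_inv_cancel]
      exact MonoidHom.mem_ker.1 (this (perfect_K0' ▸ Subgroup.mem_top k))
    ext k
    exact mul_inv_eq_one.1 (hd k)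
  have hθ : ∀ (Z : Γ), σ Z = zg → ∀ k : K0, Z * s k * Z⁻¹ = s (θ k) := fun Z hZ k => by
    have h := huniq ((MulAut.conj Z).toMonoidHom.comp s) (s.comp θ) fun k => by
      show σ (Z * s k * Z⁻¹) = σ (s (θ k))
      rw [map_mul, map_mul, map_inv, hZ, hs, hs]
      show zg * phi k.1 * zg⁻¹ = phi (n0 2 * k.1 * (n0 2)⁻¹)
      rw [map_mul, map_mul, map_inv, show phi (n0 2) = zg from e2]
    exact DFunLike.congr_fun h k
  -- the lift of t
  obtain ⟨T0, hT0⟩ := hσ.1 tg
  have hxt : xg⁻¹ * tg * xg = (tg ^ 2)⁻¹ := conj_t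
  set c := tg with hcdef
  set ε := X⁻¹ * T0 * X * T0 ^ 2 with hε
  have σε : σ ε = 1 := by
    rw [hε, map_mul, map_mul, map_mul, map_inv, map_pow, σX, hT0]
    exact t_rels.2.1
  have cε := hcomm σε
  set D := X⁻¹ * T0 * X * T0⁻¹ with hD
  have hTx : X⁻¹ * T0 * X = ε * (T0 ^ 2)⁻¹ := by rw [hε]; group
  have hDeq : D = ε * (T0 ^ 3)⁻¹ := by
    rw [hD, hTx]; group
  have hDx : X⁻¹ * D * X = (D ^ 2)⁻¹ := by
    have cT : Commute ε T0 := (cε T0).symm
    have h1 : X⁻¹ * D * X = ε * ((X⁻¹ * T0 * X) ^ 3)⁻¹ := by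
      rw [hDeq]
      calc X⁻¹ * (ε * (T0 ^ 3)⁻¹) * X = (X⁻¹ * ε) * ((T0 ^ 3)⁻¹ * X) := by group
        _ = ε * (X⁻¹ * (T0 ^ 3)⁻¹ * X) := by rw [cε]; group
        _ = _ := by simp only [pow_succ, pow_zero, one_mul]; group
    rw [h1, hTx, hDeq, (cT.pow_right 2).inv_right.mul_pow, (cT.pow_right 3).inv_right.mul_pow, mul_inv_rev,
      mul_inv_rev, inv_pow (T0 ^ 2), inv_inv, inv_pow (T0 ^ 3), inv_inv, ← pow_mul, ← pow_mul]
    calc ε * (T0 ^ (2 * 3) * (ε ^ 3)⁻¹) = T0 ^ (2 * 3) * (ε ^ 3)⁻¹ * ε := (cε _).symm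
      _ = _ := by rw [show (2 * 3) = 6 from rfl, pow_succ ε 2]; group
  set T := D ^ 3 with hT
  have hTx' : X⁻¹ * T * X = (T ^ 2)⁻¹ := by
    have : X⁻¹ * D ^ 3 * X = (X⁻¹ * D * X) ^ 3 := by rw [pow_succ, pow_two, pow_succ, pow_two]; group
    rw [hT, this, hDx, inv_pow, ← pow_mul, ← pow_mul, Nat.mul_comm]
  have σT : σ T = tg := by
    rw [hT, map_pow, hDeq, map_mul, map_inv, map_pow, σε, one_mul, hT0, ← inv_pow, ← pow_mul]
    have h5 := t_rels.1
    have : tg⁻¹ ^ (3 * 3) = tg⁻¹ ^ 4 := by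
      rw [show 3 * 3 = 5 + 4 from rfl, pow_add, inv_pow tg 5, h5, inv_one, one_mul]
    rw [this, inv_pow]
    exact inv_eq_of_mul_eq_one_right (by rw [← pow_succ]; exact h5)
  set c5 := T ^ 5 with hc5
  have σc5 : σ c5 = 1 := by rw [hc5, map_pow, σT]; exact t_rels.1
  have c5c := hcomm σc5
  have hc53 : c5 ^ 3 = 1 := by
    have h : X⁻¹ * T ^ 5 * X = (X⁻¹ * T * X) ^ 5 := by
      simp only [pow_succ, pow_zero, one_mul]; group
    rw [hTx', ← hc5, c5c, inv_mul_cancel_right, inv_pow, ← pow_mul, Nat.mul_comm, pow_mul, ← hc5,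
      eq_inv_iff_mul_eq_one, ← pow_succ'] at h
    exact h
  -- correct the order of t
  set T' := c5 * T with hT'
  have cT5 : Commute c5 T := (c5c T).symm
  have hT'5 : T' ^ 5 = 1 := by
    rw [hT', cT5.mul_pow, ← hc5, ← pow_succ, show 5 + 1 = 3 * 2 from rfl, pow_mul, hc53, one_pow]
  have hT'x : X⁻¹ * T' * X = (T' ^ 2)⁻¹ := by
    rw [hT', cT5.mul_pow]
    calc X⁻¹ * (c5 * T) * X = (X⁻¹ * c5) * (T * X) := by group
      _ = c5 * (X⁻¹ * T * X) := by rw [c5c]; group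
      _ = c5 * (T ^ 2)⁻¹ := by rw [hTx']
      _ = (T ^ 2)⁻¹ * c5 := (c5c _).symm
      _ = (c5 ^ 2 * T ^ 2)⁻¹ := by
        rw [mul_inv_rev]
        congr 1
        exact eq_inv_of_mul_eq_one_left (by rw [← pow_succ']; exact hc53)
  have σT' : σ T' = tg := by rw [hT', map_mul, σc5, σT, one_mul]
  -- the square of x inverts t and commutes with z
  have hxxt : X⁻¹ * X⁻¹ * T' * X * X = T'⁻¹ := by
    calc X⁻¹ * X⁻¹ * T' * X * X = X⁻¹ * (X⁻¹ * T' * X) * X := by group
      _ = X⁻¹ * (T' ^ 2)⁻¹ * X := by rw [hT'x]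
      _ = ((X⁻¹ * T' * X) * (X⁻¹ * T' * X))⁻¹ := by rw [pow_two]; group
      _ = T' ^ 2 * T' ^ 2 := by rw [hT'x]; group
      _ = T'⁻¹ := by
        rw [← pow_add]
        exact eq_inv_of_mul_eq_one_left (by rw [← pow_succ]; exact hT'5)
  have hXXZ : ∀ Z, σ Z = zg → X * X * Z = Z * (X * X) := fun Z hZ => by
    have h := hθ Z hZ (kx * kx)
    have e : θ (kx * kx) = kx * kx := Subtype.ext (by
      show n0 2 * (n0 0 * n0 0) * (n0 2)⁻¹ = n0 0 * n0 0
      have hc := zc_central (n0 2)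
      rw [show val0 [0, 0] = n0 0 * n0 0 from congrArg (n0 0 * ·) (mul_one _)] at hc
      rw [← hc.eq]; group)
    rw [e, map_mul, ← hX] at h
    calc X * X * Z = Z * (X * X) * Z⁻¹ * Z := by rw [h]
      _ = _ := by group
  set c4 := (Z0 * T') ^ 3 with hc4
  have σc4 : σ c4 = 1 := by rw [hc4, map_pow, map_mul, σZ0, σT']; exact t_rels.2.2.2.1
  have c4c := hcomm σc4
  have hc42 : c4 ^ 2 = 1 := by
    have hZi : Z0⁻¹ = Z0 := inv_eq_of_mul_eq_one_left hZ0sq
    have h1 : (X * X)⁻¹ * (Z0 * T') * (X * X) = Z0 * T'⁻¹ := by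
      calc (X * X)⁻¹ * (Z0 * T') * (X * X) = (X * X)⁻¹ * Z0 * (X * X) * (X⁻¹ * X⁻¹ * T' * X * X) := by group
        _ = (X * X)⁻¹ * (Z0 * (X * X)) * T'⁻¹ := by rw [hxxt]; group
        _ = _ := by rw [← hXXZ Z0 σZ0]; group
    have h2 : (Z0 * T'⁻¹) ^ 3 = c4 := by
      rw [← h1]
      calc ((X * X)⁻¹ * (Z0 * T') * (X * X)) ^ 3 = (X * X)⁻¹ * c4 * (X * X) := by
            rw [hc4]; simp only [pow_succ, pow_zero, one_mul]; group
        _ = _ := by rw [c4c]; group
    have h3 : (Z0 * T'⁻¹) ^ 3 = c4⁻¹ := by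
      have e : Z0 * T'⁻¹ = Z0 * (Z0 * T')⁻¹ * Z0⁻¹ := by
        rw [mul_inv_rev Z0 T', hZi]
        calc Z0 * T'⁻¹ = Z0 * T'⁻¹ * (Z0 * Z0) := by rw [hZ0sq, mul_one]
          _ = _ := by group
      rw [e]
      calc (Z0 * (Z0 * T')⁻¹ * Z0⁻¹) ^ 3 = Z0 * ((Z0 * T') ^ 3)⁻¹ * Z0⁻¹ := by
            simp only [pow_succ, pow_zero, one_mul]; group
        _ = _ := by
          rw [← hc4, hcomm (show σ c4⁻¹ = 1 by rw [map_inv, σc4, inv_one])]
          group
    rw [pow_two]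
    exact mul_eq_one_iff_eq_inv.2 (h2.symm.trans h3)
  -- correct the lift of z
  set Z := c4 * Z0 with hZ
  have σZ : σ Z = zg := by rw [hZ, map_mul, σc4, σZ0, one_mul]
  have cZ0 : Commute c4 Z0 := (c4c Z0).symm
  have hZsq : Z ^ 2 = 1 := by
    rw [hZ, cZ0.mul_pow, hc42, pow_two, hZ0sq, mul_one]
  have hZT : (Z * T') ^ 3 = 1 := by
    rw [hZ, mul_assoc, Commute.mul_pow (show Commute c4 (Z0 * T') from (c4c (Z0 * T')).symm), ← hc4, ← pow_succ,
      show 3 + 1 = 2 * 2 from rfl, pow_mul, hc42, one_pow]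
  -- the lift of y centralises the lift of t
  have hY6 : Y ^ 6 = 1 := by
    rw [hY, ← map_pow]
    have e : ky ^ 6 = 1 := by
      refine Subtype.ext (phi_injective ?_)
      show phi ((n0 1) ^ 6) = phi 1
      have := n0_rels [2, 2, 2, 2, 2, 2] (by decide)
      simp only [CosetNames.wval, List.map_cons, List.map_nil, List.prod_cons, List.prod_nil, letters, mul_one] at this
      rw [show (n0 1) ^ 6 = 1 by simpa [pow_succ, mul_assoc] using this]
    rw [e, map_one]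
  have hyT : T'⁻¹ * Y⁻¹ * T' * Y = 1 := by
    set c3 := Y * T' * Y⁻¹ * T'⁻¹ with hc3
    have σc3 : σ c3 = 1 := by
      rw [hc3, map_mul, map_mul, map_mul, map_inv, map_inv, σY, σT', comm_y.eq]
      group
    have c3c := hcomm σc3
    have hYT : Y * T' * Y⁻¹ = c3 * T' := by rw [hc3]; group
    have cT : Commute c3 T' := (c3c T').symm
    have h5 : c3 ^ 5 = 1 := by
      have h : (Y * T' * Y⁻¹) ^ 5 = Y * T' ^ 5 * Y⁻¹ := by simp only [pow_succ, pow_zero, one_mul]; group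
      rw [hYT, cT.mul_pow, hT'5, mul_one] at h
      rw [h]
      group
    have hk : ∀ k : ℕ, Y ^ k * T' * (Y ^ k)⁻¹ = c3 ^ k * T' := by
      intro k
      induction k with
      | zero => simp
      | succ k ih =>
        calc Y ^ (k + 1) * T' * (Y ^ (k + 1))⁻¹ = Y * (Y ^ k * T' * (Y ^ k)⁻¹) * Y⁻¹ := by
              rw [pow_succ']; group
          _ = (Y * c3 ^ k) * (T' * Y⁻¹) := by rw [ih]; group
          _ = c3 ^ k * (Y * T' * Y⁻¹) := by
              rw [hcomm (by rw [map_pow, σc3, one_pow] : σ (c3 ^ k) = 1) Y]; group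
          _ = c3 ^ (k + 1) * T' := by rw [hYT, ← mul_assoc, ← pow_succ]
    have h6 : c3 ^ 6 = 1 := by
      have h := hk 6
      rw [hY6, one_mul, inv_one, mul_one] at h
      exact mul_right_cancel (h.symm.trans (one_mul T').symm)
    have h1 : c3 = 1 := by rwa [pow_succ, h5, one_mul] at h6
    rw [h1, one_mul] at hYT
    calc T'⁻¹ * Y⁻¹ * T' * Y = T'⁻¹ * Y⁻¹ * (Y * T' * Y⁻¹) * Y := by rw [hYT]
      _ = 1 := by group
  -- the relators
  let f : Cfsg.Spor.HN.Gen → Γ := fun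
    | .x => X
    | .y => Y
    | .z => Z
    | .t => T'
  have hK0rel : ∀ (k : K0), phi k.1 = 1 → s k = 1 := fun k hk => by
    rw [show k = 1 from Subtype.ext (phi_injective (hk.trans (map_one phi).symm)), map_one]
  have hconjs : ∀ k : K0, Z * s k * Z⁻¹ = s (θ k) := hθ Z σZ
  have hZi : Z⁻¹ = Z := inv_eq_of_mul_eq_one_left (by rw [← pow_two]; exact hZsq)
  have hrels : ∀ r ∈ Cfsg.Spor.HN.extra, FreeGroup.lift f r = 1 := by
    have key : ∀ (w : FreeGroup Cfsg.Spor.HN.Gen) (k : K0), w ∈ Cfsg.Spor.HN.extra →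
        FreeGroup.lift f w = s k → FreeGroup.lift f w = 1 := by
      intro w k hw hwk
      rw [hwk]
      refine hK0rel k ?_
      rw [← hs, ← hwk]
      have : (σ.comp (FreeGroup.lift f)) = PresentedGroup.mk hnRels := FreeGroup.ext_hom _ _ fun q => by
        cases q
        · show σ (FreeGroup.lift f (FreeGroup.of _)) = _
          rw [FreeGroup.lift_apply_of]
          exact σX
        · show σ (FreeGroup.lift f (FreeGroup.of _)) = _
          rw [FreeGroup.lift_apply_of]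
          exact σY
        · show σ (FreeGroup.lift f (FreeGroup.of _)) = _
          rw [FreeGroup.lift_apply_of]
          exact σZ
        · show σ (FreeGroup.lift f (FreeGroup.of _)) = _
          rw [FreeGroup.lift_apply_of]
          exact σT'
      rw [show σ (FreeGroup.lift f w) = PresentedGroup.mk hnRels w from DFunLike.congr_fun this w]
      exact PresentedGroup.one_of_mem (Or.inr hw)
    intro r hr
    simp only [Cfsg.Spor.HN.extra, List.mem_cons, List.not_mem_nil, or_false] at hr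
    have hm : ∀ r, r ∈ Cfsg.Spor.HN.extra → r ∈ Cfsg.Spor.HN.extra := fun r h => h
    rcases hr with rfl | rfl | rfl | rfl | rfl | rfl | rfl | rfl | rfl | rfl | rfl | rfl | rfl | rfl
    · exact key _ (ky ^ 6) (by simp [Cfsg.Spor.HN.extra]) (by simp [f, hX, hY])
    · exact key _ (kx ^ 2 * ky * kx ^ 2 * ky⁻¹) (by simp [Cfsg.Spor.HN.extra]) (by simp [f, hX, hY])
    · exact key _ ((kx⁻¹ * ky⁻¹ * kx * ky) ^ 3) (by simp [Cfsg.Spor.HN.extra]) (by simp [f, hX, hY])
    · exact key _ ((kx⁻¹ * ky ^ 2 * kx * ky ^ 3) ^ 3) (by simp [Cfsg.Spor.HN.extra]) (by simp [f, hX, hY])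
    · exact key _ ((kx * ky) ^ 8) (by simp [Cfsg.Spor.HN.extra]) (by simp [f, hX, hY])
    · exact key _ ((kx * ky * kx * ky ^ 3) ^ 4) (by simp [Cfsg.Spor.HN.extra]) (by simp [f, hX, hY])
    · simpa [f] using hZsq
    · refine key _ (θ kx * kx) (by simp [Cfsg.Spor.HN.extra]) ?_
      simp only [map_pow, map_mul, FreeGroup.lift_apply_of, f, ← hconjs, ← hX, pow_two, hZi]
      group
    · set u : K0 := ky * kx * ky * kx * ky ^ 2 * kx * ky⁻¹ with hu
      refine key _ (θ u⁻¹ * u * (kx ^ 2)⁻¹) (by simp [Cfsg.Spor.HN.extra]) ?_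
      rw [map_mul s, map_mul s, ← hconjs u⁻¹]
      simp only [map_pow, map_mul, map_inv, FreeGroup.lift_apply_of, f, ← hX, hu, ← hY, hZi]
    · set w : K0 := ky ^ 3 * kx * ky * kx * ky with hw
      refine key _ (θ w⁻¹ * (w * kx * w⁻¹) * θ (w * kx * w⁻¹) * (w * kx)) (by simp [Cfsg.Spor.HN.extra]) ?_
      rw [map_mul s, map_mul s, map_mul s, ← hconjs w⁻¹, ← hconjs (w * kx * w⁻¹)]
      simp only [map_pow, map_mul, map_inv, FreeGroup.lift_apply_of, f, ← hX, hw, ← hY, hZi]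
      simp only [pow_succ, pow_zero, one_mul]
      group
    · simpa [f] using hT'5
    · simp only [map_mul, map_inv, map_pow, FreeGroup.lift_apply_of, f, hT'x, inv_mul_cancel]
    · simpa [f] using hyT
    · simpa [f] using hZT
  exact stem_ker_bot σ hσ f hrels (fun q => by cases q <;> first | exact σX | exact σY | exact σZ | exact σT')

/-- The multiplier of the presented Harada-Norton group is trivial. -/
theorem multiplier : Cfsg.HasCyclicSchurMultiplier Cfsg.Spor.HN 1 := by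
  haveI : Finite Cfsg.Spor.HN := Nat.finite_of_card_ne_zero (by rw [isHN.2]; norm_num)
  exact Cfsg.Lib.Schur.hasCyclicSchurMultiplier_one_of fun Γ _ _ σ hσ => multiplier_trivial σ hσ

end Cfsg.Lib.HNIndex
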