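import Cfsg.Agent.HNIndex.Tight
import Cfsg.Agent.HNIndex.Tabs
import Cfsg.Agent.HNPres.Main

/-!
The subgroup on x, y, z of the presented Harada-Norton group acting on 1408 points: its order, equality of words by
images of four base points, and the point stabiliser, which centralises t.
-/

set_option autoImplicit false
set_option Elab.async false

namespace Cfsg.Lib.HNIndex

open Cfsg.Lib Cfsg.Lib.HNPres Cfsg.Lib.PermCert Cfsg.Lib.CosetCert

/-- The permutations of the three generators. -/
def perm3 : ℕ → Equiv.Perm (Fin 1408)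
  | 0 => perm 1408 (tabs.getD 0 (0, 0))
  | 2 => perm 1408 (tabs.getD 2 (0, 0))
  | _ => perm 1408 (tabs.getD 4 (0, 0))

theorem tabs_valid : tabs.all (valid 1408) = true := by decide +kernel

theorem tabs_inv : tabs.getD 1 (0, 0) = pinv (tabs.getD 0 (0, 0)) ∧ tabs.getD 3 (0, 0) = pinv (tabs.getD 2 (0, 0)) := by
  constructor <;> decide +kernel

theorem rels_eval : (baseZ.all fun r => r.all (fun a => decide (a < 5)) &&
    (List.range 1408).all fun i => evalW tabs r i == i) = true := by decide +kernel

theorem letters_of (T : List PP) (hv : ∀ l < 5, valid 1408 (T.getD l (0, 0)) = true)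
    (h1 : T.getD 1 (0, 0) = pinv (T.getD 0 (0, 0))) (h3 : T.getD 3 (0, 0) = pinv (T.getD 2 (0, 0))) :
    ∀ l < 5, letters (perm 1408 (T.getD 0 (0, 0))) (perm 1408 (T.getD 2 (0, 0))) (perm 1408 (T.getD 4 (0, 0))) l =
      perm 1408 (T.getD l (0, 0)) := fun l hl => by
  match l, hl with
  | 0, _ => simp only [letters]
  | 1, _ => rw [h1, perm_pinv (hv 0 (by norm_num))]; simp only [letters]
  | 2, _ => simp only [letters]
  | 3, _ => rw [h3, perm_pinv (hv 2 (by norm_num))]; simp only [letters]
  | 4, _ => simp only [letters]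
  | (k + 5), h => omega

theorem tabs_length : tabs.length = 5 := by decide +kernel

theorem letters_tab : ∀ l < tabs.length, valid 1408 (tabs.getD l (0, 0)) = true ∧
    (MonoidHom.id (Equiv.Perm (Fin 1408))) (letters (perm3 0) (perm3 2) (perm3 4) l) =
      perm 1408 (tabs.getD l (0, 0)) := fun l hl => by
  have hv : ∀ k < tabs.length, valid 1408 (tabs.getD k (0, 0)) = true := fun k hk => by
    rw [List.getD_eq_getElem _ _ hk]
    exact List.all_eq_true.1 tabs_valid _ (List.getElem_mem hk)
  exact ⟨hv l hl, letters_of tabs (fun k hk => hv k (tabs_length.symm ▸ hk)) tabs_inv.1 tabs_inv.2 l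
    (tabs_length ▸ hl)⟩

theorem perm_rels : ∀ r ∈ baseZ, CosetNames.wval (letters (perm3 0) (perm3 2) (perm3 4)) r = 1 := by
  intro r hr
  have h := List.all_eq_true.1 rels_eval r hr
  simp only [Bool.and_eq_true, List.all_eq_true, decide_eq_true_eq, beq_iff_eq, List.mem_range] at h
  refine inv_eq_one.1 (Equiv.ext fun i => Fin.ext ?_)
  have e := evalW_apply (letters (perm3 0) (perm3 2) (perm3 4)) (MonoidHom.id _) tabs letters_tab r h.1 i
  exact e.trans (h.2 i.val i.isLt)

/-- The action on 1408 points. -/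
def act : N0 →* Equiv.Perm (Fin 1408) := homN0 perm_rels

/-- The five letters in the group on x, y, z. -/
def im0 : ℕ → N0 := letters (n0 0) (n0 1) (n0 2)

/-- The value of a word. -/
def val0 (w : List ℕ) : N0 := CosetCert.wval im0 w

theorem act_tab : ∀ l < tabs.length, valid 1408 (tabs.getD l (0, 0)) = true ∧
    act (im0 l) = perm 1408 (tabs.getD l (0, 0)) := fun l hl => by
  refine ⟨(letters_tab l hl).1, ?_⟩
  obtain ⟨e0, e1, e2⟩ := homN0_of perm_rels
  rw [im0, map_letters, show act = homN0 perm_rels from rfl, e0, e1, e2]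
  exact (letters_tab l hl).2

/-- All letters are below five. -/
def okW (w : List ℕ) : Bool := w.all fun l => Nat.blt l 5

theorem okW_lt {w : List ℕ} (h : okW w = true) : ∀ l ∈ w, l < tabs.length := fun l hl =>
  Nat.le_of_ble_eq_true (List.all_eq_true.1 h l hl)

/-- The image of a point, read from the left. -/
def ev (w : List ℕ) (x : ℕ) : ℕ := evalW tabs w x

theorem ev_eq {w : List ℕ} (h : okW w = true) (p : Fin 1408) : ((act (val0 w))⁻¹ p : ℕ) = ev w p :=
  evalW_apply im0 act tabs act_tab w (okW_lt h) p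

theorem card_N0_eq : Nat.card N0 = 177408000 := by
  haveI := card_N0.1
  obtain ⟨hc, ⟨q⟩, -⟩ := cover_K0
  have h1 : Nat.card K0 = 88704000 := by
    rw [← Subgroup.card_mul_index (Subgroup.center K0), hc, Subgroup.index_eq_card, Nat.card_congr q.toEquiv,
      show Nat.card ↥Cfsg.Spor.HS = 44352000 from Cfsg.Lib.HSModel.exists_equiv.elim fun e => (Nat.card_congr e.toEquiv).trans Cfsg.Lib.HSModel.card_grp]
  have h2 : K0.index = 2 := by
    rw [K0, Subgroup.index_ker]
    have hsur : par0.range = ⊤ := by
      rw [eq_top_iff]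
      intro u _
      rcases Int.units_eq_one_or u with rfl | rfl
      · exact one_mem _
      · refine ⟨n0 2, ?_⟩
        rcases Int.units_eq_one_or (par0 (n0 2)) with h | h
        · exact absurd h gens_K0.2.2
        · exact h
    rw [hsur, Subgroup.card_top, Nat.card_eq_fintype_card]
    rfl
  rw [← Subgroup.card_mul_index K0, h1, h2]

theorem chainB_ok : chainOK tabs 1408 tabs.length chainB = true ∧ chainSize chainB = 177408000 := by
  decide +kernel

theorem bound_of_cand (c : List (Lev × (ℕ → Bool))) (S : Subgroup N0)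
    (hok : chainOK tabs 1408 tabs.length (c.map Prod.fst) = true) (hsize : chainSize (c.map Prod.fst) = 177408000)
    (hS : CandOK act S c) : Nat.card S ≤ candSize c := by
  haveI := card_N0.1
  exact tight_bound im0 act tabs act_tab c ⊤ S hok inferInstance (fun _ _ _ _ => Subgroup.mem_top _)
    (by rw [Subgroup.card_top, card_N0_eq, hsize]) le_top hS

/-- The base points. -/
def baseP : List ℕ := [0, 196, 16, 7]

/-- The tests of being the given point. -/
def selfC : List (Lev × (ℕ → Bool)) := chainB.map fun M => (M, fun q => q == M.b)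

theorem selfC_spec : selfC.map Prod.fst = chainB ∧ candSize selfC = 1 ∧ chainB.map Lev.b = baseP :=
  ⟨by simp [selfC, List.map_map, Function.comp_def], by decide +kernel, by decide +kernel⟩

theorem candOK_self : ∀ (l : List Lev) (S : Subgroup N0),
    (∀ M ∈ l, ∀ p : Fin 1408, (p : ℕ) = M.b → ∀ s ∈ S, act s p = p) →
    CandOK act S (l.map fun M => (M, fun q => q == M.b))
  | [], _, _ => trivial
  | M :: l, S, h => by
    refine ⟨fun p hp s hs => ?_, fun S' hS' _ =>
      candOK_self l S' fun M' hM' p hp s hs => h M' (List.mem_cons_of_mem M hM') p hp s (hS' hs)⟩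
    have e : (act s)⁻¹ p = p := Equiv.Perm.inv_eq_iff_eq.2 (h M List.mem_cons_self p hp s hs).symm
    simp [e, hp]

theorem eq_one_of_fix {g : N0} (h : ∀ p : Fin 1408, (p : ℕ) ∈ baseP → act g p = p) : g = 1 := by
  haveI := card_N0.1
  obtain ⟨h1, h2, h3⟩ := selfC_spec
  let S : Subgroup N0 := Subgroup.zpowers g
  have hfix : ∀ M ∈ chainB, ∀ p : Fin 1408, (p : ℕ) = M.b → ∀ s ∈ S, act s p = p := by
    intro M hM p hp s hs
    have hle : S ≤ (MulAction.stabilizer (Equiv.Perm (Fin 1408)) p).comap act := by
      rw [Subgroup.zpowers_le]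
      exact h p (by rw [← h3, hp]; exact List.mem_map_of_mem hM)
    exact hle hs
  have hb := bound_of_cand selfC S (by rw [h1]; exact chainB_ok.1) (by rw [h1]; exact chainB_ok.2)
    (candOK_self chainB S hfix)
  rw [h2] at hb
  have hS : S = ⊥ := Subgroup.eq_bot_of_card_le S hb
  exact (Subgroup.mem_bot).1 (hS ▸ Subgroup.mem_zpowers g)

/-- The images of the base points agree. -/
def sameW (u v : List ℕ) : Bool := okW u && okW v && baseP.all fun b => ev u b == ev v b

theorem eq_of_same {u v : List ℕ} (h : sameW u v = true) : val0 u = val0 v := by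
  simp only [sameW, Bool.and_eq_true, List.all_eq_true, beq_iff_eq] at h
  obtain ⟨⟨hu, hv⟩, hp⟩ := h
  refine mul_inv_eq_one.1 (eq_one_of_fix fun p hpb => ?_)
  have e : (act (val0 u))⁻¹ p = (act (val0 v))⁻¹ p :=
    Fin.ext (by rw [ev_eq hu, ev_eq hv]; exact hp _ hpb)
  rw [map_mul, map_inv, Equiv.Perm.mul_apply, ← e]
  simp

end Cfsg.Lib.HNIndex
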