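import Cfsg.Agent.HNIndex.OutData
import Cfsg.Agent.HNIndex.Setting
import Cfsg.Agent.HNIndex.Checker

/-!
Checks for the outer automorphisms: the symmetries of the graph on 100 vertices commuting with an element of order
eleven, and the elements centralising the point stabiliser on 1408 points.
-/

set_option autoImplicit false
set_option Elab.async false

namespace Cfsg.Lib.HNIndex

open Cfsg.Lib Cfsg.Lib.HNPres Cfsg.Lib.CosetCert Cfsg.Lib.HSModel

/-- The image under a power. -/
def pw (j a : ℕ) : ℕ := (ePow >>> (8 * (100 * j + a))) % 256

theorem pw_ok : ((List.range 11).all fun j => (List.range 100).all fun a =>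
    evalW pTabs (List.replicate j eW).flatten a == pw j a) = true := by decide +kernel

theorem eW_ok : okW eW = true ∧ (List.replicate 11 eW).flatten.all (fun l => Nat.blt l 5) = true ∧
    sameW (List.replicate 11 eW).flatten [] = true ∧ pw 1 eFix = eFix ∧
    ((List.range 100).all fun a => pw 1 a != a || a == eFix) = true ∧ (pw 1 0 != 0) = true := by
  decide +kernel

/-- The two pairs agree under all powers. -/
def okPair (r v : ℕ) (q : ℕ × ℕ) : Bool :=
  (List.range 11).all fun j => adjB r (pw j q.1) == adjB v (pw j q.2)

/-- The search over the images of the representatives. -/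
def dfs : List ℕ → List (ℕ × ℕ) → Bool
  | [], A => (List.range 11).any fun j => A.all fun q => pw j q.1 == q.2
  | r :: rs, A => (List.range 100).all fun v =>
      !(v != eFix && (adjB r eFix == adjB v eFix) && okPair r v (r, v) && A.all (okPair r v)) || dfs rs ((r, v) :: A)

theorem dfs_ok : dfs eReps [] = true := by decide +kernel

theorem own_ok : ((List.range 100).all fun a =>
    Nat.blt (eOwn.getD a (0, 0)).2 11 && ((eOwn.getD a (0, 0)).1 == eFix || eReps.contains (eOwn.getD a (0, 0)).1) &&
      pw (eOwn.getD a (0, 0)).2 (eOwn.getD a (0, 0)).1 == a) = true ∧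
    (eReps.all fun r => Nat.blt r 100 && r != eFix) = true ∧ Nat.blt eFix 100 = true := by decide +kernel

theorem cFix_ok : (cFix.all fun q => q.2.all (fun w => okW w && ev w 0 == 0 && evalW pTabs w q.1 == q.1) &&
    (List.range 100).all fun a => a == q.1 || q.2.any fun w => evalW pTabs w a != a) = true := by decide +kernel

theorem cOrb_ok : ((List.range 100).all fun a =>
    (cFix.any fun q => q.1 == (cOrb.getD a (0, [])).1) && okW (cOrb.getD a (0, [])).2 &&
      ev (cOrb.getD a (0, [])).2 0 == 0 && evalW pTabs (cOrb.getD a (0, [])).2 (cOrb.getD a (0, [])).1 == a &&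
      Nat.blt (cOrb.getD a (0, [])).1 100) = true := by decide +kernel

theorem fix1408_ok : ((List.range 1408).all fun p =>
    !(ev [2] p == p && ev [1, 2, 0] p == p) || ((List.range 4).any fun k => ev (List.replicate k 0) 0 == p)) = true := by
  decide +kernel

end Cfsg.Lib.HNIndex
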