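import Cfsg.Agent.CosetCert.Lower

/-!
Orders of subgroups bounded above by a tight chain and conditions on the images of the base points.
-/

set_option autoImplicit false

namespace Cfsg.Lib.HNIndex

open Cfsg.Lib.PermCert Cfsg.Lib.CosetCert

theorem chain_letters' {n : ℕ} (tabs : List PP) : ∀ (c : List Lev), chainOK tabs n tabs.length c = true →
    ∀ K ∈ c, ∀ w ∈ K.gens, ∀ l ∈ w, l < tabs.length
  | [], _, K, hK => by simp at hK
  | M :: r, hc, K, hK => by
    simp only [chainOK, Bool.and_eq_true] at hc
    rcases List.mem_cons.1 hK with rfl | hK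
    · simpa [Lev.letters] using hc.1.1.2
    · exact chain_letters' tabs r hc.2 K hK

variable {G : Type*} [Group G] {n : ℕ} (im : ℕ → G) (ψ : G →* Equiv.Perm (Fin n)) (tabs : List PP)

/-- The listed points of a level. -/
def pts (M : Lev) : List ℕ := M.b :: M.orb.map (·.1)

/-- The product of the numbers of listed points passing the tests. -/
def candSize : List (Lev × (ℕ → Bool)) → ℕ
  | [] => 1
  | M :: r => (pts M.1).countP M.2 * candSize r

/-- The elements of `S` fixing the earlier base points send each base point to a point passing its test. -/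
def CandOK (S : Subgroup G) : List (Lev × (ℕ → Bool)) → Prop
  | [] => True
  | M :: r => (∀ p : Fin n, (p : ℕ) = M.1.b → ∀ s ∈ S, M.2 ((ψ s)⁻¹ p : ℕ) = true) ∧
      ∀ S' : Subgroup G, S' ≤ S → (∀ p : Fin n, (p : ℕ) = M.1.b → ∀ s ∈ S', ψ s p = p) → CandOK S' r

theorem tight_bound (hψ : ∀ l < tabs.length, valid n (tabs.getD l (0, 0)) = true ∧
      ψ (im l) = perm n (tabs.getD l (0, 0))) :
    ∀ (c : List (Lev × (ℕ → Bool))) (L S : Subgroup G), chainOK tabs n tabs.length (c.map Prod.fst) = true →
      Finite L → (∀ M ∈ c, ∀ w ∈ M.1.gens, wval im w ∈ L) → Nat.card L ≤ chainSize (c.map Prod.fst) →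
      S ≤ L → CandOK ψ S c → Nat.card S ≤ candSize c
  | [], L, S, _, hfin, _, hle, hS, _ => by
    haveI := hfin
    exact (Nat.card_le_card_of_injective _ (Subgroup.inclusion_injective hS)).trans hle
  | M :: r, L, S, hc, hfin, hmem, hle, hS, hcand => by
    haveI := hfin
    haveI : Finite S := Finite.of_injective _ (Subgroup.inclusion_injective hS)
    simp only [List.map_cons, chainOK, Bool.and_eq_true] at hc
    obtain ⟨⟨⟨hok, hlet⟩, hfix⟩, hr⟩ := hc
    simp only [Lev.ok, Bool.and_eq_true, decide_eq_true_eq] at hok
    obtain ⟨hb, horb⟩ := hok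
    simp only [Lev.letters, List.all_eq_true, decide_eq_true_eq] at hlet
    set p : Fin n := ⟨M.1.b, hb⟩
    let orbR : Subgroup G → Set (Fin n) := fun K => Set.range fun k : K => (ψ (k : G))⁻¹ p
    let stab : Subgroup G → Subgroup G := fun K =>
      K ⊓ (MulAction.stabilizer (Equiv.Perm (Fin n)) p).comap ψ
    have horbstab : ∀ K : Subgroup G, Nat.card K = Nat.card (orbR K) * Nat.card (stab K) := fun K => by
      letI := MulAction.compHom (Fin n) (ψ.comp K.subtype)
      have h1 : orbR K = MulAction.orbit K p := by
        ext q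
        constructor
        · rintro ⟨k, rfl⟩
          refine ⟨k⁻¹, ?_⟩
          show ψ ((k⁻¹ : K) : G) p = _
          rw [Subgroup.coe_inv, map_inv]
        · rintro ⟨k, rfl⟩
          refine ⟨k⁻¹, ?_⟩
          show (ψ ((k⁻¹ : K) : G))⁻¹ p = ψ (k : G) p
          rw [Subgroup.coe_inv, map_inv, inv_inv]
      have h2 : stab K = (MulAction.stabilizer K p).map K.subtype := by
        ext g
        constructor
        · rintro ⟨hg, hg'⟩
          exact ⟨⟨g, hg⟩, hg', rfl⟩
        · rintro ⟨k, hk, rfl⟩
          exact ⟨k.2, hk⟩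
      rw [h1, h2, Nat.card_congr ((MulAction.stabilizer K p).equivMapOfInjective K.subtype
        K.subtype_injective).symm.toEquiv, ← Nat.card_prod]
      exact (Nat.card_congr (MulAction.orbitProdStabilizerEquivGroup K p)).symm
    have hmem' : ∀ N ∈ r, ∀ w ∈ N.1.gens, wval im w ∈ stab L := by
      intro N hN w hw
      refine ⟨hmem N (List.mem_cons_of_mem M hN) w hw, ?_⟩
      have hfw := List.all_eq_true.1 hfix N.1 (List.mem_map_of_mem hN)
      simp only [Lev.fixes, List.all_eq_true, beq_iff_eq] at hfw
      have e := evalW_apply im ψ tabs hψ w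
        (fun l hl => chain_letters' tabs _ hr N.1 (List.mem_map_of_mem hN) w hw l hl) p
      rw [show evalW tabs w (p : ℕ) = M.1.b from hfw w hw] at e
      have e' : (ψ (wval im w))⁻¹ p = p := Fin.ext e
      show ψ (wval im w) p = p
      conv_lhs => rw [← e']
      simp
    have hlow : chainSize (r.map Prod.fst) ≤ Nat.card (stab L) :=
      chain_bound im ψ tabs hψ _ (stab L) hr (Finite.of_injective _ (Subgroup.inclusion_injective inf_le_left))
        (fun K hK w hw => by
          obtain ⟨N, hN, rfl⟩ := List.mem_map.1 hK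
          exact hmem' N hN w hw)
    have scan : ∀ (es : List (ℕ × ℕ × ℕ)) (seen : ℕ) (T : Finset (Fin n)),
        (∀ x : Fin n, seen.testBit x = true ↔ x ∈ T) → (∀ j, n ≤ j → seen.testBit j = false) →
        (∀ x ∈ T, x ∈ orbR L) → scanOrb tabs n M.1.gens seen es = true →
        ∃ T' : Finset (Fin n), T'.card = T.card + es.length ∧ (∀ x ∈ T', x ∈ orbR L) ∧
          ∀ x ∈ T', x ∈ T ∨ (x : ℕ) ∈ es.map (·.1) := by
      intro es
      induction es with
      | nil => intro _ T _ _ hT _; exact ⟨T, by simp, hT, fun x hx => Or.inl hx⟩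
      | cons e es ih =>
        intro seen T hseen hhigh hT hsc
        obtain ⟨q, par, g⟩ := e
        simp only [scanOrb, Bool.and_eq_true, decide_eq_true_eq, Bool.not_eq_true', beq_iff_eq] at hsc
        obtain ⟨⟨⟨⟨⟨hq, hnew⟩, hpar⟩, hg⟩, hev⟩, hrest⟩ := hsc
        have hparlt : par < n := by
          by_contra h
          rw [hhigh par (by omega)] at hpar
          exact Bool.noConfusion hpar
        rw [List.getD_eq_getElem _ _ hg] at hev
        have hw : M.1.gens[g] ∈ M.1.gens := List.getElem_mem hg
        have e := evalW_apply im ψ tabs hψ _ (hlet _ hw) ⟨par, hparlt⟩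
        rw [hev] at e
        have hqo : (⟨q, hq⟩ : Fin n) ∈ orbR L := by
          obtain ⟨k, hk⟩ := hT ⟨par, hparlt⟩ ((hseen _).1 hpar)
          refine ⟨k * ⟨_, hmem M List.mem_cons_self _ hw⟩, ?_⟩
          show (ψ ((k : G) * wval im _))⁻¹ p = _
          rw [map_mul, mul_inv_rev, Equiv.Perm.mul_apply, show (ψ (k : G))⁻¹ p = _ from hk]
          exact Fin.ext e
        have hqT : (⟨q, hq⟩ : Fin n) ∉ T := fun h => by
          rw [(hseen _).2 h] at hnew
          exact Bool.noConfusion hnew
        obtain ⟨T', hc', ho', hin'⟩ := ih (seen ||| 1 <<< q) (insert ⟨q, hq⟩ T)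
          (fun x => by
            rw [Nat.testBit_or, Nat.one_shiftLeft, Nat.testBit_two_pow, Bool.or_eq_true, decide_eq_true_eq,
              hseen, Finset.mem_insert, Fin.ext_iff]
            exact or_comm.trans (or_congr ⟨Eq.symm, Eq.symm⟩ Iff.rfl))
          (fun j hj => by
            rw [Nat.testBit_or, Nat.one_shiftLeft, Nat.testBit_two_pow, hhigh j hj, Bool.false_or,
              decide_eq_false_iff_not]
            omega)
          (fun x hx => by
            rcases Finset.mem_insert.1 hx with rfl | hx
            · exact hqo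
            · exact hT x hx) hrest
        refine ⟨T', ?_, ho', fun x hx => ?_⟩
        · rw [hc', Finset.card_insert_of_notMem hqT, List.length_cons]
          omega
        · rcases hin' x hx with h | h
          · rcases Finset.mem_insert.1 h with rfl | h
            · exact Or.inr List.mem_cons_self
            · exact Or.inl h
          · exact Or.inr (List.mem_cons_of_mem _ h)
    obtain ⟨T, hTc, hTo, hTin⟩ := scan M.1.orb (1 <<< M.1.b) {p} (fun x => by
        rw [Nat.one_shiftLeft, Nat.testBit_two_pow, decide_eq_true_eq, Finset.mem_singleton, Fin.ext_iff]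
        exact ⟨Eq.symm, Eq.symm⟩)
      (fun j hj => by rw [Nat.one_shiftLeft, Nat.testBit_two_pow, decide_eq_false_iff_not]; omega)
      (fun x hx => by rw [Finset.mem_singleton.1 hx]; exact ⟨1, by simp⟩) horb
    rw [Finset.card_singleton] at hTc
    have hTsub : (T : Set (Fin n)) ⊆ orbR L := fun x hx => hTo x hx
    have hTle : T.card ≤ Nat.card (orbR L) := by
      rw [Nat.card_coe_set_eq, ← Set.ncard_coe_finset]
      exact Set.ncard_le_ncard hTsub (Set.toFinite _)
    have hL := horbstab L
    simp only [List.map_cons, chainSize] at hle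
    have hstabL : Nat.card (stab L) ≤ chainSize (r.map Prod.fst) := by
      by_contra h
      push Not at h
      have : (M.1.orb.length + 1) * (chainSize (r.map Prod.fst) + 1) ≤ Nat.card L := by
        rw [hL]
        exact Nat.mul_le_mul (by omega) h
      rw [Nat.mul_succ] at this
      omega
    haveI : Finite (stab L) := Finite.of_injective _ (Subgroup.inclusion_injective inf_le_left)
    have hpos : 0 < chainSize (r.map Prod.fst) := lt_of_lt_of_le Nat.card_pos hstabL
    have horbL : Nat.card (orbR L) = T.card := by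
      refine le_antisymm ?_ hTle
      by_contra h
      push Not at h
      have : (T.card + 1) * chainSize (r.map Prod.fst) ≤ Nat.card L := by
        rw [hL]
        exact Nat.mul_le_mul h hlow
      rw [Nat.succ_mul, hTc] at this
      rw [Nat.add_comm] at hle
      omega
    have hTeq : orbR L = (T : Set (Fin n)) :=
      (Set.eq_of_subset_of_ncard_le hTsub (by rw [Set.ncard_coe_finset, ← horbL, Nat.card_coe_set_eq])
        (Set.toFinite _)).symm
    obtain ⟨hc1, hc2⟩ := hcand
    have horbS : Nat.card (orbR S) ≤ (pts M.1).countP M.2 := by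
      let F : Finset (Fin n) := Finset.univ.filter fun x => (x : ℕ) ∈ (pts M.1).filter M.2
      have hsub : orbR S ⊆ (F : Set (Fin n)) := by
        rintro _ ⟨s, rfl⟩
        have h1 : (ψ (s : G))⁻¹ p ∈ orbR L := ⟨⟨s.1, hS s.2⟩, rfl⟩
        rw [hTeq] at h1
        rw [Finset.coe_filter]
        refine ⟨Finset.mem_univ _, List.mem_filter.2 ⟨?_, hc1 p rfl s s.2⟩⟩
        rcases hTin _ h1 with h | h
        · rw [Finset.mem_singleton] at h
          show ((ψ (s : G))⁻¹ p : ℕ) ∈ pts M.1
          rw [h]
          exact List.mem_cons_self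
        · exact List.mem_cons_of_mem _ h
      rw [Nat.card_coe_set_eq]
      refine (Set.ncard_le_ncard hsub (Set.toFinite _)).trans ?_
      rw [Set.ncard_coe_finset, List.countP_eq_length_filter]
      refine le_trans ?_ (List.toFinset_card_le _)
      refine Finset.card_le_card_of_injOn (fun x => (x : ℕ)) ?_ (fun a _ b _ h => Fin.ext h)
      intro x hx
      exact List.mem_toFinset.2 (Finset.mem_filter.1 hx).2
    have hrec : Nat.card (stab S) ≤ candSize r :=
      tight_bound hψ r (stab L) (stab S) hr (Finite.of_injective _ (Subgroup.inclusion_injective inf_le_left))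
        hmem' hstabL (inf_le_inf_right _ hS) (hc2 _ inf_le_left (fun q hq s hs => by
          rw [show q = p from Fin.ext hq]
          exact hs.2))
    rw [horbstab S, candSize]
    exact Nat.mul_le_mul horbS hrec

end Cfsg.Lib.HNIndex
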